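import Cfsg.Agent.Lib.Classical.SimMaxBasic
import Cfsg.Agent.Lib.Orth.WittIndex

/-!
# Lemmas on one quadratic space of odd characteristic
-/

set_option autoImplicit false
set_option linter.unusedSectionVars false

namespace CfsgLib.Classical.TensorMaxO

open Module QuadraticMap CfsgLib.Orth

variable {F V : Type*} [Field F] [AddCommGroup V] [Module F V] [FiniteDimensional F V]
  {Q : QuadraticForm F V}

theorem quad_eq_zero_of_self (h2 : (2 : F) ≠ 0) {v : V} (h : polar Q v v = 0) : Q v = 0 := by
  rw [polar_self'] at h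
  exact (mul_eq_zero.1 h).resolve_left h2

theorem singular_add_anisotropic {e e' v : V} (he : Q e = 0) (he' : Q e' = 0) (hee : polar Q e e' = 1)
    (hev : polar Q e v = 0) (he'v : polar Q e' v = 0) : Q (e + v + (-Q v) • e') = 0 := by
  simp only [quad_add', quad_smul', polar_add_left, polar_smul_r', he, he', hee, hev, polar_comm _ v e', he'v]
  ring

/-- A singular vector in a subspace, away from a given line. -/
theorem exists_singular_in [Fintype F] (h2 : (2 : F) ≠ 0) {S : Submodule F V} (hS : 4 ≤ finrank F S) {c : V}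
    (hc : c ≠ 0) : ∃ y ∈ S, Q y = 0 ∧ y ∉ F ∙ c := by
  obtain ⟨l, hl, -⟩ := Submodule.exists_dual_map_eq_bot_of_notMem
    (show c ∉ (⊥ : Submodule F V) by simpa using hc) inferInstance
  have h1 := SimMax.finrank_inf_ker S l
  obtain ⟨y, hy, hy0, hQy⟩ := SimMax.exists_singular_of_three (Q := Q) h2 (U := S ⊓ LinearMap.ker l) (by omega)
  refine ⟨y, hy.1, hQy, fun hmem => hy0 ?_⟩
  obtain ⟨t, rfl⟩ := Submodule.mem_span_singleton.1 hmem
  have e : l (t • c) = 0 := hy.2
  rw [map_smul, smul_eq_mul] at e
  rw [(mul_eq_zero.1 e).resolve_right hl, zero_smul]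

theorem finrank_perp_vec {S : Submodule F V} (x : V) :
    finrank F S ≤ finrank F ↥(S ⊓ LinearMap.ker (polarBilin Q x)) + 1 := SimMax.finrank_inf_ker S (polarBilin Q x)

theorem mem_ker_polar {x y : V} : y ∈ LinearMap.ker (polarBilin Q x) ↔ polar Q x y = 0 := Iff.rfl

theorem finrank_kerPolar (x : V) : finrank F V ≤ finrank F ↥(LinearMap.ker (polarBilin Q x)) + 1 := by
  have h := finrank_perp_vec (Q := Q) (S := ⊤) x
  rwa [finrank_top, top_inf_eq] at h

section Nondegenerate

variable (hQ : (polarBilin Q).Nondegenerate) (h2 : (2 : F) ≠ 0)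
include hQ

theorem exists_partner {e : V} (he : Q e = 0) (he0 : e ≠ 0) : ∃ e', Q e' = 0 ∧ polar Q e e' = 1 := by
  obtain ⟨z, -, hz⟩ := exists_polar_one hQ (W := ⊥) (show e ∉ (⊥ : Submodule F V) by simpa using he0)
  refine ⟨z + (-Q z) • e, ?_, ?_⟩
  · rw [quad_add', quad_smul', polar_smul_r', he, hz]; ring
  · rw [polar_add_right, polar_smul_r', polar_self', he, polar_comm _ e z, hz]; ring

theorem exists_partner_perp {c e : V} (he : Q e = 0) (hce : polar Q c e = 0) (hec : e ∉ F ∙ c) :
    ∃ e', Q e' = 0 ∧ polar Q c e' = 0 ∧ polar Q e e' = 1 := by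
  obtain ⟨z, hz0, hz⟩ := exists_polar_one hQ hec
  have hcz : polar Q c z = 0 := by rw [polar_comm]; exact hz0 c (Submodule.mem_span_singleton_self c)
  refine ⟨z + (-Q z) • e, ?_, ?_, ?_⟩
  · rw [quad_add', quad_smul', polar_smul_r', he, hz]; ring
  · rw [polar_add_right, polar_smul_r', hce, hcz]; ring
  · rw [polar_add_right, polar_smul_r', polar_self', he, polar_comm _ e z, hz]; ring

omit hQ in
/-- A linear map vanishing on the singular vectors of a subspace with a hyperbolic pair vanishes on it. -/
theorem eq_zero_of_singular {M : Type*} [AddCommGroup M] [Module F M] (φ : V →ₗ[F] M) {S : Submodule F V}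
    {e e' : V} (heS : e ∈ S) (he'S : e' ∈ S) (he : Q e = 0) (he' : Q e' = 0) (hee : polar Q e e' = 1)
    (hφ : ∀ s ∈ S, Q s = 0 → φ s = 0) {y : V} (hy : y ∈ S) : φ y = 0 := by
  set v := y - polar Q e' y • e - polar Q e y • e' with hv
  have hee' : polar Q e' e = 1 := by rw [polar_comm]; exact hee
  have hvS : v ∈ S := S.sub_mem (S.sub_mem hy (S.smul_mem _ heS)) (S.smul_mem _ he'S)
  have hev : polar Q e v = 0 := by
    simp only [hv, polar_sub_right, polar_smul_r', polar_self', he, hee]; ring
  have he'v : polar Q e' v = 0 := by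
    simp only [hv, polar_sub_right, polar_smul_r', polar_self', he', hee']; ring
  have h1 := hφ _ (S.add_mem (S.add_mem heS hvS) (S.smul_mem _ he'S)) (singular_add_anisotropic he he' hee hev he'v)
  rw [map_add, map_add, map_smul, hφ e heS he, hφ e' he'S he', smul_zero, add_zero, zero_add] at h1
  rw [show y = v + polar Q e' y • e + polar Q e y • e' by rw [hv]; abel, map_add, map_add, map_smul, map_smul, h1,
    hφ e heS he, hφ e' he'S he', smul_zero, smul_zero, add_zero, add_zero]

theorem exists_anisotropic_in {S : Submodule F V} (hS : finrank F V < 2 * finrank F S) : ∃ y ∈ S, Q y ≠ 0 := by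
  by_contra! hall
  have := singular_finrank_le hQ S hall
  omega

variable [Fintype F]
include h2

/-- A linear map vanishing on all singular vectors vanishes. -/
theorem eq_zero_of_singular_top {M : Type*} [AddCommGroup M] [Module F M] (φ : V →ₗ[F] M) (hn : 3 ≤ finrank F V)
    (hφ : ∀ s, Q s = 0 → φ s = 0) : φ = 0 := by
  obtain ⟨e, he0, he⟩ := CfsgLib.Orth.exists_singular hQ hn
  obtain ⟨e', he', hee⟩ := exists_partner hQ he he0
  exact LinearMap.ext fun y => eq_zero_of_singular φ (S := ⊤) trivial trivial he he' hee (fun s _ => hφ s) trivial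

/-- A linear map vanishing on the singular vectors orthogonal to `c` vanishes on all vectors orthogonal to `c`. -/
theorem eq_zero_of_singular_perp {M : Type*} [AddCommGroup M] [Module F M] (φ : V →ₗ[F] M) (hn : 5 ≤ finrank F V)
    {c : V} (hc : c ≠ 0) (hφ : ∀ s, polar Q c s = 0 → Q s = 0 → φ s = 0) {y : V} (hy : polar Q c y = 0) : φ y = 0 := by
  have h1 := finrank_kerPolar (Q := Q) c
  obtain ⟨e, hce, he, hec⟩ := exists_singular_in (Q := Q) h2 (S := LinearMap.ker (polarBilin Q c)) (by omega) hc
  obtain ⟨e', he', hce', hee⟩ := exists_partner_perp hQ he hce hec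
  exact eq_zero_of_singular φ (S := LinearMap.ker (polarBilin Q c)) hce hce' he he' hee (fun s hs => hφ s hs) hy

theorem exists_singular_polar_ne (hn : 3 ≤ finrank F V) {v : V} (hv : v ≠ 0) : ∃ e, Q e = 0 ∧ polar Q e v ≠ 0 := by
  by_contra! hall
  refine hv (hQ.2 v fun x => ?_)
  exact LinearMap.congr_fun (eq_zero_of_singular_top hQ h2 ((polarBilin Q).flip v) hn hall) x

/-- An endomorphism with all singular vectors as eigenvectors is a scalar. -/
theorem scalar_of_eigen (hn : 3 ≤ finrank F V) (T : V →ₗ[F] V) (hT : ∀ s, Q s = 0 → T s ∈ F ∙ s) :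
    ∃ l : F, T = l • LinearMap.id := by
  obtain ⟨e, he0, he⟩ := CfsgLib.Orth.exists_singular hQ hn
  obtain ⟨e', he', hee⟩ := exists_partner hQ he he0
  have hee' : polar Q e' e = 1 := by rw [polar_comm]; exact hee
  obtain ⟨l, hl⟩ := Submodule.mem_span_singleton.1 (hT e he)
  obtain ⟨l', hl'⟩ := Submodule.mem_span_singleton.1 (hT e' he')
  have key : ∀ v, polar Q e v = 0 → polar Q e' v = 0 → Q v ≠ 0 → T v = l • v ∧ l' = l := by
    intro v hv hv' hQv
    obtain ⟨m, hm⟩ := Submodule.mem_span_singleton.1 (hT _ (singular_add_anisotropic he he' hee hv hv'))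
    obtain ⟨k, hk⟩ := Submodule.mem_span_singleton.1 (hT _ (singular_add_anisotropic (v := -v) he he' hee
      (by rw [polar_neg_right, hv, neg_zero]) (by rw [polar_neg_right, hv', neg_zero])))
    simp only [map_add, map_smul, map_neg, QuadraticMap.map_neg, smul_add, smul_smul, ← hl, ← hl'] at hm hk
    have hpv : polar Q v e = 0 ∧ polar Q v e' = 0 := ⟨by rw [polar_comm, hv], by rw [polar_comm, hv']⟩
    have hvv : polar Q v v ≠ 0 := by rw [polar_self']; exact mul_ne_zero h2 hQv
    have hsum : m • e + m • v + (m * -Q v) • e' + (k • e + k • (-v) + (k * -Q v) • e') =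
        (2 * l) • e + (2 * (-Q v * l')) • e' := by rw [hm, hk]; module
    have a1 := congrArg (polar Q e') hsum
    have a2 := congrArg (polar Q e) hsum
    have a3 := congrArg (polar Q v) hsum
    simp only [polar_add_right, polar_smul_r', polar_neg_right, polar_self', he, he', hee, hee', hv, hv', hpv.1, hpv.2]
      at a1 a2 a3
    have e1 : m + k = 2 * l := by linear_combination a1
    have e2 : m + k = 2 * l' := mul_left_cancel₀ (neg_ne_zero.2 hQv) (by linear_combination a2)
    have e3 : m = k := by
      refine mul_right_cancel₀ (show 2 * Q v ≠ 0 from mul_ne_zero h2 hQv) ?_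
      linear_combination a3
    have e4 : m = l := mul_left_cancel₀ h2 (by linear_combination e1 + e3)
    have e5 : l' = l := mul_left_cancel₀ h2 (by linear_combination e1 - e2)
    refine ⟨?_, e5⟩
    rw [e5, e4] at hm
    linear_combination (norm := module) -hm
  obtain ⟨v₀, hv₀, hv₀', hQv₀⟩ : ∃ v, polar Q e v = 0 ∧ polar Q e' v = 0 ∧ Q v ≠ 0 := by
    by_contra! hall
    obtain ⟨x, hx0, hx, hxe, hxe'⟩ : ∃ x, x ≠ 0 ∧ Q x = 0 ∧ polar Q e x = 0 ∧ polar Q e' x = 0 := by
      have h1 := finrank_kerPolar (Q := Q) e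
      have h3 := finrank_perp_vec (Q := Q) (S := LinearMap.ker (polarBilin Q e)) e'
      obtain ⟨x, hx, hx0⟩ := Submodule.exists_mem_ne_zero_of_ne_bot
        (p := LinearMap.ker (polarBilin Q e) ⊓ LinearMap.ker (polarBilin Q e')) (fun h0 => by
          rw [h0, finrank_bot] at h3; omega)
      exact ⟨x, hx0, hall x hx.1 hx.2, hx.1, hx.2⟩
    refine hx0 (hQ.1 x fun y => ?_)
    set v := y - polar Q e' y • e - polar Q e y • e' with hv
    have hev : polar Q e v = 0 := by simp only [hv, polar_sub_right, polar_smul_r', polar_self', he, hee]; ring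
    have he'v : polar Q e' v = 0 := by simp only [hv, polar_sub_right, polar_smul_r', polar_self', he', hee']; ring
    have h3 := hall (x + v) (by rw [polar_add_right, hxe, hev, add_zero]) (by rw [polar_add_right, hxe', he'v, add_zero])
    rw [quad_add', hx, hall v hev he'v, zero_add, zero_add] at h3
    rw [QuadraticMap.polarBilin_apply_apply, show y = v + polar Q e' y • e + polar Q e y • e' by rw [hv]; abel,
      polar_add_right, polar_add_right, polar_smul_r', polar_smul_r', h3, polar_comm _ x e, polar_comm _ x e', hxe, hxe']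
    ring
  obtain ⟨hTv₀, hll⟩ := key v₀ hv₀ hv₀' hQv₀
  refine ⟨l, sub_eq_zero.1 (LinearMap.ext fun y => ?_)⟩
  set v := y - polar Q e' y • e - polar Q e y • e' with hv
  have hev : polar Q e v = 0 := by simp only [hv, polar_sub_right, polar_smul_r', polar_self', he, hee]; ring
  have he'v : polar Q e' v = 0 := by simp only [hv, polar_sub_right, polar_smul_r', polar_self', he', hee']; ring
  have hTv : T v = l • v := by
    by_cases hQv : Q v = 0
    · obtain ⟨t, ht⟩ := Submodule.mem_span_singleton.1 (hT v hQv)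
      obtain ⟨m, hm⟩ := Submodule.mem_span_singleton.1 (hT (e + v) (by rw [quad_add', he, hQv, hev]; ring))
      rw [map_add, ← hl, ← ht, smul_add] at hm
      have h1 := congrArg (polar Q e') hm
      simp only [polar_add_right, polar_smul_r', hee', he'v] at h1
      rw [show m = l by linear_combination h1] at hm
      rw [← ht]
      exact (add_left_cancel hm).symm
    · exact (key v hev he'v hQv).1
  rw [show y = v + polar Q e' y • e + polar Q e y • e' by rw [hv]; abel]
  simp only [LinearMap.sub_apply, LinearMap.smul_apply, LinearMap.id_apply, LinearMap.zero_apply, map_add, map_smul,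
    hTv, ← hl, ← hl', hll]
  module

/-- A symmetric endomorphism with `f(u, T u) = 0` at all singular vectors is a scalar. -/
theorem scalar_of_singular_form (hq : (∃ s : F, s ≠ 0 ∧ s * s ≠ 1) ∨ 4 ≤ finrank F V) (hn : 3 ≤ finrank F V)
    (T : V →ₗ[F] V) (hs : ∀ x y, polar Q (T x) y = polar Q x (T y))
    (hT : ∀ u, Q u = 0 → polar Q u (T u) = 0) : ∃ l : F, T = l • LinearMap.id := by
  obtain ⟨e, he0, he⟩ := CfsgLib.Orth.exists_singular hQ hn
  obtain ⟨e', he', hee⟩ := exists_partner hQ he he0
  have hee' : polar Q e' e = 1 := by rw [polar_comm]; exact hee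
  refine ⟨polar Q e (T e'), ?_⟩
  set l := polar Q e (T e') with hl
  set R := T - l • LinearMap.id with hR
  have hRs : ∀ x y, polar Q (R x) y = polar Q x (R y) := fun x y => by
    simp only [hR, LinearMap.sub_apply, LinearMap.smul_apply, LinearMap.id_apply, polar_sub_left, polar_sub_right,
      polar_smul_l', polar_smul_r', hs]
  have hRu : ∀ u, Q u = 0 → polar Q u (R u) = 0 := fun u hu => by
    simp only [hR, LinearMap.sub_apply, LinearMap.smul_apply, LinearMap.id_apply, polar_sub_right, polar_smul_r', hT u hu,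
      polar_self', hu]
    ring
  have h00 := hRu e he
  have h11 := hRu e' he'
  have h01 : polar Q e (R e') = 0 := by
    simp only [hR, LinearMap.sub_apply, LinearMap.smul_apply, LinearMap.id_apply, polar_sub_right, polar_smul_r', hee,
      ← hl]
    ring
  have h10 : polar Q e' (R e) = 0 := by rw [← hRs, polar_comm]; exact h01
  clear_value R
  have main : ∀ v, polar Q e v = 0 → polar Q e' v = 0 →
      polar Q v (R v) = 0 ∧ polar Q e (R v) = Q v * polar Q e' (R v) := by
    intro v hv hv'
    have a := hRu _ (singular_add_anisotropic he he' hee hv hv')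
    have b := hRu _ (singular_add_anisotropic (v := -v) he he' hee (by rw [polar_neg_right, hv, neg_zero])
      (by rw [polar_neg_right, hv', neg_zero]))
    simp only [QuadraticMap.map_neg, map_add, map_smul, map_neg, polar_add_left, polar_add_right, polar_smul_l',
      polar_smul_r', polar_neg_left, polar_neg_right, h00, h11, h01, h10,
      show polar Q v (R e) = polar Q e (R v) by rw [← hRs, polar_comm],
      show polar Q v (R e') = polar Q e' (R v) by rw [← hRs, polar_comm]] at a b
    refine ⟨mul_left_cancel₀ h2 (by linear_combination a + b), ?_⟩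
    exact mul_left_cancel₀ (mul_ne_zero h2 h2) (by linear_combination a - b)
  set v0 := fun y => y - polar Q e' y • e - polar Q e y • e' with hv0
  have hdec : ∀ y, polar Q e (v0 y) = 0 ∧ polar Q e' (v0 y) = 0 ∧ y = v0 y + polar Q e' y • e + polar Q e y • e' :=
    fun y => ⟨by simp only [hv0, polar_sub_right, polar_smul_r', polar_self', he, hee]; ring,
      by simp only [hv0, polar_sub_right, polar_smul_r', polar_self', he', hee']; ring, by simp only [hv0]; abel⟩
  have hI : ∀ v w, polar Q e v = 0 → polar Q e' v = 0 → polar Q e w = 0 → polar Q e' w = 0 →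
      Q w * polar Q e' (R v) + polar Q v w * polar Q e' (R w) = 0 := by
    intro v w hv hv' hw hw'
    have a := (main _ (show polar Q e (v + w) = 0 by rw [polar_add_right, hv, hw, add_zero])
      (show polar Q e' (v + w) = 0 by rw [polar_add_right, hv', hw', add_zero])).2
    have b := (main _ (show polar Q e (v + -w) = 0 by rw [polar_add_right, polar_neg_right, hv, hw]; simp)
      (show polar Q e' (v + -w) = 0 by rw [polar_add_right, polar_neg_right, hv', hw']; simp)).2
    simp only [quad_add', QuadraticMap.map_neg, polar_neg_right, map_add, map_neg, polar_add_right] at a b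
    exact mul_left_cancel₀ h2 (by linear_combination -a - b + 2 * (main v hv hv').2)
  have hzero : ∀ v, polar Q e v = 0 → polar Q e' v = 0 → polar Q e (R v) = 0 ∧ polar Q e' (R v) = 0 := by
    intro v hv hv'
    suffices h : polar Q e' (R v) = 0 from ⟨by rw [(main v hv hv').2, h, mul_zero], h⟩
    by_contra hg
    by_cases hk : ∃ u, polar Q e u = 0 ∧ polar Q e' u = 0 ∧ polar Q e' (R u) = 0 ∧ u ≠ 0
    · obtain ⟨u, hu, hu', hug, hu0⟩ := hk
      refine hu0 (hQ.1 u fun y => ?_)
      obtain ⟨hy, hy', hyd⟩ := hdec y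
      have huv : polar Q u v = 0 := (mul_eq_zero.1 (show polar Q u v * polar Q e' (R v) = 0 by
        linear_combination hI u v hu hu' hv hv' - Q v * hug)).resolve_right hg
      have h1 := hI u (v0 y) hu hu' hy hy'
      have h2' := hI u (v + v0 y) hu hu' (by rw [polar_add_right, hv, hy, add_zero])
        (by rw [polar_add_right, hv', hy', add_zero])
      simp only [map_add, polar_add_right, quad_add', huv, hug, mul_zero, zero_add] at h1 h2'
      have h3 : polar Q u (v0 y) = 0 := (mul_eq_zero.1 (show polar Q u (v0 y) * polar Q e' (R v) = 0 by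
        linear_combination h2' - h1)).resolve_right hg
      rw [QuadraticMap.polarBilin_apply_apply, hyd, polar_add_right, polar_add_right, polar_smul_r', polar_smul_r', h3,
        polar_comm _ u e, polar_comm _ u e', hu, hu']
      ring
    push Not at hk
    have hn3 : finrank F V ≤ 3 := by
      by_contra hlt
      have h1 := finrank_kerPolar (Q := Q) e
      have h3 := finrank_perp_vec (Q := Q) (S := LinearMap.ker (polarBilin Q e)) e'
      have h4 := SimMax.finrank_inf_ker (LinearMap.ker (polarBilin Q e) ⊓ LinearMap.ker (polarBilin Q e'))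
        (polarBilin Q e' ∘ₗ R)
      obtain ⟨u, hu, hu0⟩ := Submodule.exists_mem_ne_zero_of_ne_bot
        (p := LinearMap.ker (polarBilin Q e) ⊓ LinearMap.ker (polarBilin Q e') ⊓ LinearMap.ker (polarBilin Q e' ∘ₗ R))
        (fun h0 => by rw [h0, finrank_bot] at h4; omega)
      exact hu0 (hk u hu.1.1 hu.1.2 hu.2)
    obtain ⟨s, hs0, hs1⟩ := hq.resolve_right (by omega)
    have a' := (main _ (show polar Q e (s • v) = 0 by rw [polar_smul_r', hv, mul_zero])
      (show polar Q e' (s • v) = 0 by rw [polar_smul_r', hv', mul_zero])).2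
    simp only [quad_smul', map_smul, polar_smul_r'] at a'
    have hQv : Q v = 0 := by
      by_contra hQv
      exact hs1 (mul_right_cancel₀ (mul_ne_zero hQv hg)
        (mul_left_cancel₀ hs0 (by linear_combination -a' + s * (main v hv hv').2)))
    obtain ⟨y, hvy⟩ : ∃ y, polar Q v y ≠ 0 := by
      by_contra! hall
      exact hg (by rw [hQ.1 v hall, map_zero, polar_zero_right])
    obtain ⟨hy, hy', hyd⟩ := hdec y
    have hvy' : polar Q v (v0 y) ≠ 0 := by
      rw [hyd, polar_add_right, polar_add_right, polar_smul_r', polar_smul_r', polar_comm _ v e, polar_comm _ v e',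
        hv, hv'] at hvy
      simpa using hvy
    have h1 := hI (v0 y) v hy hy' hv hv'
    rw [hQv, polar_comm _ (v0 y) v, zero_mul, zero_add] at h1
    exact hg ((mul_eq_zero.1 h1).resolve_left hvy')
  refine sub_eq_zero.1 (hR.symm.trans (LinearMap.ext fun y => hQ.2 _ fun x => ?_))
  obtain ⟨hy, hy', hyd⟩ := hdec y
  obtain ⟨hx, hx', hxd⟩ := hdec x
  have hvv : polar Q (v0 x) (R (v0 y)) = 0 := by
    have a := (main _ (show polar Q e (v0 x + v0 y) = 0 by rw [polar_add_right, hx, hy, add_zero])
      (show polar Q e' (v0 x + v0 y) = 0 by rw [polar_add_right, hx', hy', add_zero])).1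
    simp only [map_add, polar_add_left, polar_add_right, (main _ hx hx').1, (main _ hy hy').1] at a
    rw [show polar Q (v0 y) (R (v0 x)) = polar Q (v0 x) (R (v0 y)) by rw [← hRs, polar_comm]] at a
    exact mul_left_cancel₀ h2 (by linear_combination a)
  rw [QuadraticMap.polarBilin_apply_apply, hxd, hyd]
  simp only [map_add, map_smul, polar_add_left, polar_add_right, polar_smul_l', polar_smul_r', h00, h11, h01, h10,
    hvv, (hzero _ hy hy').1, (hzero _ hy hy').2]
  rw [show polar Q (v0 x) (R e) = 0 by rw [← hRs, polar_comm, (hzero _ hx hx').1],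
    show polar Q (v0 x) (R e') = 0 by rw [← hRs, polar_comm, (hzero _ hx hx').2]]
  ring

theorem mem_span_of_perp {c x : V} (h : ∀ y, polar Q c y = 0 → polar Q y x = 0) : x ∈ F ∙ c := by
  by_contra hx
  obtain ⟨z, hz0, hz⟩ := exists_polar_one hQ hx
  rw [h z ((polar_comm _ _ _).trans (hz0 c (Submodule.mem_span_singleton_self c)))] at hz
  exact zero_ne_one hz

/-- Two orthogonal anisotropic vectors orthogonal to a singular one. -/
theorem exists_anisotropic_two (hn : 4 ≤ finrank F V) {u : V} (hu : Q u = 0) :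
    ∃ z₁ z₂, polar Q u z₁ = 0 ∧ polar Q u z₂ = 0 ∧ polar Q z₁ z₂ = 0 ∧ Q z₁ ≠ 0 ∧ Q z₂ ≠ 0 := by
  obtain ⟨z₁, huz, hz₁⟩ := exists_anisotropic_in hQ (S := LinearMap.ker (polarBilin Q u))
    (by have := finrank_kerPolar (Q := Q) u; omega)
  rw [mem_ker_polar] at huz
  by_contra! hall
  have hall' : ∀ x, polar Q u x = 0 → polar Q z₁ x = 0 → Q x = 0 := fun x hx hx' => hall z₁ x huz hx hx' hz₁
  rcases eq_or_ne u 0 with rfl | hu0
  · obtain ⟨y, hy, hy0⟩ := exists_anisotropic_in hQ (S := LinearMap.ker (polarBilin Q z₁))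
      (by have := finrank_kerPolar (Q := Q) z₁; omega)
    exact hy0 (hall' y (polar_zero_left _ _) hy)
  have hzu : polar Q z₁ u = 0 := (polar_comm _ _ _).trans huz
  obtain ⟨e', he', hz₁e', hue'⟩ := exists_partner_perp hQ hu hzu (fun hmem => by
    obtain ⟨t, rfl⟩ := Submodule.mem_span_singleton.1 hmem
    rw [quad_smul'] at hu
    exact hu0 (by rw [mul_self_eq_zero.1 ((mul_eq_zero.1 hu).resolve_right hz₁), zero_smul]))
  have h1 := finrank_kerPolar (Q := Q) u
  have h3 := finrank_perp_vec (Q := Q) (S := LinearMap.ker (polarBilin Q u)) e'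
  have h4 := finrank_perp_vec (Q := Q) (S := LinearMap.ker (polarBilin Q u) ⊓ LinearMap.ker (polarBilin Q e')) z₁
  obtain ⟨x, hx, hx0⟩ := Submodule.exists_mem_ne_zero_of_ne_bot
    (p := LinearMap.ker (polarBilin Q u) ⊓ LinearMap.ker (polarBilin Q e') ⊓ LinearMap.ker (polarBilin Q z₁))
    (fun h0 => by rw [h0, finrank_bot] at h4; omega)
  obtain ⟨⟨hux, he'x⟩, hz₁x⟩ := hx
  rw [SetLike.mem_coe, mem_ker_polar] at hux he'x hz₁x
  refine hx0 (hQ.1 x fun y => ?_)
  have hzz : polar Q z₁ z₁ ≠ 0 := fun h0 => hz₁ (quad_eq_zero_of_self h2 h0)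
  set v := y - polar Q e' y • u - polar Q u y • e' - (polar Q z₁ y / polar Q z₁ z₁) • z₁ with hv
  have huv : polar Q u v = 0 := by
    simp only [hv, polar_sub_right, polar_smul_r', polar_self', hu, hue', huz]; ring
  have hzv : polar Q z₁ v = 0 := by
    simp only [hv, polar_sub_right, polar_smul_r', hzu, hz₁e', div_mul_cancel₀ _ hzz]; ring
  have e := hall' (x + v) (by rw [polar_add_right, hux, huv, add_zero]) (by rw [polar_add_right, hz₁x, hzv, add_zero])
  rw [quad_add', hall' x hux hz₁x, hall' v huv hzv, zero_add, zero_add] at e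
  rw [QuadraticMap.polarBilin_apply_apply,
    show y = v + polar Q e' y • u + polar Q u y • e' + (polar Q z₁ y / polar Q z₁ z₁) • z₁ by rw [hv]; abel,
    polar_add_right, polar_add_right, polar_add_right, polar_smul_r', polar_smul_r', polar_smul_r', e,
    polar_comm _ x u, polar_comm _ x e', polar_comm _ x z₁, hux, he'x, hz₁x]
  ring

end Nondegenerate

/-- A quadratic form as a polynomial. -/
noncomputable def polyOf (Q : QuadraticForm F V) (bs : Basis (Fin (finrank F V)) F V) :
    MvPolynomial (Fin (finrank F V)) F :=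
  ∑ i, ∑ j, MvPolynomial.C (polar Q (bs i) (bs j)) * (MvPolynomial.X i * MvPolynomial.X j)

theorem eval_polyOf (Q : QuadraticForm F V) (bs : Basis (Fin (finrank F V)) F V) (x : Fin (finrank F V) → F) :
    MvPolynomial.eval x (polyOf Q bs) = polar Q (∑ i, x i • bs i) (∑ i, x i • bs i) := by
  rw [← QuadraticMap.polarBilin_apply_apply]
  simp only [polyOf, map_sum, map_mul, MvPolynomial.eval_C, MvPolynomial.eval_X, LinearMap.sum_apply, map_smul,
    LinearMap.smul_apply, QuadraticMap.polarBilin_apply_apply, smul_eq_mul, Finset.mul_sum]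
  rw [Finset.sum_comm]
  exact Finset.sum_congr rfl fun i _ => Finset.sum_congr rfl fun j _ => by rw [polar_comm]; ring

theorem totalDegree_polyOf (Q : QuadraticForm F V) (bs : Basis (Fin (finrank F V)) F V) :
    (polyOf Q bs).totalDegree ≤ 2 := by
  refine (MvPolynomial.totalDegree_finsetSum _ _).trans (Finset.sup_le fun i _ => ?_)
  refine (MvPolynomial.totalDegree_finsetSum _ _).trans (Finset.sup_le fun j _ => ?_)
  refine (MvPolynomial.totalDegree_mul _ _).trans ?_
  rw [MvPolynomial.totalDegree_C, zero_add]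
  exact (MvPolynomial.totalDegree_mul _ _).trans (by simp)

/-- Two quadratic forms on a space of dimension at least five have a common zero (Chevalley–Warning). -/
theorem exists_common_zero [Fintype F] (h2 : (2 : F) ≠ 0) (hn : 5 ≤ finrank F V) (Q₁ Q₂ : QuadraticForm F V) :
    ∃ v, v ≠ 0 ∧ Q₁ v = 0 ∧ Q₂ v = 0 := by
  classical
  obtain ⟨p, hp⟩ := CharP.exists F
  haveI := hp
  have hpp : p.Prime := (CharP.char_is_prime_or_zero F p).resolve_right (CharP.char_ne_zero_of_finite F p)
  set bs := Module.finBasis F V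
  have hz : ∀ Q' : QuadraticForm F V, MvPolynomial.eval (0 : Fin (finrank F V) → F) (polyOf Q' bs) = 0 := fun Q' => by
    rw [eval_polyOf]; simp [polar_zero_right]
  have hcw := char_dvd_card_solutions_of_add_lt p (f₁ := polyOf Q₁ bs) (f₂ := polyOf Q₂ bs) (by
    have := totalDegree_polyOf Q₁ bs; have := totalDegree_polyOf Q₂ bs; rw [Fintype.card_fin]; omega)
  obtain ⟨⟨x, hx⟩, hx0⟩ := Fintype.exists_ne_of_one_lt_card
    (lt_of_lt_of_le hpp.one_lt (Nat.le_of_dvd (Fintype.card_pos_iff.2
      ⟨⟨0, hz _, hz _⟩⟩) hcw))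
    (⟨0, hz _, hz _⟩ : {x : Fin (finrank F V) → F //
      MvPolynomial.eval x (polyOf Q₁ bs) = 0 ∧ MvPolynomial.eval x (polyOf Q₂ bs) = 0})
  refine ⟨bs.equivFun.symm x, fun h0 => hx0 (Subtype.ext (bs.equivFun.symm.map_eq_zero_iff.1 h0)), ?_, ?_⟩ <;>
    refine quad_eq_zero_of_self h2 ?_ <;> rw [bs.equivFun_symm_apply]
  · rw [← eval_polyOf]; exact hx.1
  · rw [← eval_polyOf]; exact hx.2

end CfsgLib.Classical.TensorMaxO
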