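import Cfsg.Agent.Lib.Classical.TensorMaxO.Start
import Cfsg.Agent.Lib.Classical.OrthMaxND

/-!
# One Siegel element with pure parameters gives all of them
-/

set_option autoImplicit false
set_option linter.unusedSectionVars false

namespace CfsgLib.Classical.TensorMaxO

open Matrix Module QuadraticMap CfsgLib.Orth CfsgLib.Classical

variable {F : Type*} [Field F] [Fintype F] {a b : ℕ} {Q : QuadraticForm F (Matrix (Fin a) (Fin b) F)}
  {qf : QuadraticForm F (Fin a → F)} {qh : QuadraticForm F (Fin b → F)} {M : Subgroup (orthGroup Q)}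

/-- A Siegel element moves one singular line to another. -/
theorem exists_move {V : Type*} [AddCommGroup V] [Module F V] [FiniteDimensional F V] {q : QuadraticForm F V}
    (hQ : (polarBilin q).Nondegenerate) (hn : 3 ≤ finrank F V) (h2 : (2 : F) ≠ 0) {x y : V} (hx : q x = 0)
    (hy : q y = 0) (hx0 : x ≠ 0) (hy0 : y ≠ 0) :
    ∃ g ∈ commutator (orthGroup q), ∃ t : F, t ≠ 0 ∧ g.1 x = t • y := by
  obtain ⟨r, hr, -, hxr, hyr⟩ := exists_common_perp hQ (W := ⊥) (by simp) (by rw [finrank_bot]; omega) hx hy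
    (by simp [polar_zero_left]) (by simp [polar_zero_left]) (by simpa using hx0) (by simpa using hy0)
  rw [polar_comm] at hxr hyr
  have hy' : q ((polar q r x / polar q r y) • y) = 0 := by rw [quad_smul', hy, mul_zero]
  obtain ⟨g, hg, hgx⟩ := siegel_move hQ hr hx hy' hxr (by rw [polar_smul_r', div_mul_cancel₀ _ hyr])
  exact ⟨g, siegel_mem_commutator hQ h2 hg, _, div_ne_zero hxr hyr, hgx⟩

theorem SiegelIn.of_smul' {H : Subgroup (orthGroup Q)} {d u : Matrix (Fin a) (Fin b) F} {t : F} (ht : t ≠ 0)
    (h : SiegelIn H (t • d) u) : SiegelIn H d (t • u) := fun g hg => h g (by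
  have e : IsSiegel g (t⁻¹ • (t • d)) (t • u) := by rwa [inv_smul_smul₀ ht]
  have := e.of_smul (inv_ne_zero ht)
  rwa [inv_smul_smul₀ ht] at this)

namespace Model

variable {hm : Model Q qf qh} (hF : ContainsFactors hm M)
include hF

/-- From one pair, all pairs with a common singular second factor. -/
theorem all_second (ha : 3 ≤ a) (hb : 3 ≤ b) (hs : Start M qf qh) {u : Fin a → F} (hu : qf u = 0) (hu0 : u ≠ 0) :
    ∃ v, polar qf u v = 0 ∧ qf v ≠ 0 ∧ ∀ c, qh c = 0 → ∀ t : F,
      SiegelIn M (vecMulVec u c) (vecMulVec (t • v) c) := by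
  obtain ⟨u₁, u₁', c₁, hu₁0, hu₁, huu, hv, hc₁0, hc₁, hS⟩ := hs
  obtain ⟨A, hA, s, hs0, hAu⟩ := exists_move hm.ndf (by rw [finrank_fin_fun]; exact ha) hm.two hu₁ hu hu₁0 hu0
  set v := A.1 u₁' with hvdef
  have huv : polar qf u v = 0 := by
    rw [← polar_isom A, hAu, polar_smul_l'] at huu
    exact (mul_eq_zero.1 huu).resolve_left hs0
  have hv' : qf v ≠ 0 := by rw [hvdef, apply_quad]; exact hv
  refine ⟨v, huv, hv', fun c hc t => ?_⟩
  have hnd := hm.nondeg
  have h0 : ∀ x : Fin a → F, Q (vecMulVec x c) = 0 := fun x => hm.pure_singular x hc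
  have hp : ∀ x, polar qf u x = 0 → polar Q (vecMulVec u c) (vecMulVec x c) = 0 := fun x hx => by
    rw [hm.pol, hx, zero_mul]
  rcases eq_or_ne c 0 with rfl | hc0
  · rw [TensorMax.vecMulVec_zero']; exact fun g hg => AxIn.zero M _ g hg
  obtain ⟨C, hC, l, hl, hCc⟩ := exists_move hm.ndh (by rw [finrank_fin_fun]; exact hb) hm.two hc₁ hc hc₁0 hc0
  have h1 := SiegelIn.conj hS (M.mul_mem (hF.row C hC) (hF.col A hA))
  rw [mul_apply', mul_apply', hm.col_pure, hm.col_pure, hm.row_pure, hm.row_pure, hAu, hCc, vecMulVec_smul,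
    smul_vecMulVec, smul_smul, vecMulVec_smul] at h1
  have h2 := SiegelIn.of_smul' (mul_ne_zero hl hs0) h1
  rw [smul_smul, ← smul_vecMulVec] at h2
  set k := l * s * l with hk
  have hk0 : k ≠ 0 := mul_ne_zero (mul_ne_zero hl hs0) hl
  -- scaling by squares
  have hsq : ∀ r : F, SiegelIn M (vecMulVec u c) (vecMulVec ((r * r * k) • v) c) := fun r => by
    rcases eq_or_ne r 0 with rfl | hr
    · rw [mul_zero, zero_mul, zero_smul, zero_vecMulVec]
      have := siegelIn_smul_self M (h0 u) 0
      rwa [zero_smul] at this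
    have hli : ∀ r : F, r ≠ 0 → LinearIndependent F ![r • u, v] := fun r hr =>
      (LinearIndependent.pair_iff' (smul_ne_zero hr hu0)).2 fun l hl => hv' (by
        rw [← hl, quad_smul', quad_smul', hu]; ring)
    obtain ⟨B, hB⟩ := witt_family' hm.ndf ![(1 : F) • u, v] ![r • u, v] (hli 1 one_ne_zero) (hli r hr)
      (fun i => by fin_cases i <;> simp [quad_smul', hu])
      (fun i j => by
        fin_cases i <;> fin_cases j <;>
          simp [quad_smul', polar_smul_l', polar_smul_r', polar_self', hu, huv, polar_comm _ v u])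
    have hBu : B.1 u = r • u := by simpa using hB 0
    have hBv : B.1 v = v := hB 1
    have h3 := SiegelIn.conj h2 (hF.col _ (sq_mem_commutator hm.ndf hm.two B))
    rw [hm.col_pure, hm.col_pure, map_smul, show (B * B).1 u = (r * r) • u by
        show B.1 (B.1 u) = _
        rw [hBu, map_smul, hBu, smul_smul],
      show (B * B).1 v = v by show B.1 (B.1 v) = _; rw [hBv, hBv], smul_vecMulVec] at h3
    have h4 := SiegelIn.of_smul' (mul_ne_zero hr hr) h3
    rwa [← smul_vecMulVec, smul_smul] at h4
  have hp' : ∀ r : F, polar Q (vecMulVec u c) (vecMulVec (r • v) c) = 0 := fun r =>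
    hp _ (by rw [polar_smul_r', huv, mul_zero])
  have h5 := SiegelIn.add hnd (h0 u) (hp' _) (by rw [polar_neg_right, hp', neg_zero])
    (hsq ((t / k + 1) / 2)) (SiegelIn.neg hnd (h0 u) (hp' _) (hsq ((t / k - 1) / 2)))
  rwa [← sub_eq_add_neg, ← sub_vecMulVec, ← sub_smul, show (t / k + 1) / 2 * ((t / k + 1) / 2) * k -
    (t / k - 1) / 2 * ((t / k - 1) / 2) * k = t by field_simp [hm.two]; ring] at h5

/-- All Siegel elements at a singular pure vector. -/
theorem ax_pure (ha : 3 ≤ a) (hb : 3 ≤ b) (hs : Start M qf qh) {u : Fin a → F} (hu : qf u = 0) (hu0 : u ≠ 0)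
    {c : Fin b → F} (hc : qh c = 0) (hc0 : c ≠ 0) : AxIn M (vecMulVec u c) := by
  classical
  have hnd := hm.nondeg
  have h0 : ∀ (u : Fin a → F) (c : Fin b → F), qh c = 0 → Q (vecMulVec u c) = 0 := fun u c hc => hm.pure_singular u hc
  -- the first factor is kept
  have step2 : ∀ (u : Fin a → F) (c : Fin b → F), qf u = 0 → u ≠ 0 → qh c = 0 → c ≠ 0 → ∀ y,
      SiegelIn M (vecMulVec u c) (vecMulVec u y) := by
    intro u c hu hu0 hc hc0
    have hp : ∀ y, polar Q (vecMulVec u c) (vecMulVec u y) = 0 := fun y => by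
      rw [hm.pol, polar_self', hu, mul_zero, zero_mul]
    obtain ⟨v, huv, hv, hV⟩ := all_second hF ha (by omega) hs hu hu0
    have hpv : polar Q (vecMulVec u c) (vecMulVec v c) = 0 := by rw [hm.pol, huv, zero_mul]
    have key : ∀ c', qh c' = 0 → polar qh c c' ≠ 0 → ∀ s : F, SiegelIn M (vecMulVec u c) (vecMulVec u (s • c')) := by
      intro c' hc' hcc s
      set t := -s / (polar qf v v * polar qh c' c) with ht
      obtain ⟨g, hg⟩ := exists_isSiegel hnd (h0 u c' hc') (show polar Q (vecMulVec u c') (vecMulVec (t • v) c') = 0 by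
        rw [hm.pol, polar_smul_r', huv, mul_zero, zero_mul])
      have hgM := hV c' hc' t g hg
      have h1 := SiegelIn.conj (hV c hc 1) hgM
      rw [one_smul, hg.2.2, hg.2.2, h0 _ _ hc', hm.pol, hm.pol, hm.pol, hm.pol, polar_self', hu, huv,
        polar_smul_l', polar_smul_l', polar_comm _ v u, huv] at h1
      have e : -(t * polar qf v v * polar qh c' c) = s := by
        have hv2 : polar qf v v ≠ 0 := by rw [polar_self']; exact mul_ne_zero hm.two hv
        have hcc' : polar qh c' c ≠ 0 := by rwa [polar_comm]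
        rw [ht]; field_simp
      simp only [mul_zero, zero_mul, zero_smul, add_zero, sub_zero, neg_zero, e] at h1
      rw [← vecMulVec_smul] at h1
      have h1' : SiegelIn M (vecMulVec u c) (vecMulVec v c + vecMulVec u (s • c')) := h1
      have h2 := SiegelIn.add hnd (h0 u c hc) (show polar Q (vecMulVec u c) (vecMulVec v c + vecMulVec u (s • c')) = 0 by
          rw [polar_add_right, hpv, hp, add_zero]) (by rw [polar_neg_right, hpv, neg_zero]) h1'
        (SiegelIn.neg hnd (h0 u c hc) hpv (by simpa using hV c hc 1))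
      rwa [add_neg_cancel_comm] at h2
    obtain ⟨d, hd, hcd⟩ := exists_partner hm.ndh hc hc0
    intro y
    set l := polar qh c y
    set y' := y - l • d with hy'
    have hy'c : polar qh c y' = 0 := by rw [hy', polar_sub_right, polar_smul_r', hcd, mul_one, sub_self]
    set μ := -(qh y' + polar qh d y') with hμ
    have h1 := key (d + y' + μ • c) (by
        simp only [quad_add', quad_smul', polar_add_left, polar_smul_r', hd, hc, polar_comm _ d c, hcd,
          polar_comm _ y' c, hy'c, hμ]
        ring)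
      (by rw [polar_add_right, polar_add_right, polar_smul_r', polar_self', hc, hcd, hy'c]; simp) 1
    rw [one_smul] at h1
    have h2 := SiegelIn.add hnd (h0 u c hc) (hp _) (hp _) h1 (key d hd (by rw [hcd]; exact one_ne_zero) (l - 1))
    rw [← vecMulVec_add] at h2
    have h3 := SiegelIn.add hnd (h0 u c hc) (hp _) (hp _) h2
      (show SiegelIn M (vecMulVec u c) (vecMulVec u ((-μ) • c)) by
        rw [vecMulVec_smul]; exact siegelIn_smul_self M (h0 u c hc) _)
    rw [← vecMulVec_add] at h3
    rwa [show d + y' + μ • c + (l - 1) • d + (-μ) • c = y by rw [hy']; module] at h3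
  -- the second factor is orthogonal
  have stepA : ∀ (u : Fin a → F) (c : Fin b → F), qf u = 0 → u ≠ 0 → qh c = 0 → c ≠ 0 → ∀ z y, polar qh c y = 0 →
      SiegelIn M (vecMulVec u c) (vecMulVec z y) := by
    intro u c hu hu0 hc hc0
    have key : ∀ z y, qf z = 0 → polar qf z u ≠ 0 → polar qh c y = 0 →
        SiegelIn M (vecMulVec u c) (vecMulVec z y) := by
      intro z y₀ hz hzu hcy₀
      suffices gen : ∀ y, polar qh c y = 0 → y ∉ F ∙ c → SiegelIn M (vecMulVec u c) (vecMulVec z y) by
        by_cases hy₀ : y₀ ∈ F ∙ c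
        swap
        · exact gen y₀ hcy₀ hy₀
        obtain ⟨e, hce, hec⟩ : ∃ e ∈ LinearMap.ker (polarBilin qh c), e ∉ F ∙ c := by
          by_contra! hall
          have h1 := Submodule.finrank_mono (show LinearMap.ker (polarBilin qh c) ≤ F ∙ c from hall)
          have h2 := finrank_kerPolar (Q := qh) c
          rw [finrank_span_singleton hc0] at h1
          rw [finrank_fin_fun] at h2
          omega
        rw [mem_ker_polar] at hce
        have hp : ∀ x, polar qh c x = 0 → polar Q (vecMulVec u c) (vecMulVec z x) = 0 := fun x hx => by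
          rw [hm.pol, hx, mul_zero]
        have hcd : polar qh c (y₀ - e) = 0 := by rw [polar_sub_right, hcy₀, hce, sub_zero]
        have h := SiegelIn.add hnd (h0 u c hc) (hp e hce) (hp _ hcd) (gen e hce hec)
          (gen _ hcd fun h => hec (by simpa using (F ∙ c).sub_mem hy₀ h))
        rwa [← vecMulVec_add, add_sub_cancel] at h
      intro y hcy hyc
      have hy0 : y ≠ 0 := fun e => hyc (e ▸ zero_mem _)
      set d := c
      have hcd : polar qh c d = 0 := by rw [polar_self', hc, mul_zero]
      have hd : qh d = 0 := hc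
      have hdy : d ∉ F ∙ y := fun hmem => by
        obtain ⟨t, ht⟩ := Submodule.mem_span_singleton.1 hmem
        refine hyc (Submodule.mem_span_singleton.2 ⟨t⁻¹, ?_⟩)
        rw [← ht, smul_smul, inv_mul_cancel₀ (fun e => hc0 (by rw [← ht, e, zero_smul])), one_smul]
      obtain ⟨w, hwy, hwd⟩ := exists_polar_one hm.ndh hdy
      have hyw : polar qh y w = 0 := by rw [polar_comm]; exact hwy y (Submodule.mem_span_singleton_self y)
      have hz0 : z ≠ 0 := fun e => hzu (by rw [e, polar_zero_left])
      have hd0 : d ≠ 0 := fun e => hdy (by rw [e]; exact zero_mem _)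
      set y₁ := (polar qf z u)⁻¹ • y with hy₁
      obtain ⟨g, hg⟩ := exists_isSiegel hnd (h0 z d hd) (show polar Q (vecMulVec z d) (vecMulVec z y₁) = 0 by
        rw [hm.pol, polar_self', hz, mul_zero, zero_mul])
      have h1 := SiegelIn.conj (step2 u c hu hu0 hc hc0 w) (step2 z d hz hz0 hd hd0 y₁ g hg)
      rw [hg.2.2, hg.2.2, hm.pol, hm.pol, hm.pol, hm.pol, hm.quad_pure, hz, hy₁, polar_smul_l', polar_smul_l',
        polar_comm _ y c, hcy, hyw, polar_comm _ d c, hcd, polar_comm _ d w, hwd] at h1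
      simp only [mul_zero, zero_mul, zero_smul, add_zero, sub_zero, neg_zero, mul_one, vecMulVec_smul,
        smul_inv_smul₀ hzu] at h1
      have hp : polar Q (vecMulVec u c) (vecMulVec z y) = 0 := by rw [hm.pol, hcy, mul_zero]
      have hp2 : polar Q (vecMulVec u c) (vecMulVec u w) = 0 := by rw [hm.pol, polar_self', hu, mul_zero, zero_mul]
      have h2 := SiegelIn.add hnd (h0 u c hc) (show polar Q (vecMulVec u c) (vecMulVec u w + vecMulVec z y) = 0 by
          rw [polar_add_right, hp2, hp, add_zero]) (by rw [polar_neg_right, hp2, neg_zero]) h1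
        (SiegelIn.neg hnd (h0 u c hc) hp2 (step2 u c hu hu0 hc hc0 w))
      rwa [add_neg_cancel_comm] at h2
    intro z y hcy
    have hp : ∀ x, polar Q (vecMulVec u c) (vecMulVec x y) = 0 := fun x => by rw [hm.pol, hcy, mul_zero]
    have hty : ∀ t : F, polar qh c (t • y) = 0 := fun t => by rw [polar_smul_r', hcy, mul_zero]
    obtain ⟨e', he', hue⟩ := exists_partner hm.ndf hu hu0
    set v := z - polar qf u z • e' with hv
    have huv : polar qf u v = 0 := by rw [hv, polar_sub_right, polar_smul_r', hue, mul_one, sub_self]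
    set μ := -(qf v + polar qf e' v) with hμ
    have heu : polar qf e' u = 1 := by rw [polar_comm]; exact hue
    have h1 := key (e' + v + μ • u) y (by
        simp only [quad_add', quad_smul', polar_add_left, polar_smul_r', he', hu, heu, polar_comm _ v u, huv, hμ]
        ring)
      (by rw [polar_add_left, polar_add_left, polar_smul_l', polar_self', hu, heu, polar_comm _ v u, huv]; simp) hcy
    have h2 := key e' ((polar qf u z - 1) • y) he' (by rw [heu]; exact one_ne_zero) (hty _)
    have h3 := step2 u c hu hu0 hc hc0 ((-μ) • y)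
    rw [vecMulVec_smul, ← smul_vecMulVec] at h2 h3
    have h4 := SiegelIn.add hnd (h0 u c hc) (hp _) (hp _) h1 h2
    rw [← add_vecMulVec] at h4
    have h5 := SiegelIn.add hnd (h0 u c hc) (hp _) (hp _) h4 h3
    rw [← add_vecMulVec] at h5
    rwa [show e' + v + μ • u + (polar qf u z - 1) • e' + (-μ) • u = z by rw [hv]; module] at h5
  -- everything orthogonal
  obtain ⟨d₀, hd₀, hcd₀⟩ := exists_partner hm.ndh hc hc0
  have stepB : ∀ x', polar qf u x' = 0 → SiegelIn M (vecMulVec u c) (vecMulVec x' d₀) := by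
    intro x' hux'
    have hd0' : d₀ ≠ 0 := fun e => by rw [e, polar_zero_right] at hcd₀; exact zero_ne_one hcd₀
    have hdd : polar qh d₀ d₀ = 0 := by rw [polar_self', hd₀, mul_zero]
    have hcc : polar qh c c = 0 := by rw [polar_self', hc, mul_zero]
    obtain ⟨z₀, -, huz⟩ := exists_partner hm.ndf hu hu0
    obtain ⟨g, hg⟩ := exists_isSiegel hnd (h0 u d₀ hd₀) (show polar Q (vecMulVec u d₀) (vecMulVec x' d₀) = 0 by
      rw [hm.pol, hux', zero_mul])
    have hgM : g ∈ M := stepA u d₀ hu hu0 hd₀ hd0' x' d₀ hdd g hg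
    have hS := stepA u c hu hu0 hc hc0 z₀ c hcc
    have h1 := SiegelIn.conj hS hgM
    rw [hg.2.2, hg.2.2, hm.pol, hm.pol, hm.pol, hm.pol, hm.quad_pure, polar_self', hu, polar_comm _ x' u, hux', huz,
      hd₀, polar_comm _ d₀ c, hcd₀] at h1
    simp only [mul_zero, zero_mul, zero_smul, add_zero, sub_zero, neg_zero, mul_one, one_smul] at h1
    have hp2 : polar Q (vecMulVec u c) (vecMulVec z₀ c) = 0 := by rw [hm.pol, hcc, mul_zero]
    have hpd : polar Q (vecMulVec u c) (vecMulVec u d₀) = 0 := by rw [hm.pol, polar_self', hu, mul_zero, zero_mul]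
    have hpx : polar Q (vecMulVec u c) (vecMulVec x' d₀) = 0 := by rw [hm.pol, hux', zero_mul]
    set β := polar qf x' z₀
    have hpb : polar Q (vecMulVec u c) (β • vecMulVec u d₀) = 0 := by rw [polar_smul_r', hpd, mul_zero]
    have hpb' : polar Q (vecMulVec u c) ((-β) • vecMulVec u d₀) = 0 := by rw [polar_smul_r', hpd, mul_zero]
    have h2 := SiegelIn.add hnd (h0 u c hc)
      (show polar Q (vecMulVec u c) (vecMulVec z₀ c + vecMulVec x' d₀ + (-β) • vecMulVec u d₀) = 0 by
        rw [polar_add_right, polar_add_right, hp2, hpx, hpb']; ring)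
      (by rw [polar_neg_right, hp2, neg_zero]) h1 (SiegelIn.neg hnd (h0 u c hc) hp2 hS)
    have h3 := SiegelIn.add hnd (h0 u c hc)
      (show polar Q (vecMulVec u c)
          (vecMulVec z₀ c + vecMulVec x' d₀ + (-β) • vecMulVec u d₀ + -vecMulVec z₀ c) = 0 by
        rw [polar_add_right, polar_add_right, polar_add_right, polar_neg_right, hp2, hpx, hpb']; ring)
      hpb h2 (by rw [← vecMulVec_smul]; exact step2 u c hu hu0 hc hc0 _)
    rwa [show vecMulVec z₀ c + vecMulVec x' d₀ + (-β) • vecMulVec u d₀ + -vecMulVec z₀ c + β • vecMulVec u d₀ =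
      vecMulVec x' d₀ by module] at h3
  intro X g hg
  have hperp : polar qf u (ct a qh c X) = 0 := by rw [← hm.pol_left]; exact hg.2.1
  have hdec : X = ∑ i, vecMulVec (Pi.single i 1) (X i - polar qh c (X i) • d₀) + vecMulVec (ct a qh c X) d₀ := by
    refine Matrix.ext fun i j => ?_
    simp [Matrix.sum_apply, Matrix.add_apply, vecMulVec_apply, Pi.single_apply, ct_apply]
  have hsum : ∀ s : Finset (Fin a),
      polar Q (vecMulVec u c) (∑ i ∈ s, vecMulVec (Pi.single i 1) (X i - polar qh c (X i) • d₀)) = 0 ∧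
        SiegelIn M (vecMulVec u c) (∑ i ∈ s, vecMulVec (Pi.single i 1) (X i - polar qh c (X i) • d₀)) := by
    intro s
    induction s using Finset.induction_on with
    | empty =>
      refine ⟨by rw [Finset.sum_empty, polar_zero_right], fun g hg => ?_⟩
      rw [Finset.sum_empty] at hg
      rw [hg.unique (isSiegel_one (h0 u c hc))]
      exact M.one_mem
    | insert i s his ih =>
      have hi : polar qh c (X i - polar qh c (X i) • d₀) = 0 := by
        rw [polar_sub_right, polar_smul_r', hcd₀, mul_one, sub_self]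
      rw [Finset.sum_insert his]
      exact ⟨by rw [polar_add_right, hm.pol, hi, mul_zero, ih.1, add_zero],
        SiegelIn.add hnd (h0 u c hc) (by rw [hm.pol, hi, mul_zero]) ih.1 (stepA u c hu hu0 hc hc0 _ _ hi) ih.2⟩
  have h5 := SiegelIn.add hnd (h0 u c hc) (hsum Finset.univ).1 (by rw [hm.pol, hperp, zero_mul])
    (hsum Finset.univ).2 (stepB _ hperp)
  rw [← hdec] at h5
  exact h5 g hg

/-- A Siegel element with pure parameters generates `Ω`. -/
theorem omega_le (ha : 3 ≤ a) (hb : 3 ≤ b) (hn : 5 ≤ finrank F (Matrix (Fin a) (Fin b) F)) (hs : Start M qf qh) :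
    commutator (orthGroup Q) ≤ M := by
  classical
  have hnd := hm.nondeg
  obtain ⟨hp⟩ := exists_hypPairs hnd hn
  rw [commutator_eq_siegelGroup hnd (good_of_two_ne hm.two) hp hn]
  refine siegelGroup_le_of_ax fun y hy => ?_
  rcases eq_or_ne y 0 with rfl | hy0
  · exact AxIn.zero M
  have hb3 : 3 ≤ finrank F (Fin b → F) := by rw [finrank_fin_fun]; omega
  have ha3 : 3 ≤ finrank F (Fin a → F) := by rw [finrank_fin_fun]; exact ha
  obtain ⟨w, hw, hwy⟩ : ∃ w, qh w = 0 ∧ ct a qh w y ≠ 0 := by
    by_contra! hall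
    refine hy0 (funext fun i => hm.ndh.2 _ fun w => ?_)
    exact congrFun (LinearMap.congr_fun (eq_zero_of_singular_top hm.ndh hm.two ((ct a qh).flip y) hb3 hall) w) i
  obtain ⟨u, hu, huy⟩ := exists_singular_polar_ne hm.ndf hm.two ha3 hwy
  have hu0 : u ≠ 0 := fun e => huy (by rw [e, polar_zero_left])
  have hw0 : w ≠ 0 := fun e => hwy (by rw [e, map_zero, LinearMap.zero_apply])
  obtain ⟨n, hn', hun⟩ := exists_partner hm.ndf hu hu0
  obtain ⟨p, hp', hwp⟩ := exists_partner hm.ndh hw hw0
  exact ax_move hnd (ax_pure hF ha hb hs hu hu0 hw hw0) (hm.pure_singular u hw) (hm.pure_singular n hp') hy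
    (by rw [hm.pol, hun, hwp, mul_one]; exact one_ne_zero) (by rwa [hm.pol_left])
    (ax_pure hF ha hb hs hn' (fun e => by rw [e, polar_zero_right] at hun; exact zero_ne_one hun) hp'
      (fun e => by rw [e, polar_zero_right] at hwp; exact zero_ne_one hwp))

end Model

end CfsgLib.Classical.TensorMaxO
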