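import Cfsg.Agent.Lib.Classical.TensorMaxO.Start

/-!
# A preserved slice gives a Siegel element
-/

set_option autoImplicit false
set_option linter.unusedSectionVars false

namespace CfsgLib.Classical.TensorMaxO

open Matrix Module QuadraticMap CfsgLib.Orth CfsgLib.Classical
open CfsgLib.Classical.TensorMax (IsTensor)
open CfsgLib.Classical.TensorMaxU (sl1 sl2 sl2_injective)

/-- An endomorphism whose differences with its conjugates are scalars is a scalar. -/
theorem scalar_of_conj {F V : Type*} [Field F] [Fintype F] [AddCommGroup V] [Module F V] [FiniteDimensional F V]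
    {q : QuadraticForm F V} (hQ : (polarBilin q).Nondegenerate) (h2 : (2 : F) ≠ 0) (hn : 3 ≤ finrank F V)
    (hq : (∃ s : F, s ≠ 0 ∧ s * s ≠ 1) ∨ 4 ≤ finrank F V) (Φ : V →ₗ[F] V)
    (h : ∀ A ∈ commutator (orthGroup q), ∃ s : F, ∀ x, A.1 (Φ x) = Φ (A.1 x) + s • A.1 x) :
    ∃ l : F, Φ = l • LinearMap.id := by
  refine scalar_of_eigen hQ h2 hn Φ fun u hu => ?_
  rcases eq_or_ne u 0 with rfl | hu0
  · rw [map_zero]; exact zero_mem _
  obtain ⟨z, huz, hqz⟩ := exists_anisotropic_in hQ (S := LinearMap.ker (polarBilin q u))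
    (by have := finrank_kerPolar (Q := q) u; omega)
  rw [mem_ker_polar] at huz
  have hzu : polar q z u = 0 := (polar_comm _ _ _).trans huz
  have hzz : polar q z z ≠ 0 := fun h0 => hqz (quad_eq_zero_of_self h2 h0)
  set w := Φ u
  have h0 : ∀ (t : F) (A : orthGroup q), t ≠ 0 → IsSiegel A u (t • z) → ∀ s : F,
      (∀ x, A.1 (Φ x) = Φ (A.1 x) + s • A.1 x) → polar q u w = 0 ∧ s = -(t * polar q z w) := by
    intro t A ht hA s hs
    have e := hs u
    rw [hA.2.2, show A.1 u = u by rw [hA.2.2, polar_self', hu, polar_smul_l', hzu]; simp] at e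
    have e1 := congrArg (polar q z) e
    simp only [polar_add_right, polar_smul_r', polar_smul_l', hzu, mul_zero, add_zero] at e1
    have hφ : polar q u w = 0 := mul_left_cancel₀ (mul_ne_zero ht hzz) (by linear_combination e1)
    refine ⟨hφ, ?_⟩
    rw [hφ, zero_smul, add_zero, mul_zero, sub_zero, polar_smul_l'] at e
    exact (smul_left_injective F hu0 (add_left_cancel e)).symm
  obtain ⟨A, hA⟩ := exists_isSiegel hQ hu huz
  obtain ⟨A', hA'⟩ := exists_isSiegel hQ hu (show polar q u (-z) = 0 by rw [polar_neg_right, huz, neg_zero])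
  obtain ⟨s, hs⟩ := h A (siegel_mem_commutator hQ h2 hA)
  obtain ⟨s', hs'⟩ := h A' (siegel_mem_commutator hQ h2 hA')
  obtain ⟨hφ, hsv⟩ := h0 1 A one_ne_zero (by rwa [one_smul]) s hs
  obtain ⟨-, hsv'⟩ := h0 (-1) A' (neg_ne_zero.2 one_ne_zero) (by rwa [neg_one_smul]) s' hs'
  have hs0 : s = 0 := by
    rcases hq with ⟨k, hk0, hk1⟩ | hn4
    · have hli : ∀ t : F, t ≠ 0 → LinearIndependent F ![t • u, z] := fun t ht =>
        (LinearIndependent.pair_iff' (smul_ne_zero ht hu0)).2 fun l hl => hqz (by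
          rw [← hl, quad_smul', quad_smul', hu]; ring)
      obtain ⟨B₀, hB₀⟩ := witt_family' hQ ![(1 : F) • u, z] ![k • u, z] (hli 1 one_ne_zero) (hli k hk0)
        (fun i => by fin_cases i <;> simp [quad_smul', hu])
        (fun i j => by fin_cases i <;> fin_cases j <;> simp [quad_smul', polar_smul_l', polar_smul_r', polar_self', hu, huz, hzu])
      have hBu : B₀.1 u = k • u := by simpa using hB₀ 0
      have hBz : B₀.1 z = z := hB₀ 1
      obtain ⟨σ, hσ⟩ := h (B₀ * B₀) (sq_mem_commutator hQ h2 B₀)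
      have hK := hA.conj (B₀ * B₀)
      rw [show (B₀ * B₀).1 u = (k * k) • u by
          show B₀.1 (B₀.1 u) = _
          rw [hBu, map_smul, hBu, smul_smul],
        show (B₀ * B₀).1 z = z by show B₀.1 (B₀.1 z) = _; rw [hBz, hBz]] at hK
      obtain ⟨-, e⟩ := h0 (k * k) _ (mul_ne_zero hk0 hk0) (hK.of_smul (mul_ne_zero hk0 hk0)) s fun x => by
        obtain ⟨y, rfl⟩ := (B₀ * B₀).1.surjective x
        set B := B₀ * B₀
        have e1 : Φ (B.1 y) = B.1 (Φ y) - σ • B.1 y := by rw [hσ]; abel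
        show B.1 (A.1 ((B⁻¹).1 (Φ (B.1 y)))) = Φ (B.1 (A.1 ((B⁻¹).1 (B.1 y)))) + s • B.1 (A.1 ((B⁻¹).1 (B.1 y)))
        rw [e1, map_sub, map_smul, show ∀ v, (B⁻¹).1 (B.1 v) = v from fun v => B.1.symm_apply_apply v,
          show ∀ v, (B⁻¹).1 (B.1 v) = v from fun v => B.1.symm_apply_apply v, map_sub, map_smul, map_sub, map_smul, hs,
          map_add, map_smul, hσ]
        abel
      rw [hsv, one_mul] at e ⊢
      exact mul_left_cancel₀ (sub_ne_zero.2 hk1) (by linear_combination -e)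
    · obtain ⟨v, hv, hvu⟩ : ∃ v ∈ LinearMap.ker (polarBilin q u) ⊓ LinearMap.ker (polarBilin q z), v ∉ F ∙ u := by
        by_contra! hall
        have h1 := finrank_kerPolar (Q := q) u
        have h3 := finrank_perp_vec (Q := q) (S := LinearMap.ker (polarBilin q u)) z
        have h4 := Submodule.finrank_mono (show _ ≤ F ∙ u from hall)
        rw [finrank_span_singleton hu0] at h4
        omega
      obtain ⟨huv, hzv⟩ := hv
      rw [SetLike.mem_coe, mem_ker_polar] at huv hzv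
      have e := hs v
      rw [show A.1 v = v by rw [hA.2.2, huv, hzv]; simp, hA.2.2] at e
      have e1 := congrArg (polar q z) e
      simp only [polar_add_right, polar_smul_r', hzu, hzv, mul_zero, add_zero] at e1
      have hψ : polar q u (Φ v) = 0 := mul_right_cancel₀ hzz (by linear_combination e1)
      rw [hψ, zero_smul, add_zero, mul_zero, sub_zero] at e
      by_contra hne
      exact hvu (Submodule.mem_span_singleton.2 ⟨s⁻¹ * -polar q z (Φ v), by
        rw [mul_smul, add_left_cancel e, inv_smul_smul₀ hne]⟩)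
  rw [hs0, zero_eq_neg, one_mul] at hsv
  rw [hsv, mul_zero, neg_zero] at hsv'
  have e := hs z
  have e' := hs' z
  simp only [hs0, hsv', zero_smul, add_zero, hA.2.2, hA'.2.2, polar_self', huz, zero_smul, mul_zero, sub_zero,
    map_add, map_smul, polar_neg_left, QuadraticMap.map_neg, smul_neg, map_neg] at e e'
  have e1 := congrArg (polar q z) e
  have e1' := congrArg (polar q z) e'
  simp only [polar_add_right, polar_smul_r', polar_neg_right, hzu, hsv, polar_self', mul_zero, add_zero] at e1 e1'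
  rw [show Φ u = w from rfl, hsv] at e1
  have hψ : polar q u (Φ z) = 0 := mul_right_cancel₀ (mul_ne_zero h2 hqz) (by linear_combination e1)
  rw [hψ] at e e'
  refine Submodule.mem_span_singleton.2 ⟨polar q z (Φ z) / (2 * q z), ?_⟩
  have e2 : (2 * q z) • w = polar q z (Φ z) • u := by linear_combination (norm := module) e
  rw [div_eq_inv_mul, mul_smul, ← e2, inv_smul_smul₀ (mul_ne_zero h2 hqz)]

variable {F : Type*} [Field F] [Fintype F] {a b : ℕ} {Q : QuadraticForm F (Matrix (Fin a) (Fin b) F)}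
  {qf : QuadraticForm F (Fin a → F)} {qh : QuadraticForm F (Fin b → F)} {M : Subgroup (orthGroup Q)}

/-- The data of a preserved slice. -/
theorem exists_slice_equiv (hm : Model Q qf qh) (ha : 0 < a) (g : orthGroup Q) {b₀ c : Fin b → F} (hb0 : b₀ ≠ 0)
    (hb : qh b₀ = 0) (hs : ∀ u, ∃ u', g.1 (vecMulVec u b₀) = vecMulVec u' c) :
    c ≠ 0 ∧ qh c = 0 ∧ ∃ A₀ : (Fin a → F) ≃ₗ[F] (Fin a → F), ∀ u, g.1 (vecMulVec u b₀) = vecMulVec (A₀ u) c := by
  have hu₁ : (Pi.single ⟨0, ha⟩ 1 : Fin a → F) ≠ 0 := by simp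
  have hc0 : c ≠ 0 := fun e => by
    obtain ⟨u', hu'⟩ := hs (Pi.single ⟨0, ha⟩ 1)
    rw [e, TensorMax.vecMulVec_zero', LinearEquiv.map_eq_zero_iff, TensorMax.vecMulVec_eq_zero_iff'] at hu'
    exact hu'.elim hu₁ hb0
  obtain ⟨d, -, hd⟩ := exists_polar_one hm.ndh (W := ⊥) (show c ∉ (⊥ : Submodule F (Fin b → F)) by simpa using hc0)
  set A₀ : (Fin a → F) →ₗ[F] (Fin a → F) := ct a qh d ∘ₗ g.1.toLinearMap ∘ₗ sl2 a b₀ with hA₀
  have hgA : ∀ u, g.1 (vecMulVec u b₀) = vecMulVec (A₀ u) c := fun u => by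
    obtain ⟨u', hu'⟩ := hs u
    have : A₀ u = u' := by
      show ct a qh d (g.1 (vecMulVec u b₀)) = u'
      rw [hu', ct_vecMulVec, hd, one_smul]
    rw [this, hu']
  have hinj : Function.Injective A₀ := (injective_iff_map_eq_zero _).2 fun u hu =>
    sl2_injective (a := a) hb0 (by
      rw [map_zero]; exact g.1.map_eq_zero_iff.1 (show g.1 (vecMulVec u b₀) = 0 by rw [hgA, hu, zero_vecMulVec]))
  have hbij : Function.Bijective A₀ := ⟨hinj, LinearMap.injective_iff_surjective.1 hinj⟩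
  obtain ⟨y, -, hy⟩ := exists_anisotropic_in hm.ndf (S := ⊤) (by rw [finrank_top, finrank_fin_fun]; omega)
  obtain ⟨u, rfl⟩ := hbij.2 y
  have h := apply_quad g (vecMulVec u b₀)
  rw [hgA, hm.quad_pure, hm.quad_pure, hb, mul_zero] at h
  exact ⟨hc0, (mul_eq_zero.1 h).resolve_left (mul_ne_zero hm.two hy), LinearEquiv.ofBijective A₀ hbij, hgA⟩

namespace Model

variable {hm : Model Q qf qh} (hF : ContainsFactors hm M) (ha : 3 ≤ a) (hplane : NoPlane qf) (hb : 5 ≤ b)
  (hq : (∃ s : F, s ≠ 0 ∧ s * s ≠ 1) ∨ 4 ≤ a)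
include hF ha hplane hb hq

/-- Either a Siegel element appears, or all slices orthogonal to a preserved one are preserved. -/
theorem slices_perp {g : orthGroup Q} (hg : g ∈ M) {b₀ c : Fin b → F} (hb0 : b₀ ≠ 0) (hbs : qh b₀ = 0)
    (hs : ∀ u, ∃ u', g.1 (vecMulVec u b₀) = vecMulVec u' c) :
    Start M qf qh ∨ ∀ v, polar qh b₀ v = 0 → ∃ c', ∀ u, ∃ u', g.1 (vecMulVec u v) = vecMulVec u' c' := by
  classical
  obtain ⟨hc0, hcs, A₀, hgA⟩ := exists_slice_equiv hm (by omega) g hb0 hbs hs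
  refine or_iff_not_imp_left.2 fun hno => ?_
  have hnoel : ∀ T, El M qh b₀ T → ∀ y, polar qh b₀ y = 0 → ∃ s : F, T y = s • LinearMap.id := by
    intro T e y hy
    by_contra hne
    exact hno (start_of_el hF ha hplane hb hq hb0 hbs e ⟨y, hy, hne⟩)
  obtain ⟨d, hd, hcd⟩ := exists_partner hm.ndh hcs hc0
  have hdc : polar qh d c = 1 := by rw [polar_comm]; exact hcd
  have hker : ∀ Y, ct a qh b₀ Y = 0 → ct a qh c (g.1 Y) = 0 := fun Y hY => hm.eq_of_forall fun u => by
    obtain ⟨u', rfl⟩ := A₀.surjective u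
    rw [← hm.pol_left, ← hgA, polar_isom, hm.pol_left, hY, polar_zero_right, polar_zero_right]
  -- the translations of the quotient
  have hsc : ∀ γ y, polar qh c γ = 0 → polar qh b₀ y = 0 →
      ∃ s : F, ∀ u, ct a qh γ (g.1 (vecMulVec u y)) = s • A₀ u := by
    intro γ y hγ hy
    obtain ⟨C, hC⟩ := exists_isSiegel hm.ndh hcs hγ
    set T : (Fin b → F) →ₗ[F] (Fin a → F) →ₗ[F] (Fin a → F) := (vecMulVecBilin F F).flip.compr₂
      (-(A₀.symm.toLinearMap ∘ₗ ct a qh γ ∘ₗ g.1.toLinearMap))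
    have e : El M qh b₀ T := by
      refine ⟨g⁻¹ * hm.row C * g, M.mul_mem (M.mul_mem (M.inv_mem hg) (hF.row_siegel hC)) hg, fun u => g.1.injective ?_,
        fun u v hv => g.1.injective ?_⟩
      · rw [mul_apply', mul_apply', Orth.inv_apply, hgA, hm.row_pure, hC.2.2, polar_self', hcs,
          polar_comm _ γ c, hγ]
        simp
      · rw [mul_apply', mul_apply', Orth.inv_apply, hm.row_siegel hC, hker _ (by rw [ct_vecMulVec, hv, zero_smul]),
          map_add, hgA, smul_zero, sub_zero, zero_vecMulVec, add_zero]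
        simp [T]
    obtain ⟨s, hs'⟩ := hnoel T e y hy
    refine ⟨-s, fun u => ?_⟩
    have h := LinearMap.congr_fun hs' u
    simp only [T, LinearMap.compr₂_apply, LinearMap.flip_apply, LinearMap.neg_apply, LinearMap.comp_apply,
      LinearEquiv.coe_coe, LinearMap.smul_apply, LinearMap.id_apply] at h
    rw [neg_smul, ← map_smul, ← h, map_neg, A₀.apply_symm_apply, neg_neg]
    rfl
  -- the quotient map
  have hu₁ : (Pi.single ⟨0, by omega⟩ 1 : Fin a → F) ≠ 0 := by simp
  set u₁ : Fin a → F := Pi.single ⟨0, by omega⟩ 1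
  obtain ⟨r₀, -, hr₀⟩ := exists_polar_one hm.ndf (W := ⊥) (show A₀ u₁ ∉ (⊥ : Submodule F (Fin a → F)) by
    simpa using hu₁)
  set E : (Fin b → F) →ₗ[F] (Fin b → F) := TensorMaxS.ct1 b (polarBilin qf) r₀ ∘ₗ g.1.toLinearMap ∘ₗ sl1 b u₁
  have hct1 : ∀ γ X, polar qh γ (TensorMaxS.ct1 b (polarBilin qf) r₀ X) = polar qf r₀ (ct a qh γ X) := fun γ X =>
    LinearMap.congr_fun (ext_pure (φ := polarBilin qh γ ∘ₗ TensorMaxS.ct1 b (polarBilin qf) r₀)
      (ψ := polarBilin qf r₀ ∘ₗ ct a qh γ) fun u w => by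
        simp [QuadraticMap.polarBilin_apply_apply, polar_smul_r', mul_comm]) X
  have hcE : ∀ y, polar qh b₀ y = 0 → polar qh c (E y) = 0 := fun y hy => by
    show polar qh c (TensorMaxS.ct1 b (polarBilin qf) r₀ (g.1 (vecMulVec u₁ y))) = 0
    rw [hct1, hker _ (by rw [ct_vecMulVec, hy, zero_smul]), polar_zero_right]
  set Φ : (Fin b → F) →ₗ[F] (Fin a → F) →ₗ[F] (Fin a → F) :=
    (LinearMap.llcomp F (Fin a → F) (Fin a → F) (Fin a → F) A₀.symm.toLinearMap) ∘ₗ
      ((vecMulVecBilin F F).flip.compr₂ (ct a qh d ∘ₗ g.1.toLinearMap) -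
        (polarBilin qh d ∘ₗ E).smulRight A₀.toLinearMap) with hΦ
  have hgy : ∀ y, polar qh b₀ y = 0 → ∀ u,
      g.1 (vecMulVec u y) = vecMulVec (A₀ u) (E y) + g.1 (vecMulVec (Φ y u) b₀) := by
    intro y hy u
    set D := g.1 (vecMulVec u y) - vecMulVec (A₀ u) (E y) with hD
    have hrow : ∀ i, D i ∈ F ∙ c := fun i => mem_span_of_perp hm.ndh hm.two fun γ hγ => by
      obtain ⟨s, hs'⟩ := hsc γ y hγ hy
      have hsE : polar qh γ (E y) = s := by
        show polar qh γ (TensorMaxS.ct1 b (polarBilin qf) r₀ (g.1 (vecMulVec u₁ y))) = s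
        rw [hct1, hs', polar_smul_r', hr₀, mul_one]
      have h0 : ct a qh γ D = 0 := by rw [hD, map_sub, hs', ct_vecMulVec, hsE, sub_self]
      exact congrFun h0 i
    choose t ht using fun i => Submodule.mem_span_singleton.1 (hrow i)
    have hY : g.1 (vecMulVec u y) = vecMulVec (A₀ u) (E y) + vecMulVec t c := by
      rw [show vecMulVec t c = D from funext fun i => by rw [TensorMaxU.vecMulVec_row]; exact ht i, hD]
      abel
    rw [hgA, hY, hΦ]
    congr 1
    simp only [LinearMap.comp_apply, LinearMap.sub_apply, LinearMap.llcomp_apply, LinearMap.compr₂_apply,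
      LinearMap.flip_apply, LinearMap.smulRight_apply, LinearMap.smul_apply, LinearEquiv.coe_coe,
      QuadraticMap.polarBilin_apply_apply]
    rw [A₀.apply_symm_apply, show (vecMulVecBilin F F) u y = vecMulVec u y from rfl, hY, map_add, ct_vecMulVec,
      ct_vecMulVec, hdc, one_smul, add_sub_cancel_left]
  -- the similitude
  obtain ⟨y₁, y₂, hy₁, hy₂, hy12⟩ : ∃ y₁ y₂, polar qh b₀ y₁ = 0 ∧ polar qh b₀ y₂ = 0 ∧ polar qh y₁ y₂ ≠ 0 := by
    obtain ⟨y, hy, hqy⟩ := exists_anisotropic_in hm.ndh (S := LinearMap.ker (polarBilin qh b₀))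
      (by have := finrank_kerPolar (Q := qh) b₀; rw [finrank_fin_fun] at *; omega)
    exact ⟨y, y, hy, hy, by rw [polar_self']; exact mul_ne_zero hm.two hqy⟩
  have key : ∀ u u', polar qf (A₀ u) (A₀ u') * polar qh (E y₁) (E y₂) = polar qf u u' * polar qh y₁ y₂ := fun u u' => by
    have e := polar_isom g (vecMulVec u y₁) (vecMulVec u' y₂)
    rw [hgy y₁ hy₁, hgy y₂ hy₂, hgA, hgA, hm.pol] at e
    simp only [polar_add_left, polar_add_right, hm.pol, hcE y₁ hy₁, hcE y₂ hy₂, polar_comm _ (E y₁) c,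
      polar_self', hcs, mul_zero, add_zero] at e
    exact e
  set κ := polar qh y₁ y₂ / polar qh (E y₁) (E y₂) with hκ
  have hne : polar qh (E y₁) (E y₂) ≠ 0 := fun e => by
    obtain ⟨y, -, hy⟩ := exists_anisotropic_in hm.ndf (S := ⊤) (by rw [finrank_top, finrank_fin_fun]; omega)
    have h := key y y
    rw [e, mul_zero, eq_comm, polar_self'] at h
    exact mul_ne_zero (mul_ne_zero hm.two hy) hy12 h
  have hA₀ : ∀ u, qf (A₀ u) = κ * qf u := fun u => by
    refine mul_left_cancel₀ hm.two ?_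
    rw [← polar_self', mul_left_comm, ← polar_self', hκ, div_mul_eq_mul_div, eq_div_iff hne, key, mul_comm]
  let σ : orthGroup qf →* orthGroup qf :=
    { toFun := fun A => ⟨A₀.symm ≪≫ₗ A.1 ≪≫ₗ A₀, fun v => by
        show qf (A₀ (A.1 (A₀.symm v))) = qf v
        rw [hA₀, apply_quad, ← hA₀, A₀.apply_symm_apply]⟩
      map_one' := Subtype.ext (LinearEquiv.ext fun v => A₀.apply_symm_apply v)
      map_mul' := fun A A' => Subtype.ext (LinearEquiv.ext fun v => by
        show A₀ ((A.1 * A'.1) (A₀.symm v)) = A₀ (A.1 (A₀.symm (A₀ (A'.1 (A₀.symm v)))))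
        rw [A₀.symm_apply_apply]; rfl) }
  have hσ : ∀ (A : orthGroup qf) u, (σ A).1 (A₀ u) = A₀ (A.1 u) := fun A u => by
    show A₀ (A.1 (A₀.symm (A₀ u))) = A₀ (A.1 u)
    rw [A₀.symm_apply_apply]
  -- the remainders are scalar
  intro v hv
  obtain ⟨l, hl⟩ := scalar_of_conj hm.ndf hm.two (by rw [finrank_fin_fun]; exact ha) (by rwa [finrank_fin_fun]) (Φ v) fun A hA => by
    set T : (Fin b → F) →ₗ[F] (Fin a → F) →ₗ[F] (Fin a → F) :=
      (LinearMap.llcomp F (Fin a → F) (Fin a → F) (Fin a → F) A.1.toLinearMap) ∘ₗ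
        ((LinearMap.llcomp F (Fin a → F) (Fin a → F) (Fin a → F)).flip (A⁻¹).1.toLinearMap) ∘ₗ Φ - Φ with hTdef
    have hT : ∀ y x, T y x = A.1 (Φ y ((A⁻¹).1 x)) - Φ y x := fun y x => rfl
    have e : El M qh b₀ T := by
      refine ⟨g⁻¹ * hm.col (σ A) * g * hm.col A⁻¹, M.mul_mem (M.mul_mem (M.mul_mem (M.inv_mem hg)
        (hF.col _ (map_mem_commutator σ hA))) hg) (hF.col _ (inv_mem hA)), fun u => g.1.injective ?_,
        fun u y hy => g.1.injective ?_⟩
      · rw [mul_apply', mul_apply', mul_apply', Orth.inv_apply, hm.col_pure, hgA, hm.col_pure, hσ, Orth.inv_apply,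
          ← hgA]
      · rw [mul_apply', mul_apply', mul_apply', Orth.inv_apply, hm.col_pure, hgy y hy, hgA, map_add, hm.col_pure,
          hm.col_pure, hσ, hσ, Orth.inv_apply, map_add, hgy y hy, hgA, hgA, hT, map_sub, sub_vecMulVec]
        abel
    obtain ⟨s, hs'⟩ := hnoel T e v hv
    refine ⟨s, fun x => ?_⟩
    have h := LinearMap.congr_fun hs' (A.1 x)
    rw [hT, show (A⁻¹).1 (A.1 x) = x from A.1.symm_apply_apply x, LinearMap.smul_apply, LinearMap.id_apply,
      sub_eq_iff_eq_add] at h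
    rw [h, add_comm]
  exact ⟨E v + l • c, fun u => ⟨A₀ u, by
    rw [hgy v hv, hl, LinearMap.smul_apply, LinearMap.id_apply, hgA, map_smul, smul_vecMulVec, vecMulVec_add,
      vecMulVec_smul]⟩⟩

/-- A full slice in the climb gives a Siegel element. -/
theorem start_of_slice {g : orthGroup Q} (hg : g ∈ M) (hgT : ¬ IsTensor g.1) {b₀ c : Fin b → F} (hb0 : b₀ ≠ 0)
    (hbs : qh b₀ = 0) (hs : ∀ u, ∃ u', g.1 (vecMulVec u b₀) = vecMulVec u' c) : Start M qf qh := by
  by_contra hno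
  have h1 := fun {b₁ c₁ : Fin b → F} (hb1 : b₁ ≠ 0) (hq1 : qh b₁ = 0)
      (hs1 : ∀ u, ∃ u', g.1 (vecMulVec u b₁) = vecMulVec u' c₁) =>
    (slices_perp hF ha hplane hb hq hg hb1 hq1 hs1).resolve_left hno
  refine hgT (TensorMax.isTensor_of_forall (by omega) (by omega) g.1 fun y _ => ?_)
  obtain ⟨v, hv, hv0, hqv⟩ := SimMax.exists_singular_of_three (Q := qh) hm.two
    (U := LinearMap.ker (polarBilin qh b₀) ⊓ LinearMap.ker (polarBilin qh y)) (by
      have := finrank_kerPolar (Q := qh) b₀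
      have := finrank_perp_vec (Q := qh) (S := LinearMap.ker (polarBilin qh b₀)) y
      rw [finrank_fin_fun] at *; omega)
  obtain ⟨hv1, hv2⟩ := hv
  rw [SetLike.mem_coe, mem_ker_polar] at hv1 hv2
  obtain ⟨c', hc'⟩ := h1 hb0 hbs hs v hv1
  exact h1 hv0 hqv hc' y ((polar_comm _ _ _).trans hv2)

end Model

end CfsgLib.Classical.TensorMaxO
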