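import Cfsg.Agent.Lib.Classical.TensorMaxO.Rigid
import Cfsg.Agent.Lib.Classical.TensorMaxO.Slices
import Cfsg.Agent.Lib.Classical.TensorMaxO.Axes
import Cfsg.Agent.Lib.Classical.TensorMax.Matrix
import Cfsg.Agent.Lib.Classical.TensorNonMax
import Cfsg.Agent.Lib.Classical.OrthMaxPair

/-!
# The stabiliser of a tensor product of two orthogonal spaces is maximal in `Ω`
-/

set_option autoImplicit false
set_option linter.unusedSectionVars false
set_option backward.isDefEq.respectTransparency false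

namespace CfsgLib.Classical.TensorMaxO

open Matrix Module QuadraticMap CfsgLib.Orth CfsgLib.Classical
open CfsgLib.Classical.TensorMax (IsTensor)
open scoped Kronecker

variable {F : Type*} [Field F] [Fintype F]

section Model

variable {a b : ℕ} {Q : QuadraticForm F (Matrix (Fin a) (Fin b) F)} {qf : QuadraticForm F (Fin a → F)}
  {qh : QuadraticForm F (Fin b → F)}

/-- An overgroup of the tensor maps of `Ω` with a further element contains `Ω`. -/
theorem Model.omega_le_of_not_tensor (hm : Model Q qf qh) (ha : 3 ≤ a) (hab : a < b) (hb : 5 ≤ b)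
    (hplane : NoPlane qf) (hpar : Odd a ∨ Odd b) (hq : (∃ s : F, s ≠ 0 ∧ s * s ≠ 1) ∨ 4 ≤ a)
    {M : Subgroup (orthGroup Q)} (hM : ContainsTensor M) {g : orthGroup Q} (hg : g ∈ M) (hgT : ¬ IsTensor g.1) :
    commutator (orthGroup Q) ≤ M := by
  have hF := hM.factors hm
  have hn : 5 ≤ finrank F (Matrix (Fin a) (Fin b) F) := by
    simp only [Module.finrank_matrix, finrank_self, mul_one, Fintype.card_fin]
    exact le_trans (show 5 ≤ 3 * 5 by norm_num) (Nat.mul_le_mul ha (by omega))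
  obtain ⟨g', hg', hgT', b₀, c, hb0, hbs, hs⟩ := full_of_not_tensor hF ha hab hb hpar hg hgT
  exact omega_le hF ha (by omega) hn (start_of_slice hF ha hplane (by omega) hq hg' hgT' hb0 hbs hs)

/-- Some element of `Ω` is not a tensor map. -/
theorem Model.exists_not_tensor (hm : Model Q qf qh) (ha : 3 ≤ a) (hb : 3 ≤ b) :
    ∃ g ∈ commutator (orthGroup Q), ¬ IsTensor g.1 := by
  obtain ⟨u, hu0, hu⟩ := CfsgLib.Orth.exists_singular hm.ndf (by rw [finrank_fin_fun]; omega)
  obtain ⟨n, hn, hun⟩ := exists_partner hm.ndf hu hu0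
  obtain ⟨p, hp0, -⟩ := CfsgLib.Orth.exists_singular hm.ndh (by rw [finrank_fin_fun]; omega)
  obtain ⟨w, hpw0, hwp⟩ := exists_notMem_line (S := LinearMap.ker (polarBilin qh p))
    (by have := finrank_kerPolar (Q := qh) p; rw [finrank_fin_fun] at *; omega) p
  rw [mem_ker_polar] at hpw0
  have hpw : p ∉ F ∙ w := fun hmem => by
    obtain ⟨t, ht⟩ := Submodule.mem_span_singleton.1 hmem
    refine hwp (Submodule.mem_span_singleton.2 ⟨t⁻¹, ?_⟩)
    rw [← ht, smul_smul, inv_mul_cancel₀ (fun h => hp0 (by rw [← ht, h, zero_smul])), one_smul]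
  obtain ⟨c, hc0, hc⟩ := exists_polar_one hm.ndh hpw
  obtain ⟨y, hy0, hy⟩ := exists_polar_one hm.ndh hwp
  have hqu : Q (vecMulVec u c) = 0 := by rw [hm.quad_pure, hu, mul_zero, zero_mul]
  obtain ⟨g, hg⟩ := exists_isSiegel hm.nondeg hqu (u := vecMulVec u w)
    (show polar Q (vecMulVec u c) (vecMulVec u w) = 0 by rw [hm.pol, polar_self', hu, mul_zero, zero_mul])
  refine ⟨g, siegel_mem_commutator hm.nondeg hm.two hg, fun hT => ?_⟩
  obtain ⟨A, C, -, -, hAC⟩ := TensorMaxU.tensor_pure hT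
  have hcw : polar qh c w = 0 := hc0 w (Submodule.mem_span_singleton_self w)
  have hyp : polar qh y p = 0 := hy0 p (Submodule.mem_span_singleton_self p)
  have hcp : polar qh c p = 1 := hc
  have hyw : polar qh y w = 1 := hy
  have e : vecMulVec n p + vecMulVec u w = vecMulVec (A n) (C p) := by
    rw [← hAC n p, hg.2.2, hm.pol, hm.pol, hm.quad_pure, hu, polar_comm qh w p, hpw0, hun, hcp]
    simp
  have e1 := congrArg (ct a qh y) e
  have e2 := congrArg (ct a qh c) e
  simp only [one_mul, mul_zero, zero_mul, add_zero, one_smul, map_add, map_sub, map_smul, ct_vecMulVec, hyp, hyw, hcw,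
    hcp, polar_self', zero_smul, zero_add, sub_zero] at e1 e2
  have hk : polar qf u u = 0 := by rw [polar_self', hu, mul_zero]
  set α := polar qh y (C p)
  set β := polar qh c (C p)
  have f1 := congrArg (polar qf u) e1
  have f2 := congrArg (polar qf u) e2
  simp only [polar_add_right, polar_sub_right, polar_smul_r', hun, hk, mul_zero, sub_zero, add_zero, zero_add] at f1 f2
  have g1 := congrArg (polar qf n) e1
  simp only [polar_add_right, polar_sub_right, polar_smul_r', polar_comm qf n u, hun, polar_self', hn, mul_zero,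
    sub_zero, add_zero, zero_add] at g1
  rcases mul_eq_zero.1 f1.symm with h | h
  · rw [h, zero_mul] at g1
    simp at g1
  · rw [h, mul_zero] at f2
    simp at f2

end Model

variable {ι : Type} [Fintype ι] [DecidableEq ι] {n₁ n₂ : ℕ}

/-- Matrices as column vectors in the coordinates `e`, moved by `P`. -/
def coordsI (e : ι ≃ Fin n₁ × Fin n₂) (P : GL ι F) : Matrix (Fin n₁) (Fin n₂) F ≃ₗ[F] (ι → F) where
  toFun X := (P : Matrix ι ι F) *ᵥ fun i => X (e i).1 (e i).2
  invFun x := Matrix.of fun r s => (((P⁻¹ : GL ι F) : Matrix ι ι F) *ᵥ x) (e.symm (r, s))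
  map_add' X Y := by rw [← mulVec_add]; rfl
  map_smul' c X := by rw [RingHom.id_apply, ← mulVec_smul]; rfl
  left_inv X := by
    ext r s
    simp only [Matrix.of_apply, mulVec_mulVec, ← Units.val_mul, inv_mul_cancel, Units.val_one, one_mulVec]
    rw [e.apply_symm_apply]
  right_inv x := by
    have : (fun i => (Matrix.of fun r s => (((P⁻¹ : GL ι F) : Matrix ι ι F) *ᵥ x) (e.symm (r, s))) (e i).1 (e i).2) =
        ((P⁻¹ : GL ι F) : Matrix ι ι F) *ᵥ x := funext fun i => by simp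
    show (P : Matrix ι ι F) *ᵥ _ = x
    rw [this, mulVec_mulVec, ← Units.val_mul, mul_inv_cancel, Units.val_one, one_mulVec]

/-- A tensor map lies in the stabiliser of the decomposition. -/
theorem mem_tensorProductSubgroup (e : ι ≃ Fin n₁ × Fin n₂) (P G : GL ι F)
    {g : Matrix (Fin n₁) (Fin n₂) F ≃ₗ[F] Matrix (Fin n₁) (Fin n₂) F} (hg : IsTensor g)
    (hG : ∀ X, (G : Matrix ι ι F) *ᵥ coordsI e P X = coordsI e P (g X)) :
    G ∈ Cfsg.Geo.tensorProductSubgroup n₁ n₂ e P := by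
  obtain ⟨A, C, hA, hC, hg⟩ := hg
  let A' : GL (Fin n₁) F := GeneralLinearGroup.mkOfDetNeZero A hA
  let C' : GL (Fin n₂) F := GeneralLinearGroup.mkOfDetNeZero Cᵀ (by rwa [det_transpose])
  let K : GL (Fin n₁ × Fin n₂) F := GeneralLinearGroup.mkOfDetNeZero (A ⊗ₖ Cᵀ) (by
    rw [det_kronecker, det_transpose]; exact mul_ne_zero (pow_ne_zero _ hA) (pow_ne_zero _ hC))
  suffices h : G = MulAut.conj P (Cfsg.Geo.glReindex e.symm K) by
    rw [h]
    exact Subgroup.mem_map.2 ⟨_, Subgroup.mem_map.2 ⟨K, ⟨A', C', rfl⟩, rfl⟩, rfl⟩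
  refine Units.ext (Matrix.ext_iff_mulVec.2 fun x => ?_)
  obtain ⟨X, rfl⟩ := (coordsI e P).surjective x
  rw [hG, hg, MulAut.conj_apply, Units.val_mul, Units.val_mul]
  show (P : Matrix ι ι F) *ᵥ _ = _ *ᵥ ((P : Matrix ι ι F) *ᵥ _)
  rw [mulVec_mulVec, Matrix.mul_assoc _ _ (P : Matrix ι ι F), ← Units.val_mul P⁻¹, inv_mul_cancel, Units.val_one,
    Matrix.mul_one, ← mulVec_mulVec]
  congr 1
  funext i
  show _ = (Matrix.reindex e.symm e.symm (A ⊗ₖ Cᵀ) *ᵥ _) i
  simp only [Matrix.mulVec, dotProduct, Matrix.reindex_apply, Matrix.submatrix_apply, Equiv.symm_symm,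
    Matrix.kroneckerMap_apply, Matrix.mul_apply, Matrix.transpose_apply]
  rw [← e.symm.sum_comp, Fintype.sum_prod_type]
  simp only [Equiv.apply_symm_apply, Finset.sum_mul]
  rw [Finset.sum_comm]
  exact Finset.sum_congr rfl fun s _ => Finset.sum_congr rfl fun r _ => by ring

/-- A multiple of a symmetric form as a bilinear map. -/
def biSym {k : ℕ} (c : F) {g : (Fin k → F) → (Fin k → F) → F} (hg : Cfsg.Geo.IsSymmetricForm g) :
    (Fin k → F) →ₗ[F] (Fin k → F) →ₗ[F] F :=
  LinearMap.mk₂ F (fun x y => c * g x y)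
    (fun x y v => by rw [hg.bilinear.add_left, mul_add])
    (fun t x v => by rw [hg.bilinear.smul_left, smul_eq_mul]; ring)
    (fun v x y => by rw [hg.bilinear.add_right, mul_add])
    (fun t v x => by rw [hg.bilinear.smul_right, smul_eq_mul]; ring)

/-- The quadratic form with polar form `c` times `g`. -/
def quadSym {k : ℕ} (c : F) {g : (Fin k → F) → (Fin k → F) → F} (hg : Cfsg.Geo.IsSymmetricForm g) :
    QuadraticForm F (Fin k → F) :=
  LinearMap.BilinMap.toQuadraticMap (biSym ((2 : F)⁻¹ * c) hg)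

theorem polar_quadSym (h2 : (2 : F) ≠ 0) {k : ℕ} (c : F) {g : (Fin k → F) → (Fin k → F) → F}
    (hg : Cfsg.Geo.IsSymmetricForm g) (x y : Fin k → F) : polar (quadSym c hg) x y = c * g x y := by
  rw [quadSym, LinearMap.BilinMap.polar_toQuadraticMap]
  show (2 : F)⁻¹ * c * g x y + (2 : F)⁻¹ * c * g y x = _
  rw [hg.symm y x, ← add_mul, ← two_mul, ← mul_assoc, mul_inv_cancel₀ h2, one_mul]

theorem nondeg_quadSym (h2 : (2 : F) ≠ 0) {k : ℕ} {c : F} (hc : c ≠ 0) {g : (Fin k → F) → (Fin k → F) → F}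
    (hg : Cfsg.Geo.IsSymmetricForm g) : (polarBilin (quadSym c hg)).Nondegenerate := by
  refine nondegenerate_of_left fun x hx => ?_
  by_contra hne
  obtain ⟨-, y, hy⟩ := hg.nondegenerate x hne
  have h := hx y
  rw [polar_quadSym h2] at h
  exact hy ((mul_eq_zero.1 h).resolve_left hc)

/-- The stabiliser of the tensor decomposition is maximal in `Ω`. -/
theorem omega_isMaximal {Qf : (ι → F) → F} (hQ : Cfsg.Geo.IsNondegenerateQuadraticForm Qf) (h2 : (2 : F) ≠ 0)
    {e : ι ≃ Fin n₁ × Fin n₂} {P : GL ι F}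
    {f₁ : (Fin n₁ → F) → (Fin n₁ → F) → F} {f₂ : (Fin n₂ → F) → (Fin n₂ → F) → F}
    (hf₁ : Cfsg.Geo.IsSymmetricForm f₁) (hf₂ : Cfsg.Geo.IsSymmetricForm f₂)
    (hT : Cfsg.Geo.IsTensorFormStructure id (polar Qf) f₁ f₂ e P)
    (ha : 3 ≤ n₁) (hab : n₁ < n₂) (hb : 5 ≤ n₂) (hpar : Odd n₁ ∨ Odd n₂)
    (hplane : n₁ = 4 → ∀ u v, u ≠ 0 → f₁ u u = 0 → f₁ v v = 0 → f₁ u v = 0 → v ∈ F ∙ u)
    (hq : (∃ s : F, s ≠ 0 ∧ s * s ≠ 1) ∨ 4 ≤ n₁) :
    Cfsg.Geo.IsMaximalIn (Cfsg.Geo.omegaGL Qf)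
      (Cfsg.Geo.tensorProductSubgroup n₁ n₂ e P ⊓ Cfsg.Geo.omegaGL Qf) := by
  classical
  obtain ⟨Q, hQf, -⟩ := exists_quadOf hQ
  obtain ⟨c, hc, hf⟩ := TensorNonMax.tmap_form e P (σ := id) (fun _ _ => rfl) hT
  set Φ := coordsI e P with hΦ
  set Q' : QuadraticForm F (Matrix (Fin n₁) (Fin n₂) F) := Q.comp Φ.toLinearMap with hQ'
  have hQ'v : ∀ X, Q (Φ X) = Q' X := fun X => rfl
  have gr : ∀ {k : ℕ} {g : (Fin k → F) → (Fin k → F) → F} (hg : Cfsg.Geo.IsSymmetricForm g) (x y : Fin k → F),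
      Cfsg.Geo.formOfGram id (Cfsg.Geo.gramMatrix g) x y = g x y := fun {k g} hg x y =>
    TensorNonMax.gram_expand hg.bilinear.add_left hg.bilinear.smul_left hg.bilinear.add_right
      (fun t v x => hg.bilinear.smul_right t v x) x y
  have hm : Model Q' (quadSym c hf₁) (quadSym 1 hf₂) :=
    { two := h2
      ndf := nondeg_quadSym h2 hc hf₁
      ndh := nondeg_quadSym h2 one_ne_zero hf₂
      pol := fun u u' w w' => by
        have e1 : polar Q' (vecMulVec u w) (vecMulVec u' w') =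
            polar Qf (TensorNonMax.tmap e P u w) (TensorNonMax.tmap e P u' w') := by
          simp only [QuadraticMap.polar, hQf]
          show Q' _ - Q' _ - Q' _ = _
          rw [← hQ'v, map_add]
          rfl
        rw [e1, hf, gr hf₁, gr hf₂, polar_quadSym h2, polar_quadSym h2, one_mul]
        ring }
  have hplane' : NoPlane (quadSym c hf₁) := fun h4 u v hu hqu hqv huv => by
    have key : ∀ x y, polar (quadSym c hf₁) x y = 0 → f₁ x y = 0 := fun x y h => by
      rw [polar_quadSym h2] at h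
      exact (mul_eq_zero.1 h).resolve_left hc
    exact hplane h4 u v hu (key u u (by rw [polar_self', hqu, mul_zero])) (key v v (by rw [polar_self', hqv, mul_zero]))
      (key u v huv)
  set D : orthGroup Q' ≃* orthGroup Q := orthGroupCongr Φ hQ'v with hD
  have hmem : ∀ g, orthToGL Q hQf (D g) ∈ Cfsg.Geo.tensorProductSubgroup n₁ n₂ e P ↔ IsTensor g.1 := by
    intro g
    have hv : ∀ X, (orthToGL Q hQf (D g) : Matrix ι ι F) *ᵥ Φ X = Φ (g.1 X) := fun X => by
      rw [← Matrix.toLin'_apply, toLin'_orthToGL]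
      show Φ (g.1 (Φ.symm (Φ X))) = _
      rw [Φ.symm_apply_apply]
    constructor
    · intro hmem
      obtain ⟨A, C, hAC⟩ := TensorNonMax.tmap_mul e P hmem
      exact TensorMax.isTensor_of_forall (by omega) (by omega) _ fun w _ =>
        ⟨(C : Matrix _ _ F) *ᵥ w, fun u => ⟨(A : Matrix _ _ F) *ᵥ u, Φ.injective (by
          rw [← hv]
          exact hAC u w)⟩⟩
    · exact fun hT' => mem_tensorProductSubgroup e P _ hT' hv
  have hcomm : ∀ g, D g ∈ commutator (orthGroup Q) ↔ g ∈ commutator (orthGroup Q') := fun g => by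
    have e1 : (commutator (orthGroup Q')).map D.toMonoidHom = commutator (orthGroup Q) := by
      rw [commutator_def, Subgroup.map_commutator, Subgroup.map_top_of_surjective _ D.surjective, commutator_def]
    rw [← e1]
    exact Subgroup.mem_map_equiv.trans (by rw [D.symm_apply_apply])
  refine omega_isMaximalIn_inf Q hQf _ ?_ fun M hM g hgM _ hgN => ?_
  · obtain ⟨g, hg, hgT⟩ := hm.exists_not_tensor ha (by omega)
    exact ⟨D g, (hcomm g).2 hg, fun hN => hgT ((hmem g).1 hN)⟩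
  · obtain ⟨g', rfl⟩ := D.surjective g
    have hle := hm.omega_le_of_not_tensor ha hab hb hplane' hpar hq (M := M.comap D.toMonoidHom)
      (fun k hk hkT => hM _ ((hcomm k).2 hk) ((hmem k).2 hkT)) (g := g') hgM fun hT' => hgN ((hmem g').2 hT')
    intro k hk
    obtain ⟨k', rfl⟩ := D.surjective k
    exact hle ((hcomm k').1 hk)

/-- The stabiliser does not depend on the order of the factors. -/
theorem tensorProductSubgroup_le_swap (e : ι ≃ Fin n₁ × Fin n₂) (P : GL ι F) :
    Cfsg.Geo.tensorProductSubgroup n₁ n₂ e P ≤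
      Cfsg.Geo.tensorProductSubgroup n₂ n₁ (e.trans (Equiv.prodComm _ _)) P := by
  rintro _ ⟨_, ⟨g, ⟨A, B, hg⟩, rfl⟩, rfl⟩
  refine Subgroup.mem_map.2 ⟨_, Subgroup.mem_map.2
    ⟨Cfsg.Geo.glReindex (Equiv.prodComm _ _) g, ⟨B, A, ?_⟩, rfl⟩, ?_⟩
  · show Matrix.reindex (Equiv.prodComm _ _) (Equiv.prodComm _ _) (g : Matrix (Fin n₁ × Fin n₂) (Fin n₁ × Fin n₂) F) = _
    rw [hg]
    ext ⟨i, j⟩ ⟨k, l⟩
    simp [mul_comm]
  · congr 1

theorem tensorProductSubgroup_swap (e : ι ≃ Fin n₁ × Fin n₂) (P : GL ι F) :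
    Cfsg.Geo.tensorProductSubgroup n₂ n₁ (e.trans (Equiv.prodComm _ _)) P =
      Cfsg.Geo.tensorProductSubgroup n₁ n₂ e P := by
  refine le_antisymm ?_ (tensorProductSubgroup_le_swap e P)
  have h := tensorProductSubgroup_le_swap (e.trans (Equiv.prodComm _ _)) P
  rwa [show (e.trans (Equiv.prodComm _ _)).trans (Equiv.prodComm _ _) = e from Equiv.ext fun i => Prod.swap_swap _]
    at h

theorem isTensorFormStructure_swap {f : (ι → F) → (ι → F) → F} {f₁ : (Fin n₁ → F) → (Fin n₁ → F) → F}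
    {f₂ : (Fin n₂ → F) → (Fin n₂ → F) → F} {e : ι ≃ Fin n₁ × Fin n₂} {P : GL ι F}
    (hT : Cfsg.Geo.IsTensorFormStructure id f f₁ f₂ e P) :
    Cfsg.Geo.IsTensorFormStructure id f f₂ f₁ (e.trans (Equiv.prodComm _ _)) P := by
  obtain ⟨c, hc, h⟩ := hT
  refine ⟨c, hc, fun x y => (h (x ∘ Prod.swap) (y ∘ Prod.swap)).trans ?_⟩
  congr 1
  simp only [Cfsg.Geo.formOfGram]
  rw [← (Equiv.prodComm (Fin n₂) (Fin n₁)).sum_comp]
  refine Finset.sum_congr rfl fun p _ => ?_
  rw [← (Equiv.prodComm (Fin n₂) (Fin n₁)).sum_comp]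
  refine Finset.sum_congr rfl fun p' _ => ?_
  simp only [Function.comp_apply, Equiv.prodComm_apply, Prod.swap_swap, Matrix.kroneckerMap_apply, Prod.fst_swap,
    Prod.snd_swap, id]
  ring

/-- A form of minus type in dimension four has no totally singular plane. -/
theorem noPlane_of_minus {k : ℕ} {f : (Fin k → F) → (Fin k → F) → F} (hf : Cfsg.Geo.IsSymmetricForm f)
    (hm : ¬ Cfsg.Geo.IsPlusTypeOn (fun v : Fin k → F => f v v) ⊤) :
    k = 4 → ∀ u v, u ≠ 0 → f u u = 0 → f v v = 0 → f u v = 0 → v ∈ F ∙ u := by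
  intro hk u v hu huu hvv huv
  by_contra hvu
  refine hm ⟨Submodule.span F (Set.range ![u, v]), le_top, fun w hw => ?_, ?_⟩
  · rw [Matrix.range_cons, Matrix.range_cons, Matrix.range_empty, Set.union_empty, ← Set.insert_eq,
      Submodule.mem_span_pair] at hw
    obtain ⟨s, t, rfl⟩ := hw
    show f (s • u + t • v) (s • u + t • v) = 0
    simp only [hf.bilinear.add_left, hf.bilinear.add_right, hf.bilinear.smul_left, hf.bilinear.smul_right, huu, hvv,
      huv, hf.symm v u]
    ring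
  · have hli : LinearIndependent F ![u, v] := (LinearIndependent.pair_iff' hu).2 fun t ht =>
      hvu (Submodule.mem_span_singleton.2 ⟨t, ht⟩)
    rw [finrank_span_eq_card hli, finrank_top, finrank_fin_fun, Fintype.card_fin, hk]

end CfsgLib.Classical.TensorMaxO
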