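import Cfsg.Agent.Lib.Classical.TensorMaxO.Climb
import Cfsg.Agent.Lib.Classical.TensorMaxS.Rad

/-!
# The first line of a slice
-/

set_option autoImplicit false
set_option linter.unusedSectionVars false

namespace CfsgLib.Classical.TensorMaxO

open Matrix Module QuadraticMap CfsgLib.Orth CfsgLib.Classical
open CfsgLib.Classical.TensorMax (IsTensor)
open CfsgLib.Classical.TensorMaxU (vecMulVec_row sl1 sl2 sl2_injective)

variable {F : Type*} [Field F] [Fintype F] {a b : ℕ} {Q : QuadraticForm F (Matrix (Fin a) (Fin b) F)}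
  {qf : QuadraticForm F (Fin a → F)} {qh : QuadraticForm F (Fin b → F)} {M : Subgroup (orthGroup Q)}

/-- For `b = a + 2`: one square class of vectors has, up to sign, the row reflections in `M`. -/
def HasRefl (hm : Model Q qf qh) (M : Subgroup (orthGroup Q)) : Prop :=
  ∃ κ : F, κ ≠ 0 ∧ ∀ v, qh v ≠ 0 → IsSquare (κ * qh v) → ∃ s ∈ M, ∀ X, s.1 X = -((hm.row (refl qh v)).1 X)

theorem isTensor_neg {g k : Matrix (Fin a) (Fin b) F ≃ₗ[F] Matrix (Fin a) (Fin b) F} (hg : IsTensor g)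
    (h : ∀ X, k X = -g X) : IsTensor k := by
  obtain ⟨A, C, hA, hC, hAC⟩ := hg
  refine ⟨-A, C, ?_, hC, fun X => by rw [h, hAC, Matrix.neg_mul, Matrix.neg_mul]⟩
  rw [det_neg]
  exact mul_ne_zero (pow_ne_zero _ (neg_ne_zero.2 one_ne_zero)) hA

namespace Model

variable {hm : Model Q qf qh} (hF : ContainsFactors hm M) (ha : 3 ≤ a) (hab : a + 2 ≤ b)
include hF ha hab

/-- A conjugated reflection that is a tensor map gives a slice. -/
theorem slice_of_refl {g : orthGroup Q} {v : Fin b → F} (hv : qh v ≠ 0)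
    (hT : IsTensor (g⁻¹ * hm.row (refl qh v) * g).1) :
    ∃ v', ∀ z, ∃ z', (g⁻¹).1 (vecMulVec z v) = vecMulVec z' v' := by
  set U : Matrix (Fin a) (Fin b) F →ₗ[F] Matrix (Fin a) (Fin b) F :=
    -((qh v)⁻¹ • (g.1.symm.toLinearMap ∘ₗ sl2 a v ∘ₗ ct a qh v ∘ₗ g.1.toLinearMap)) with hUdef
  have hrow : ∀ Y, (hm.row (refl qh v)).1 Y = Y - (qh v)⁻¹ • vecMulVec (ct a qh v Y) v := fun Y => funext fun i => by
    show (refl qh v).1 (Y i) = _
    rw [refl_apply, mul_smul]
    rfl
  have hU : ∀ X, (g⁻¹ * hm.row (refl qh v) * g).1 X = X + U X := fun X => by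
    show g.1.symm ((hm.row (refl qh v)).1 (g.1 X)) = _
    rw [hrow, map_sub, map_smul, g.1.symm_apply_apply, sub_eq_add_neg]
    rfl
  have hr : finrank F (LinearMap.range U) ≤ a := by
    have hle : LinearMap.range U ≤ LinearMap.range (g.1.symm.toLinearMap ∘ₗ sl2 a v) := by
      rintro _ ⟨X, rfl⟩
      exact ⟨-((qh v)⁻¹ • ct a qh v (g.1 X)), by simp [hUdef]⟩
    exact (Submodule.finrank_mono hle).trans
      (by simpa using LinearMap.finrank_range_le (g.1.symm.toLinearMap ∘ₗ sl2 a v))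
  obtain ⟨η, d, hηd⟩ := TensorMax.range_of_isTensor (by omega) (by omega) hT hU hr
  have h2 : (2 : F) ≠ 0 := hm.two
  refine ⟨d, fun z => ⟨-(2 : F)⁻¹ • (g.1.symm (vecMulVec z v) *ᵥ η), ?_⟩⟩
  rw [smul_vecMulVec, ← hηd, hUdef]
  simp only [LinearMap.neg_apply, LinearMap.smul_apply, LinearMap.comp_apply, LinearEquiv.coe_coe,
    g.1.apply_symm_apply, ct_vecMulVec, polar_self']
  show g.1.symm (vecMulVec z v) = -(2 : F)⁻¹ • -((qh v)⁻¹ • g.1.symm (vecMulVec ((2 * qh v) • z) v))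
  rw [smul_vecMulVec, map_smul, smul_neg, neg_smul, neg_neg, smul_smul, smul_smul]
  rw [show (2 : F)⁻¹ * (qh v)⁻¹ * (2 * qh v) = 1 by field_simp, one_smul]

/-- A kernel vector gives a line of a slice. -/
theorem full_of_kernel (hR : a + 2 = b → HasRefl hm M) (hpar : a + 3 ≤ b ∨ Odd a)
    (hq : (∃ s : F, s ≠ 0 ∧ s * s ≠ 1) ∨ 4 ≤ a) {g : orthGroup Q} {b₀ c : Fin b → F} (hst : State M qh g b₀ c)
    {x r : Fin a → F} (hx : x ≠ 0) (hx0 : ct a qh c (g.1 (vecMulVec x b₀)) = 0) (hr0 : r ≠ 0) (hqr : qf r = 0)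
    (hrx : polar qf r x = 0) : Full M qh := by
  classical
  -- finish from a vector killed by a parameter
  have fin : ∀ {g : orthGroup Q} {b₀ c y : Fin b → F} {x r : Fin a → F}, State M qh g b₀ c → x ≠ 0 → r ≠ 0 →
      qf r = 0 → polar qf r x = 0 → ct a qh c (g.1 (vecMulVec x b₀)) = 0 → polar qh c y = 0 → y ∉ F ∙ c →
      ct a qh y (g.1 (vecMulVec x b₀)) = 0 → Full M qh := by
    intro g b₀ c y x r hst hx hr0 hqr hrx hx0 hcy hyc hy0
    rcases step hF ha hab hst (W₀ := ⊥) (fun w hw => ⟨0, by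
        rw [(Submodule.mem_bot F).1 hw, zero_vecMulVec, map_zero, zero_vecMulVec]⟩) hx0 hcy hyc (w₁ := 0)
        (by rw [hy0, zero_vecMulVec, map_zero, zero_vecMulVec]) with h | ⟨k, hk, hkx, -⟩
    · exact h
    rw [sub_zero] at hkx
    exact full_of_line hF ha hab hk hx hkx hr0 hqr hrx
  set Z := g.1 (vecMulVec x b₀) with hZ
  by_cases hex : ∃ y, polar qh c y = 0 ∧ y ∉ F ∙ c ∧ ct a qh y Z = 0
  · obtain ⟨y, hcy, hyc, hy0⟩ := hex
    exact fin hst hx hr0 hqr hrx hx0 hcy hyc hy0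
  push Not at hex
  set L := (ct a qh).flip Z
  have hYdim : b ≤ finrank F (LinearMap.ker L) + a := by
    have h1 := L.finrank_range_add_finrank_ker
    have h2 := Submodule.finrank_le (LinearMap.range L)
    rw [finrank_fin_fun] at h1 h2
    omega
  have hline : LinearMap.ker (polarBilin qh c) ⊓ LinearMap.ker L ≤ F ∙ c := fun y hy => by
    by_contra hyc
    exact hex y hy.1 hyc hy.2
  have hab2 : a + 2 = b := by
    have h1 := finrank_perp_vec (Q := qh) (S := LinearMap.ker L) c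
    have h2 := Submodule.finrank_mono hline
    rw [inf_comm, finrank_span_singleton hst.c0] at h2
    omega
  have ho : Odd a := hpar.resolve_left (by omega)
  obtain ⟨d₁, hd₁, hcd₁⟩ : ∃ d ∈ LinearMap.ker L, polar qh c d ≠ 0 := by
    by_contra! hall
    have h2 := Submodule.finrank_mono ((le_inf (fun y hy => hall y hy) le_rfl).trans hline)
    rw [finrank_span_singleton hst.c0] at h2
    omega
  obtain ⟨d₂, hcd₂, hd₂⟩ : ∃ d₂, polar qh c d₂ = 1 ∧ ct a qh d₂ Z = 0 :=
    ⟨(polar qh c d₁)⁻¹ • d₁, by rw [polar_smul_r', inv_mul_cancel₀ hcd₁],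
      by rw [map_smul, LinearMap.smul_apply, show ct a qh d₁ Z = 0 from hd₁, smul_zero]⟩
  obtain ⟨d, hcd, hqd, hdL⟩ : ∃ d, polar qh c d = 1 ∧ qh d = 0 ∧ ct a qh d Z = 0 := by
    refine ⟨d₂ + (-qh d₂) • c, ?_, ?_, ?_⟩
    · rw [polar_add_right, polar_smul_r', polar_self', hst.qc, hcd₂]; ring
    · rw [quad_add', quad_smul', polar_smul_r', polar_comm _ d₂ c, hst.qc, hcd₂]; ring
    · rw [map_add, LinearMap.add_apply, map_smul, LinearMap.smul_apply, hx0, smul_zero, add_zero, hd₂]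
  set vs : F → (Fin b → F) := fun s => c + s • d
  have hvs : ∀ s, qh (vs s) = s := fun s => by
    show qh (c + s • d) = s
    rw [quad_add', quad_smul', polar_smul_r', hst.qc, hqd, hcd]; ring
  obtain ⟨κ, hκ, hκs⟩ := hR hab2
  by_cases hgood : ∃ s, s ≠ 0 ∧ IsSquare (κ * s) ∧ ¬ IsTensor (g⁻¹ * hm.row (refl qh (vs s)) * g).1
  · obtain ⟨s, hs0, hsq, hnT⟩ := hgood
    obtain ⟨σ, hσ, hσX⟩ := hκs (vs s) (by rwa [hvs]) (by rwa [hvs])
    have hkX : ∀ X, (g⁻¹ * σ * g).1 X = -((g⁻¹ * hm.row (refl qh (vs s)) * g).1 X) := fun X => by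
      show g.1.symm (σ.1 (g.1 X)) = -g.1.symm ((hm.row (refl qh (vs s))).1 (g.1 X))
      rw [hσX, map_neg]
    have hfix : (hm.row (refl qh (vs s))).1 Z = Z := funext fun i => refl_fix qh (by
      have e : ct a qh (vs s) Z = 0 := by
        show ct a qh (c + s • d) Z = 0
        rw [map_add, LinearMap.add_apply, map_smul, LinearMap.smul_apply, hdL, hx0, smul_zero, add_zero]
      exact congrFun e i)
    refine full_of_line hF ha hab (g := g⁻¹ * σ * g) (c := b₀)
      ⟨M.mul_mem (M.mul_mem (M.inv_mem hst.mem) hσ) hst.mem, fun hT => hnT (isTensor_neg hT fun X => by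
        rw [hkX, neg_neg]), hst.b0, hst.qb, hst.b0, hst.qb⟩ hx (x' := -x) ?_ hr0 hqr
      (by rw [polar_neg_right, hrx, neg_zero])
    rw [hkX, mul_apply', mul_apply', ← hZ, hfix, hZ, neg_vecMulVec]
    show -g.1.symm (g.1 (vecMulVec x b₀)) = _
    rw [g.1.symm_apply_apply]
  push Not at hgood
  have hslice : ∀ t : F, t ≠ 0 → ∃ v', ∀ z, ∃ z', (g⁻¹).1 (vecMulVec z (vs (κ * (t * t)))) = vecMulVec z' v' :=
    fun t ht => slice_of_refl hF ha hab (by rw [hvs]; exact mul_ne_zero hκ (mul_ne_zero ht ht))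
      (hgood _ (mul_ne_zero hκ (mul_ne_zero ht ht)) ⟨κ * t, by ring⟩)
  rcases hq with ⟨k, hk0, hk1⟩ | ha4
  · -- two slices span a plane
    set s₁ := κ * (1 * 1) with hs₁
    set s₂ := κ * (k * k) with hs₂
    obtain ⟨v₁, hv₁⟩ := hslice 1 one_ne_zero
    obtain ⟨v₂, hv₂⟩ := hslice k hk0
    have hne : s₂ - s₁ ≠ 0 := by
      rw [hs₁, hs₂, ← mul_sub, one_mul]
      exact mul_ne_zero hκ (sub_ne_zero.2 hk1)
    set L₂ := (linPart qf qh g b₀ c x) with hL₂
    obtain ⟨y, hy, hyc⟩ := exists_notMem_line (S := LinearMap.ker (polarBilin qh c) ⊓ LinearMap.ker L₂) (by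
      have h := finrank_le_inf_ker (LinearMap.ker (polarBilin qh c)) L₂
        (R := ((⊥ : Submodule F (Fin a → F)) ⊔ F ∙ x).dualAnnihilator) fun y hy =>
        linPart_mem hst.qc (fun w hw => ⟨0, by
          rw [(Submodule.mem_bot F).1 hw, zero_vecMulVec, map_zero, zero_vecMulVec]⟩) x hy
      have := finrank_kerPolar (Q := qh) c
      have := annihilator_dim (W₀ := (⊥ : Submodule F (Fin a → F))) (x := x) (by simpa using hx)
      rw [finrank_fin_fun, finrank_bot] at *; omega) c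
    obtain ⟨hcy, hLy⟩ := hy
    rw [SetLike.mem_coe, mem_ker_polar] at hcy
    rcases next_state hF ha hab hst hcy hyc with h | ⟨k₁, hk₁, hkX, hform⟩
    · exact h
    have hk₁0 : ct a qh b₀ (k₁.1 (vecMulVec x b₀)) = 0 := hm.eq_of_forall fun x' => by
      rw [hform, nextForm_eq, LinearMap.mem_ker.1 hLy, quadPart_apply, hx0, polar_zero_right, polar_zero_right]
      simp
    obtain ⟨y', hy', hy'b⟩ := exists_notMem_line
      (S := LinearMap.ker (polarBilin qh b₀) ⊓ LinearMap.ker (polarBilin qh v₁) ⊓ LinearMap.ker (polarBilin qh v₂))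
      (by
        have := finrank_kerPolar (Q := qh) b₀
        have := finrank_perp_vec (Q := qh) (S := LinearMap.ker (polarBilin qh b₀)) v₁
        have := finrank_perp_vec (Q := qh) (S := LinearMap.ker (polarBilin qh b₀) ⊓ LinearMap.ker (polarBilin qh v₁)) v₂
        rw [finrank_fin_fun] at *; omega) b₀
    obtain ⟨⟨hby', hv₁y'⟩, hv₂y'⟩ := hy'
    rw [SetLike.mem_coe, mem_ker_polar] at hby' hv₁y' hv₂y'
    refine fin hk₁ hx hr0 hqr hrx hk₁0 hby' hy'b ?_
    set w := -ct a qh y Z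
    have hw : k₁.1 (vecMulVec x b₀) = vecMulVec x b₀ + g.1.symm (vecMulVec w c) := by
      rw [hkX, conjU_apply, ← hZ, hx0, smul_zero, sub_zero, zero_vecMulVec, zero_add]
    obtain ⟨z₁, hz₁⟩ := hv₁ ((s₂ / (s₂ - s₁)) • w)
    obtain ⟨z₂, hz₂⟩ := hv₂ ((-s₁ / (s₂ - s₁)) • w)
    have hsplit : g.1.symm (vecMulVec w c) = vecMulVec z₁ v₁ + vecMulVec z₂ v₂ := by
      rw [← hz₁, ← hz₂, ← hs₁, ← hs₂, ← symm_apply_eq, ← map_add]
      congr 1
      show vecMulVec w c = vecMulVec _ (c + s₁ • d) + vecMulVec _ (c + s₂ • d)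
      simp only [smul_vecMulVec, vecMulVec_add, vecMulVec_smul]
      match_scalars <;> field_simp <;> ring
    rw [hw, hsplit, map_add, map_add, ct_vecMulVec, ct_vecMulVec, ct_vecMulVec, polar_comm _ y' b₀, hby',
      polar_comm _ y' v₁, hv₁y', polar_comm _ y' v₂, hv₂y']
    simp
  · -- a preserved anisotropic slice
    have ha5 : 5 ≤ a := by obtain ⟨j, hj⟩ := ho; omega
    set v := vs (κ * (1 * 1)) with hv
    have hqv : qh v ≠ 0 := by rw [hv, hvs]; simpa using hκ
    obtain ⟨v', hv'⟩ := hslice 1 one_ne_zero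
    rw [← hv] at hv'
    have hv0 : v ≠ 0 := fun e => hqv (by rw [e, QuadraticMap.map_zero])
    choose A hA using hv'
    have hAl : ∀ z z' : Fin a → F, (g⁻¹).1 (vecMulVec (z + z') v) = vecMulVec (A z + A z') v' := fun z z' => by
      rw [add_vecMulVec, map_add, hA, hA, add_vecMulVec]
    obtain ⟨z₀, -, hz₀⟩ := exists_anisotropic_in hm.ndf (S := ⊤) (by rw [finrank_top, finrank_fin_fun]; omega)
    have hqv' : qh v' ≠ 0 := fun e => by
      have h := apply_quad (g⁻¹) (vecMulVec z₀ v)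
      rw [hA, hm.quad_pure, hm.quad_pure, e, mul_zero] at h
      exact mul_ne_zero (mul_ne_zero hm.two hz₀) hqv h.symm
    have hv'0 : v' ≠ 0 := fun e => hqv' (by rw [e, QuadraticMap.map_zero])
    have hgv : ∀ z', ∃ z, g.1 (vecMulVec z' v') = vecMulVec z v := by
      intro z'
      let Al : (Fin a → F) →ₗ[F] (Fin a → F) :=
        { toFun := A
          map_add' := fun z z' => (sl2_injective (a := a) hv'0 (show vecMulVec (A (z + z')) v' =
            vecMulVec (A z + A z') v' by rw [← hA, hAl]))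
          map_smul' := fun t z => (sl2_injective (a := a) hv'0 (show vecMulVec (A (t • z)) v' =
            vecMulVec (t • A z) v' by rw [← hA, smul_vecMulVec, map_smul, hA, smul_vecMulVec])) }
      have hinj : Function.Injective Al := (injective_iff_map_eq_zero _).2 fun z hz =>
        sl2_injective (a := a) hv0 (by
          rw [map_zero]
          refine (g⁻¹).1.map_eq_zero_iff.1 ((hA z).trans ?_)
          rw [show A z = 0 from hz, zero_vecMulVec])
      obtain ⟨z, hz⟩ := LinearMap.injective_iff_surjective.1 hinj z'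
      refine ⟨z, ?_⟩
      rw [← hz]
      show g.1 (vecMulVec (A z) v') = vecMulVec z v
      rw [← hA, symm_apply_eq, g.1.apply_symm_apply]
    obtain ⟨b', hb'v, hb'0, hqb'⟩ := SimMax.exists_singular_of_three (Q := qh) hm.two
      (U := LinearMap.ker (polarBilin qh v')) (by
        have := finrank_kerPolar (Q := qh) v'
        rw [finrank_fin_fun] at *; omega)
    obtain ⟨c', hc'v, hc'0, hqc'⟩ := SimMax.exists_singular_of_three (Q := qh) hm.two
      (U := LinearMap.ker (polarBilin qh v)) (by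
        have := finrank_kerPolar (Q := qh) v
        rw [finrank_fin_fun] at *; omega)
    rw [mem_ker_polar] at hb'v hc'v
    obtain ⟨y, hy, hqy, hyc⟩ := exists_singular_in (Q := qh) hm.two
      (S := LinearMap.ker (polarBilin qh v) ⊓ LinearMap.ker (polarBilin qh c')) (by
        have := finrank_kerPolar (Q := qh) v
        have := finrank_perp_vec (Q := qh) (S := LinearMap.ker (polarBilin qh v)) c'
        rw [finrank_fin_fun] at *; omega) hc'0
    obtain ⟨hvy, hc'y⟩ := hy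
    rw [SetLike.mem_coe, mem_ker_polar] at hvy hc'y
    rcases next_state hF ha hab (g := g) (b₀ := b') (c := c') ⟨hst.mem, hst.notT, hb'0, hqb', hc'0, hqc'⟩ hc'y hyc
      with h | ⟨k₁, hk₁, hkX, hform⟩
    · exact h
    obtain ⟨x', hx', hx'0⟩ := exists_ker_of_skew hm.ndf hm.two ho
      (ct a qh b' ∘ₗ k₁.1.toLinearMap ∘ₗ sl2 a b') fun u u' => by
        show polar qf u (ct a qh b' (k₁.1 (vecMulVec u' b'))) = -polar qf u' (ct a qh b' (k₁.1 (vecMulVec u b')))
        rw [hform, hform, nextForm, nextForm, hqy, polar_comm _ (ct a qh c' (g.1 (vecMulVec u b')))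
          (ct a qh y (g.1 (vecMulVec u' b'))), polar_comm _ (ct a qh c' (g.1 (vecMulVec u' b')))
          (ct a qh y (g.1 (vecMulVec u b')))]
        ring
    obtain ⟨r', hr', hr'0, hqr'⟩ := SimMax.exists_singular_of_three (Q := qf) hm.two
      (U := LinearMap.ker (polarBilin qf x')) (by
        have := finrank_kerPolar (Q := qf) x'
        rw [finrank_fin_fun] at *; omega)
    rw [mem_ker_polar] at hr'
    refine fin hk₁ hx' hr'0 hqr' ((polar_comm _ _ _).trans hr') hx'0 ((polar_comm _ _ _).trans hb'v)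
      (fun hmem => hqv' ?_) (hm.eq_of_forall fun u => ?_)
    · obtain ⟨t, ht⟩ := Submodule.mem_span_singleton.1 hmem
      rw [← ht, quad_smul', hqb', mul_zero]
    obtain ⟨z, hz⟩ := hgv u
    have hfix : k₁.1 (vecMulVec u v') = vecMulVec u v' := by
      rw [hkX, conjU_apply, hz, ct_vecMulVec, ct_vecMulVec, polar_comm _ c' v, hc'v, polar_comm _ y v, hvy]
      simp
    rw [← hm.pol_left, ← hfix, polar_isom, hm.pol, hb'v, mul_zero, polar_zero_right]

/-- An element outside the stabiliser gives a slice. -/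
theorem full_of_notTensor (hR : a + 2 = b → HasRefl hm M) (hpar : a + 3 ≤ b ∨ Odd a)
    (hq : (∃ s : F, s ≠ 0 ∧ s * s ≠ 1) ∨ 4 ≤ a) {g : orthGroup Q} (hg : g ∈ M) (hgT : ¬ IsTensor g.1) :
    Full M qh := by
  classical
  obtain ⟨b₀, -, hb0, hqb⟩ := SimMax.exists_singular_of_three (Q := qh) hm.two (U := ⊤)
    (by rw [finrank_top, finrank_fin_fun]; omega)
  have hst : ∀ {c}, c ≠ 0 → qh c = 0 → State M qh g b₀ c := fun hc hqc => ⟨hg, hgT, hb0, hqb, hc, hqc⟩
  have hbot : ∀ {c : Fin b → F}, ∀ w ∈ (⊥ : Submodule F (Fin a → F)),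
      ∃ w', g.1 (vecMulVec w b₀) = vecMulVec w' c := fun w hw => ⟨0, by
    rw [(Submodule.mem_bot F).1 hw, zero_vecMulVec, map_zero, zero_vecMulVec]⟩
  -- a state with a kernel vector
  suffices H : Full M qh ∨ ∃ (g : orthGroup Q) (c : Fin b → F) (x r : Fin a → F), State M qh g b₀ c ∧ x ≠ 0 ∧
      ct a qh c (g.1 (vecMulVec x b₀)) = 0 ∧ r ≠ 0 ∧ qf r = 0 ∧ polar qf r x = 0 by
    rcases H with h | ⟨g, c, x, r, hs, hx, hx0, hr0, hqr, hrx⟩
    · exact h
    exact full_of_kernel hF ha hab hR hpar hq hs hx hx0 hr0 hqr hrx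
  have hskew : ∀ {c y : Fin b → F} {k : orthGroup Q}, qh y = 0 →
      (∀ x' x, polar qf x' (ct a qh b₀ (k.1 (vecMulVec x b₀))) = nextForm qf qh g b₀ c y x' x) →
      ∀ u u', polar qf u ((ct a qh b₀ ∘ₗ k.1.toLinearMap ∘ₗ sl2 a b₀) u') =
        -polar qf u' ((ct a qh b₀ ∘ₗ k.1.toLinearMap ∘ₗ sl2 a b₀) u) := by
    intro c y k hqy hform u u'
    show polar qf u (ct a qh b₀ (k.1 (vecMulVec u' b₀))) = -polar qf u' (ct a qh b₀ (k.1 (vecMulVec u b₀)))
    rw [hform, hform, nextForm, nextForm, hqy, polar_comm _ (ct a qh c (g.1 (vecMulVec u b₀)))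
      (ct a qh y (g.1 (vecMulVec u' b₀))), polar_comm _ (ct a qh c (g.1 (vecMulVec u' b₀)))
      (ct a qh y (g.1 (vecMulVec u b₀)))]
    ring
  by_cases ha4 : 4 ≤ a
  · have hr : ∀ x, ∃ r, r ≠ 0 ∧ qf r = 0 ∧ polar qf r x = 0 := fun x => by
      obtain ⟨r, hr, hr0, hqr⟩ := SimMax.exists_singular_of_three (Q := qf) hm.two
        (U := LinearMap.ker (polarBilin qf x)) (by
          have := finrank_kerPolar (Q := qf) x
          rw [finrank_fin_fun] at *; omega)
      exact ⟨r, hr0, hqr, (polar_comm _ _ _).trans hr⟩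
    obtain ⟨c, hc0, hqc⟩ : ∃ c : Fin b → F, c ≠ 0 ∧ qh c = 0 := ⟨b₀, hb0, hqb⟩
    set C₀ := ct a qh c ∘ₗ g.1.toLinearMap ∘ₗ sl2 a b₀
    by_cases hinj : Function.Injective C₀
    swap
    · obtain ⟨x, hx0, hx⟩ : ∃ x, C₀ x = 0 ∧ x ≠ 0 := by
        by_contra! hall
        exact hinj ((injective_iff_map_eq_zero _).2 hall)
      obtain ⟨r, h1, h2, h3⟩ := hr x
      exact Or.inr ⟨g, c, x, r, hst hc0 hqc, hx, hx0, h1, h2, h3⟩
    rcases hpar with hb3 | ho
    · obtain ⟨r₁, -, hr₁0, hqr₁⟩ := SimMax.exists_singular_of_three (Q := qf) hm.two (U := ⊤)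
        (by rw [finrank_top, finrank_fin_fun]; omega)
      obtain ⟨x, hx⟩ := LinearMap.injective_iff_surjective.1 hinj r₁
      have hx0 : x ≠ 0 := fun e => hr₁0 (by rw [← hx, e, map_zero])
      refine (kernel_iso hF ha hab (hst hc0 hqc) hbot (x := x) (by simpa using hx0)
        (by rw [show ct a qh c (g.1 (vecMulVec x b₀)) = r₁ from hx]; exact hqr₁)
        (by rw [finrank_bot]; omega)).imp_right fun ⟨k, hk, _, hk0⟩ => ?_
      obtain ⟨r, h1, h2, h3⟩ := hr x
      exact ⟨k, b₀, x, r, hk, hx0, hk0, h1, h2, h3⟩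
    · obtain ⟨y, hcy, hqy, hyc⟩ := exists_singular_in (Q := qh) hm.two (S := LinearMap.ker (polarBilin qh c)) (by
        have := finrank_kerPolar (Q := qh) c
        rw [finrank_fin_fun] at *; omega) hc0
      refine (next_state hF ha hab (hst hc0 hqc) hcy hyc).imp_right fun ⟨k, hk, _, hform⟩ => ?_
      obtain ⟨x, hx, hx0⟩ := exists_ker_of_skew hm.ndf hm.two ho _ (hskew hqy hform)
      obtain ⟨r, h1, h2, h3⟩ := hr x
      exact ⟨k, b₀, x, r, hk, hx, hx0, h1, h2, h3⟩
  -- dimension three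
  have ha3 : a = 3 := by omega
  obtain ⟨r₀, hr₀0, hr₀⟩ := CfsgLib.Orth.exists_singular hm.ndf (by rw [finrank_fin_fun]; omega)
  obtain ⟨z, hrz, hqz⟩ := exists_anisotropic_in hm.ndf (S := LinearMap.ker (polarBilin qf r₀))
    (by have := finrank_kerPolar (Q := qf) r₀; rw [finrank_fin_fun] at *; omega)
  rw [mem_ker_polar] at hrz
  set L₁ := (ct a qh).flip (g.1 (vecMulVec r₀ b₀))
  set L₂ := (ct a qh).flip (g.1 (vecMulVec z b₀))
  set ω : (Fin b → F) →ₗ[F] (Fin b → F) →ₗ[F] F :=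
    (polarBilin qf).compl₁₂ L₂ L₁ - (polarBilin qf).compl₁₂ L₁ L₂ with hω
  set S := (LinearMap.BilinForm.toDual (polarBilin qh) hm.ndh).symm.toLinearMap ∘ₗ ω
  have hS : ∀ c y, polar qh (S c) y = ω c y := fun c y =>
    LinearMap.BilinForm.apply_toDual_symm_apply (B := polarBilin qh) (hB := hm.ndh) (ω c) y
  have hωalt : ∀ c, ω c c = 0 := fun c => by
    simp only [hω, LinearMap.sub_apply, LinearMap.compl₁₂_apply, QuadraticMap.polarBilin_apply_apply]
    rw [polar_comm _ (L₁ c)]; ring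
  obtain ⟨c, hc0, hqc, hqSc⟩ := exists_common_zero hm.two (by rw [finrank_fin_fun]; omega) qh (qh.comp S)
  rw [QuadraticMap.comp_apply] at hqSc
  obtain ⟨y, hcy, hqy, hyc, hωy⟩ : ∃ y, polar qh c y = 0 ∧ qh y = 0 ∧ y ∉ F ∙ c ∧ ω c y = 0 := by
    by_cases hSc : S c ∈ F ∙ c
    · obtain ⟨y, hcy, hqy, hyc⟩ := exists_singular_in (Q := qh) hm.two (S := LinearMap.ker (polarBilin qh c)) (by
        have := finrank_kerPolar (Q := qh) c
        rw [finrank_fin_fun] at *; omega) hc0
      obtain ⟨t, ht⟩ := Submodule.mem_span_singleton.1 hSc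
      exact ⟨y, hcy, hqy, hyc, by rw [← hS, ← ht, polar_smul_l', show polar qh c y = 0 from hcy, mul_zero]⟩
    · exact ⟨S c, by rw [polar_comm, hS, hωalt], hqSc, hSc,
        by rw [← hS, polar_self', hqSc, mul_zero]⟩
  refine (next_state hF ha hab (hst hc0 hqc) hcy hyc).imp_right fun ⟨k, hk, _, hform⟩ => ?_
  set K := ct a qh b₀ ∘ₗ k.1.toLinearMap ∘ₗ sl2 a b₀
  have hKs := hskew hqy hform
  set P := LinearMap.ker (polarBilin qf r₀)
  have hdiag : ∀ u, polar qf u (K u) = 0 := fun u => by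
    have h := hKs u u
    exact mul_left_cancel₀ hm.two (by linear_combination h)
  have hrz' : polar qf r₀ (K z) = 0 := by
    show polar qf r₀ (ct a qh b₀ (k.1 (vecMulVec z b₀))) = 0
    rw [hform, nextForm, hqy]
    have e : ω c y = polar qf (ct a qh c (g.1 (vecMulVec z b₀))) (ct a qh y (g.1 (vecMulVec r₀ b₀))) -
        polar qf (ct a qh c (g.1 (vecMulVec r₀ b₀))) (ct a qh y (g.1 (vecMulVec z b₀))) := rfl
    rw [hωy] at e
    rw [polar_comm _ (ct a qh y (g.1 (vecMulVec r₀ b₀)))]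
    linear_combination -e
  have hPspan : ∀ p ∈ P, ∃ s t : F, p = s • r₀ + t • z := by
    intro p hp
    rw [mem_ker_polar] at hp
    set t := polar qf z p / polar qf z z
    have hzz : polar qf z z ≠ 0 := by rw [polar_self']; exact mul_ne_zero hm.two hqz
    have hq : p - t • z ∈ F ∙ r₀ := mem_span_of_perp hm.ndf hm.two fun u hu => by
      obtain ⟨e', he', hre⟩ := exists_partner hm.ndf hr₀ hr₀0
      -- two independent conditions cut out the radical
      have hzr : polar qf z r₀ = 0 := (polar_comm _ _ _).trans hrz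
      have hW : LinearMap.ker (polarBilin qf r₀) ≤ (F ∙ r₀) ⊔ (F ∙ z) := by
        refine (Submodule.eq_of_le_of_finrank_le (sup_le ?_ ?_) ?_).ge
        · rw [Submodule.span_singleton_le_iff_mem, mem_ker_polar, polar_self', hr₀, mul_zero]
        · rwa [Submodule.span_singleton_le_iff_mem, mem_ker_polar]
        · have h1 : LinearMap.ker (polarBilin qf r₀) ≠ ⊤ := fun h => by
            have : e' ∈ LinearMap.ker (polarBilin qf r₀) := h ▸ trivial
            rw [mem_ker_polar, hre] at this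
            exact one_ne_zero this
          have h2 := Submodule.finrank_lt h1
          have h3 : (F ∙ r₀) < (F ∙ r₀) ⊔ (F ∙ z) := lt_of_le_of_ne le_sup_left fun h => by
            obtain ⟨s, hs⟩ := Submodule.mem_span_singleton.1
              (h ▸ Submodule.mem_sup_right (Submodule.mem_span_singleton_self z) : z ∈ F ∙ r₀)
            rw [← hs, quad_smul', hr₀, mul_zero] at hqz
            exact hqz rfl
          have h4 := Submodule.finrank_lt_finrank_of_lt h3
          rw [finrank_span_singleton hr₀0] at h4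
          rw [finrank_fin_fun] at h2
          omega
      obtain ⟨_, h1, _, h2, hu'⟩ := Submodule.mem_sup.1 (hW hu)
      obtain ⟨s, rfl⟩ := Submodule.mem_span_singleton.1 h1
      obtain ⟨s', rfl⟩ := Submodule.mem_span_singleton.1 h2
      rw [← hu', polar_add_left, polar_smul_l', polar_smul_l', polar_sub_right, polar_sub_right, polar_smul_r',
        polar_smul_r', hp, hrz, show t * polar qf z z = polar qf z p from div_mul_cancel₀ _ hzz]
      ring
    obtain ⟨s, hs⟩ := Submodule.mem_span_singleton.1 hq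
    exact ⟨s, t, by rw [hs]; abel⟩
  have hPK : ∀ p ∈ P, K p ∈ F ∙ r₀ := fun p hp => mem_span_of_perp hm.ndf hm.two fun u hu => by
    obtain ⟨s, t, rfl⟩ := hPspan p hp
    obtain ⟨s', t', rfl⟩ := hPspan u hu
    simp only [map_add, map_smul, polar_add_left, polar_add_right, polar_smul_l', polar_smul_r', hdiag, hrz',
      show polar qf z (K r₀) = 0 from (hKs z r₀).trans (neg_eq_zero.2 hrz')]
    ring
  obtain ⟨x, hx, hx0⟩ := Submodule.exists_mem_ne_zero_of_ne_bot (p := P ⊓ LinearMap.ker K) fun h => by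
    have h1 := finrank_le_inf_ker P K hPK
    have h2 : finrank F (Fin a → F) ≤ finrank F P + 1 := finrank_kerPolar r₀
    rw [h, finrank_bot, finrank_span_singleton hr₀0] at h1
    rw [finrank_fin_fun] at h2
    omega
  exact ⟨k, b₀, x, r₀, hk, hx0, hx.2, hr₀0, hr₀, hx.1⟩

end Model

end CfsgLib.Classical.TensorMaxO
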