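import Cfsg.Agent.Lib.Classical.TensorMaxS.Basic
import Cfsg.Agent.Lib.Classical.TensorMaxO.Forms
import Cfsg.Agent.Lib.Orth.Spinor

/-!
# The tensor product of two orthogonal spaces of odd characteristic

The space is that of `a × b` matrices; `ct qh w X` pairs the rows of `X` with `w`.
-/

set_option autoImplicit false
set_option linter.unusedSectionVars false

namespace CfsgLib.Classical.TensorMaxO

open Matrix Module QuadraticMap CfsgLib.Orth CfsgLib.Classical
open CfsgLib.Classical.TensorMax (IsTensor)
open CfsgLib.Classical.TensorMaxU (rowMap colMap rowMap_vecMulVec colMap_vecMulVec matrix_eq_sum isTensor_rowMap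
  isTensor_colMap vecMulVec_row sl1 sl2)

/-- Squares of isometries lie in the commutator subgroup. -/
theorem sq_mem_commutator {F V : Type*} [Field F] [AddCommGroup V] [Module F V] [FiniteDimensional F V]
    {Q : QuadraticForm F V} (hQ : (polarBilin Q).Nondegenerate) (h2 : (2 : F) ≠ 0) (g : orthGroup Q) :
    g * g ∈ commutator (orthGroup Q) := by
  rw [CfsgLib.Orth.mem_commutator_iff, map_mul, ab_sq hQ (good_of_two_ne h2)]

theorem siegel_mem_commutator {F V : Type*} [Field F] [AddCommGroup V] [Module F V] [FiniteDimensional F V]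
    {Q : QuadraticForm F V} (hQ : (polarBilin Q).Nondegenerate) (h2 : (2 : F) ≠ 0) {g : orthGroup Q} {d u : V}
    (hg : IsSiegel g d u) : g ∈ commutator (orthGroup Q) := by
  obtain ⟨k, hk⟩ := exists_isSiegel hQ hg.1 (show polar Q d ((2 : F)⁻¹ • u) = 0 by
    rw [polar_smul_r', hg.2.1, mul_zero])
  have e := hk.mul hk
  rw [← add_smul, ← two_mul, mul_inv_cancel₀ h2, one_smul] at e
  rw [hg.unique e]
  exact sq_mem_commutator hQ h2 k

theorem map_mem_commutator {G H : Type*} [Group G] [Group H] (φ : G →* H) {x : G} (hx : x ∈ commutator G) :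
    φ x ∈ commutator H := by
  have : (commutator G).map φ ≤ commutator H := by
    rw [commutator_def, Subgroup.map_commutator, commutator_def]
    exact Subgroup.commutator_mono le_top le_top
  exact this (Subgroup.mem_map_of_mem φ hx)

variable {F : Type*} [Field F] {a b : ℕ}

/-- A quadratic form on matrices whose polar form is the product of two others. -/
structure Model (Q : QuadraticForm F (Matrix (Fin a) (Fin b) F)) (qf : QuadraticForm F (Fin a → F))
    (qh : QuadraticForm F (Fin b → F)) : Prop where
  two : (2 : F) ≠ 0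
  ndf : (polarBilin qf).Nondegenerate
  ndh : (polarBilin qh).Nondegenerate
  pol : ∀ u u' w w', polar Q (vecMulVec u w) (vecMulVec u' w') = polar qf u u' * polar qh w w'

/-- Pairing the rows with a vector. -/
abbrev ct (a : ℕ) (qh : QuadraticForm F (Fin b → F)) :
    (Fin b → F) →ₗ[F] Matrix (Fin a) (Fin b) F →ₗ[F] (Fin a → F) := TensorMaxS.ct2 a (polarBilin qh)

theorem ct_apply (qh : QuadraticForm F (Fin b → F)) (w : Fin b → F) (X : Matrix (Fin a) (Fin b) F) (i : Fin a) :
    ct a qh w X i = polar qh w (X i) := rfl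

@[simp] theorem ct_vecMulVec (qh : QuadraticForm F (Fin b → F)) (w : Fin b → F) (u : Fin a → F) (w' : Fin b → F) :
    ct a qh w (vecMulVec u w') = polar qh w w' • u := TensorMaxS.ct2_vecMulVec w u w'

theorem ext_pure {W : Type*} [AddCommGroup W] [Module F W] {φ ψ : Matrix (Fin a) (Fin b) F →ₗ[F] W}
    (e : ∀ u w, φ (vecMulVec u w) = ψ (vecMulVec u w)) : φ = ψ :=
  LinearMap.ext fun X => by rw [matrix_eq_sum X, map_sum, map_sum]; exact Finset.sum_congr rfl fun i _ => e _ _

variable {Q : QuadraticForm F (Matrix (Fin a) (Fin b) F)} {qf : QuadraticForm F (Fin a → F)}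
  {qh : QuadraticForm F (Fin b → F)}

theorem mul_apply' (g k : orthGroup Q) (x : Matrix (Fin a) (Fin b) F) : (g * k).1 x = g.1 (k.1 x) := rfl

theorem symm_apply_eq (g : orthGroup Q) (x : Matrix (Fin a) (Fin b) F) : (g⁻¹).1 x = g.1.symm x := rfl

theorem not_isTensor_inv {g : orthGroup Q} (hgT : ¬ IsTensor g.1) : ¬ IsTensor (g⁻¹).1 := fun hT =>
  hgT (by simpa using hT.inv)

namespace Model

variable (hm : Model Q qf qh)
include hm

theorem pol_left (u : Fin a → F) (w : Fin b → F) (X : Matrix (Fin a) (Fin b) F) :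
    polar Q (vecMulVec u w) X = polar qf u (ct a qh w X) :=
  LinearMap.congr_fun (ext_pure (φ := polarBilin Q (vecMulVec u w)) (ψ := polarBilin qf u ∘ₗ ct a qh w)
    fun u' w' => by
      rw [LinearMap.comp_apply, ct_vecMulVec, map_smul, QuadraticMap.polarBilin_apply_apply,
        QuadraticMap.polarBilin_apply_apply, hm.pol, smul_eq_mul, mul_comm]) X

theorem pol_right (u : Fin a → F) (w : Fin b → F) (X : Matrix (Fin a) (Fin b) F) :
    polar Q X (vecMulVec u w) = polar qf u (ct a qh w X) := by
  rw [polar_comm, hm.pol_left]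

theorem quad_pure (u : Fin a → F) (w : Fin b → F) : Q (vecMulVec u w) = 2 * qf u * qh w := by
  refine mul_left_cancel₀ hm.two ?_
  rw [← polar_self', hm.pol, polar_self', polar_self']
  ring

theorem pure_singular (u : Fin a → F) {w : Fin b → F} (hw : qh w = 0) : Q (vecMulVec u w) = 0 := by
  rw [hm.quad_pure, hw, mul_zero]

theorem eq_of_forall {x y : Fin a → F} (e : ∀ u, polar qf u x = polar qf u y) : x = y :=
  sub_eq_zero.1 (hm.ndf.2 _ fun u => by rw [map_sub, QuadraticMap.polarBilin_apply_apply,
    QuadraticMap.polarBilin_apply_apply, e u, sub_self])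

theorem nondeg : (polarBilin Q).Nondegenerate := by
  have key : ∀ Y, (∀ u w, polar qf u (ct a qh w Y) = 0) → Y = 0 := fun Y hY => funext fun i => hm.ndh.2 _ fun w =>
    congrFun (hm.ndf.2 (ct a qh w Y) fun u => hY u w) i
  exact ⟨fun Y hY => key Y fun u w => by rw [← hm.pol_right]; exact hY _,
    fun Y hY => key Y fun u w => by rw [← hm.pol_left]; exact hY _⟩

theorem preserves (g : Matrix (Fin a) (Fin b) F →ₗ[F] Matrix (Fin a) (Fin b) F)
    (hp : ∀ u u' w w', polar Q (g (vecMulVec u w)) (g (vecMulVec u' w')) = polar qf u u' * polar qh w w')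
    (X : Matrix (Fin a) (Fin b) F) : Q (g X) = Q X := by
  refine mul_left_cancel₀ hm.two ?_
  rw [← polar_self', ← polar_self']
  show ((polarBilin Q).compl₁₂ g g) X X = polarBilin Q X X
  refine LinearMap.congr_fun (LinearMap.congr_fun (ext_pure fun u w => ext_pure fun u' w' => ?_) X) X
  exact (hp u u' w w').trans (hm.pol u u' w w').symm

/-- Isometries of the second factor. -/
def row : orthGroup qh →* orthGroup Q where
  toFun C := ⟨rowMap C.1, fun X => hm.preserves (rowMap C.1).toLinearMap (fun u u' w w' => by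
    simp [hm.pol, polar_isom]) X⟩
  map_one' := rfl
  map_mul' _ _ := rfl

/-- Isometries of the first factor. -/
def col : orthGroup qf →* orthGroup Q where
  toFun A := ⟨colMap A.1, fun X => hm.preserves (colMap A.1).toLinearMap (fun u u' w w' => by
    simp [hm.pol, polar_isom]) X⟩
  map_one' := rfl
  map_mul' _ _ := rfl

theorem row_pure (C : orthGroup qh) (u : Fin a → F) (w : Fin b → F) :
    (hm.row C).1 (vecMulVec u w) = vecMulVec u (C.1 w) := rowMap_vecMulVec C.1 u w

theorem col_pure (A : orthGroup qf) (u : Fin a → F) (w : Fin b → F) :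
    (hm.col A).1 (vecMulVec u w) = vecMulVec (A.1 u) w := colMap_vecMulVec A.1 u w

theorem row_tensor (C : orthGroup qh) : IsTensor (hm.row C).1 := isTensor_rowMap C.1
theorem col_tensor (A : orthGroup qf) : IsTensor (hm.col A).1 := isTensor_colMap A.1

theorem ct_row (C : orthGroup qh) (w : Fin b → F) (X : Matrix (Fin a) (Fin b) F) :
    ct a qh (C.1 w) ((hm.row C).1 X) = ct a qh w X :=
  funext fun i => polar_isom C w (X i)

theorem ct_col (A : orthGroup qf) (w : Fin b → F) (X : Matrix (Fin a) (Fin b) F) :
    ct a qh w ((hm.col A).1 X) = A.1 (ct a qh w X) :=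
  LinearMap.congr_fun (ext_pure (φ := ct a qh w ∘ₗ (hm.col A).1.toLinearMap) (ψ := A.1.toLinearMap ∘ₗ ct a qh w)
    fun u w' => by simp [hm.col_pure]) X

/-- A Siegel element of the second factor on matrices. -/
theorem row_siegel {C : orthGroup qh} {c y : Fin b → F} (hC : IsSiegel C c y) (X : Matrix (Fin a) (Fin b) F) :
    (hm.row C).1 X = X + vecMulVec (ct a qh c X) y + vecMulVec (-ct a qh y X - qh y • ct a qh c X) c :=
  funext fun i => by
    show C.1 (X i) = X i + vecMulVec (ct a qh c X) y i + vecMulVec (-ct a qh y X - qh y • ct a qh c X) c i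
    rw [hC.2.2, vecMulVec_row, vecMulVec_row, Pi.sub_apply, Pi.neg_apply, Pi.smul_apply, smul_eq_mul, ct_apply,
      ct_apply]

variable [Fintype F]

theorem row_mem {C : orthGroup qh} (hC : C ∈ commutator (orthGroup qh)) : hm.row C ∈ commutator (orthGroup Q) :=
  map_mem_commutator hm.row hC

theorem col_mem {A : orthGroup qf} (hA : A ∈ commutator (orthGroup qf)) : hm.col A ∈ commutator (orthGroup Q) :=
  map_mem_commutator hm.col hA

theorem row_siegel_mem {C : orthGroup qh} {c y : Fin b → F} (hC : IsSiegel C c y) :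
    hm.row C ∈ commutator (orthGroup Q) := hm.row_mem (siegel_mem_commutator hm.ndh hm.two hC)

theorem col_siegel_mem {A : orthGroup qf} {u z : Fin a → F} (hA : IsSiegel A u z) :
    hm.col A ∈ commutator (orthGroup Q) := hm.col_mem (siegel_mem_commutator hm.ndf hm.two hA)

end Model

/-- `M` contains the tensor maps of `Ω`. -/
def ContainsTensor (M : Subgroup (orthGroup Q)) : Prop :=
  ∀ g ∈ commutator (orthGroup Q), IsTensor g.1 → g ∈ M

/-- `M` contains the images of the commutator subgroups of the factors. -/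
structure ContainsFactors (hm : Model Q qf qh) (M : Subgroup (orthGroup Q)) : Prop where
  row : ∀ C ∈ commutator (orthGroup qh), hm.row C ∈ M
  col : ∀ A ∈ commutator (orthGroup qf), hm.col A ∈ M

theorem ContainsTensor.factors [Fintype F] (hm : Model Q qf qh) {M : Subgroup (orthGroup Q)} (hM : ContainsTensor M) :
    ContainsFactors hm M :=
  ⟨fun C hC => hM _ (hm.row_mem hC) (hm.row_tensor C), fun A hA => hM _ (hm.col_mem hA) (hm.col_tensor A)⟩

theorem ContainsFactors.row_siegel [Fintype F] {hm : Model Q qf qh} {M : Subgroup (orthGroup Q)}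
    (hF : ContainsFactors hm M) {C : orthGroup qh} {c y : Fin b → F} (hC : IsSiegel C c y) : hm.row C ∈ M :=
  hF.row C (siegel_mem_commutator hm.ndh hm.two hC)

theorem ContainsFactors.col_siegel [Fintype F] {hm : Model Q qf qh} {M : Subgroup (orthGroup Q)}
    (hF : ContainsFactors hm M) {A : orthGroup qf} {u z : Fin a → F} (hA : IsSiegel A u z) : hm.col A ∈ M :=
  hF.col A (siegel_mem_commutator hm.ndf hm.two hA)

end CfsgLib.Classical.TensorMaxO
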