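import Cfsg.Agent.Lib.Classical.TensorMaxO.Normal

/-!
# Enlarging the part of a slice that is mapped into a slice
-/

set_option autoImplicit false
set_option linter.unusedSectionVars false

namespace CfsgLib.Classical.TensorMaxO

open Matrix Module QuadraticMap CfsgLib.Orth CfsgLib.Classical
open CfsgLib.Classical.TensorMax (IsTensor)
open CfsgLib.Classical.TensorMaxU (vecMulVec_row sl1 sl2 sl2_injective)

variable {F : Type*} [Field F] [Fintype F] {a b : ℕ}

theorem finrank_le_inf_ker {V W : Type*} [AddCommGroup V] [Module F V] [FiniteDimensional F V] [AddCommGroup W]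
    [Module F W] [FiniteDimensional F W] (S : Submodule F V) (L : V →ₗ[F] W) {R : Submodule F W}
    (h : ∀ v ∈ S, L v ∈ R) : finrank F S ≤ finrank F ↥(S ⊓ LinearMap.ker L) + finrank F R := by
  have h1 := (L.domRestrict S).finrank_range_add_finrank_ker
  have h2 : LinearMap.range (L.domRestrict S) ≤ R := by
    rintro _ ⟨v, rfl⟩
    exact h v.1 v.2
  have h3 : (LinearMap.ker (L.domRestrict S)).map S.subtype ≤ S ⊓ LinearMap.ker L := by
    rintro _ ⟨v, hv, rfl⟩
    exact ⟨v.2, hv⟩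
  have h4 := Submodule.finrank_mono h3
  rw [← (Submodule.equivMapOfInjective S.subtype S.injective_subtype _).finrank_eq] at h4
  have h5 := Submodule.finrank_mono h2
  omega

theorem exists_notMem_line {V : Type*} [AddCommGroup V] [Module F V] [FiniteDimensional F V] {S : Submodule F V}
    (hS : 2 ≤ finrank F S) (c : V) : ∃ y ∈ S, y ∉ F ∙ c := by
  by_contra! hall
  have h1 := Submodule.finrank_mono (show S ≤ F ∙ c from hall)
  have h2 : finrank F (F ∙ c) ≤ 1 := by simpa using finrank_span_le_card (R := F) ({c} : Set V)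
  omega

/-- A skew endomorphism of an odd-dimensional space is singular. -/
theorem exists_ker_of_skew {q : QuadraticForm F (Fin a → F)} (hQ : (polarBilin q).Nondegenerate) (h2 : (2 : F) ≠ 0)
    (ha : Odd a) (S : (Fin a → F) →ₗ[F] (Fin a → F)) (hS : ∀ u v, polar q u (S v) = -polar q v (S u)) :
    ∃ x, x ≠ 0 ∧ S x = 0 := by
  classical
  set G : Matrix (Fin a) (Fin a) F := Matrix.of fun i j => polar q (Pi.single i 1) (S (Pi.single j 1))
  have hG : Gᵀ = -G := Matrix.ext fun i j => hS _ _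
  have hdet : G.det = 0 := by
    have h := congrArg Matrix.det hG
    rw [det_transpose, det_neg, Fintype.card_fin, ha.neg_one_pow] at h
    exact mul_left_cancel₀ h2 (by linear_combination h)
  obtain ⟨x, hx, hGx⟩ := exists_mulVec_eq_zero_iff.2 hdet
  refine ⟨x, hx, hQ.2 _ fun u => ?_⟩
  have hsum : ∀ i, polarBilin q (Pi.single i 1) (S x) = 0 := fun i => by
    rw [pi_eq_sum_univ' x]
    simp only [map_sum, map_smul, smul_eq_mul]
    have := congrFun hGx i
    simp only [Matrix.mulVec, dotProduct, G, Matrix.of_apply, Pi.zero_apply] at this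
    refine Eq.trans (Finset.sum_congr rfl fun j _ => ?_) this
    rw [QuadraticMap.polarBilin_apply_apply, mul_comm]
  rw [pi_eq_sum_univ' u]
  simp only [map_sum, map_smul, LinearMap.sum_apply, LinearMap.smul_apply, hsum, smul_zero, Finset.sum_const_zero]

variable {Q : QuadraticForm F (Matrix (Fin a) (Fin b) F)} {qf : QuadraticForm F (Fin a → F)}
  {qh : QuadraticForm F (Fin b → F)} {M : Subgroup (orthGroup Q)}

/-- An element of `M` outside the stabiliser with two singular centres. -/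
structure State (M : Subgroup (orthGroup Q)) (qh : QuadraticForm F (Fin b → F)) (g : orthGroup Q)
    (b₀ c : Fin b → F) : Prop where
  mem : g ∈ M
  notT : ¬ IsTensor g.1
  b0 : b₀ ≠ 0
  qb : qh b₀ = 0
  c0 : c ≠ 0
  qc : qh c = 0

/-- The bilinear form of the next element. -/
def nextForm (qf : QuadraticForm F (Fin a → F)) (qh : QuadraticForm F (Fin b → F)) (g : orthGroup Q)
    (b₀ c y : Fin b → F) (x' x : Fin a → F) : F :=
  polar qf (ct a qh y (g.1 (vecMulVec x' b₀))) (ct a qh c (g.1 (vecMulVec x b₀))) -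
    polar qf (ct a qh c (g.1 (vecMulVec x' b₀))) (ct a qh y (g.1 (vecMulVec x b₀))) -
    qh y * polar qf (ct a qh c (g.1 (vecMulVec x' b₀))) (ct a qh c (g.1 (vecMulVec x b₀)))

/-- The linear part of `nextForm` in the parameter. -/
def linPart (qf : QuadraticForm F (Fin a → F)) (qh : QuadraticForm F (Fin b → F)) (g : orthGroup Q)
    (b₀ c : Fin b → F) (x : Fin a → F) : (Fin b → F) →ₗ[F] Module.Dual F (Fin a → F) :=
  LinearMap.mk₂ F (fun y x' => polar qf (ct a qh y (g.1 (vecMulVec x' b₀))) (ct a qh c (g.1 (vecMulVec x b₀))) -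
      polar qf (ct a qh c (g.1 (vecMulVec x' b₀))) (ct a qh y (g.1 (vecMulVec x b₀))))
    (fun y y' x' => by simp only [map_add, LinearMap.add_apply, polar_add_left, polar_add_right]; ring)
    (fun t y x' => by simp only [map_smul, LinearMap.smul_apply, polar_smul_l', polar_smul_r', smul_eq_mul]; ring)
    (fun y x' x'' => by simp only [add_vecMulVec, map_add, polar_add_left, polar_add_right]; ring)
    (fun t y x' => by simp only [smul_vecMulVec, map_smul, polar_smul_l', polar_smul_r', smul_eq_mul]; ring)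

theorem linPart_apply (g : orthGroup Q) (b₀ c y : Fin b → F) (x' x : Fin a → F) :
    linPart qf qh g b₀ c x y x' = polar qf (ct a qh y (g.1 (vecMulVec x' b₀))) (ct a qh c (g.1 (vecMulVec x b₀))) -
      polar qf (ct a qh c (g.1 (vecMulVec x' b₀))) (ct a qh y (g.1 (vecMulVec x b₀))) := rfl

/-- The quadratic part of `nextForm`. -/
def quadPart (qf : QuadraticForm F (Fin a → F)) (qh : QuadraticForm F (Fin b → F)) (g : orthGroup Q)
    (b₀ c : Fin b → F) (x : Fin a → F) : Module.Dual F (Fin a → F) :=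
  (polarBilin qf).flip (ct a qh c (g.1 (vecMulVec x b₀))) ∘ₗ ct a qh c ∘ₗ g.1.toLinearMap ∘ₗ sl2 a b₀

theorem quadPart_apply (g : orthGroup Q) (b₀ c : Fin b → F) (x' x : Fin a → F) :
    quadPart qf qh g b₀ c x x' =
      polar qf (ct a qh c (g.1 (vecMulVec x' b₀))) (ct a qh c (g.1 (vecMulVec x b₀))) := rfl

namespace Model

variable {hm : Model Q qf qh} (hF : ContainsFactors hm M) (ha : 3 ≤ a) (hab : a + 2 ≤ b)
include hF ha hab

/-- The next element. -/
theorem next_state {g : orthGroup Q} {b₀ c : Fin b → F} (hst : State M qh g b₀ c) {y : Fin b → F}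
    (hcy : polar qh c y = 0) (hy : y ∉ F ∙ c) :
    Full M qh ∨ ∃ k, State M qh k b₀ b₀ ∧ (∀ X, k.1 X = X + conjU hm g c y X) ∧
      (∀ x' x, polar qf x' (ct a qh b₀ (k.1 (vecMulVec x b₀))) = nextForm qf qh g b₀ c y x' x) := by
  obtain ⟨C, hC⟩ := exists_isSiegel hm.ndh hst.qc hcy
  refine (full_or hF ha (by omega) (by omega) hst.mem hst.notT hC hst.c0 hy).imp_right fun ⟨hk, hkT⟩ =>
    ⟨_, ⟨hk, hkT, hst.b0, hst.qb, hst.b0, hst.qb⟩, conj_apply hm hC, fun x' x => ?_⟩
  rw [← hm.pol_left, conj_apply hm hC, polar_add_right, hm.pol, polar_self', hst.qb, conjU_apply,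
    ← polar_isom g (vecMulVec x' b₀), g.1.apply_symm_apply, polar_add_right, hm.pol_right, hm.pol_right, nextForm]
  simp only [polar_sub_left, polar_neg_left, polar_smul_l', polar_comm _ (ct a qh y (g.1 (vecMulVec x' b₀)))
    (ct a qh c (g.1 (vecMulVec x b₀))), polar_comm _ (ct a qh y (g.1 (vecMulVec x b₀)))
    (ct a qh c (g.1 (vecMulVec x' b₀))), polar_comm _ (ct a qh c (g.1 (vecMulVec x b₀)))
    (ct a qh c (g.1 (vecMulVec x' b₀)))]
  ring

omit ha hab in
theorem next_fix {g k : orthGroup Q} {b₀ c y : Fin b → F} (hc : qh c = 0) (hcy : polar qh c y = 0)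
    (hk : ∀ X, k.1 X = X + conjU hm g c y X) {w w' : Fin a → F} (hw : g.1 (vecMulVec w b₀) = vecMulVec w' c) :
    k.1 (vecMulVec w b₀) = vecMulVec w b₀ := by
  rw [hk, conjU_apply, hw, ct_vecMulVec, ct_vecMulVec, polar_self', hc, polar_comm _ y c, hcy]
  simp

/-- A vector of the kernel enlarges the slice. -/
theorem step {g : orthGroup Q} {b₀ c : Fin b → F} (hst : State M qh g b₀ c) {W₀ : Submodule F (Fin a → F)}
    (hW : ∀ w ∈ W₀, ∃ w', g.1 (vecMulVec w b₀) = vecMulVec w' c) {x : Fin a → F}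
    (hx : ct a qh c (g.1 (vecMulVec x b₀)) = 0) {y : Fin b → F} (hcy : polar qh c y = 0) (hy : y ∉ F ∙ c)
    {w₁ : Fin a → F} (hw₁ : g.1 (vecMulVec w₁ b₀) = vecMulVec (ct a qh y (g.1 (vecMulVec x b₀))) c) :
    Full M qh ∨ ∃ k, State M qh k b₀ b₀ ∧ k.1 (vecMulVec x b₀) = vecMulVec (x - w₁) b₀ ∧
      ∀ w ∈ W₀ ⊔ F ∙ x, ∃ w', k.1 (vecMulVec w b₀) = vecMulVec w' b₀ := by
  refine (next_state hF ha hab hst hcy hy).imp_right fun ⟨k, hk, hkX, _⟩ => ?_
  have hkx : k.1 (vecMulVec x b₀) = vecMulVec (x - w₁) b₀ := by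
    rw [hkX, conjU_apply, hx, smul_zero, sub_zero, zero_vecMulVec, zero_add, neg_vecMulVec, map_neg, ← hw₁,
      g.1.symm_apply_apply, sub_vecMulVec, sub_eq_add_neg]
  refine ⟨k, hk, hkx, fun w hw => ?_⟩
  obtain ⟨l, hl, w', hw', rfl⟩ := Submodule.mem_sup.1 hw
  obtain ⟨t, rfl⟩ := Submodule.mem_span_singleton.1 hw'
  obtain ⟨l', hl'⟩ := hW l hl
  exact ⟨l + t • (x - w₁), by
    rw [add_vecMulVec, smul_vecMulVec, map_add, map_smul, next_fix hF hst.qc hcy hkX hl', hkx, add_vecMulVec,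
      smul_vecMulVec]⟩

omit hF ha hab in
theorem nextForm_eq (g : orthGroup Q) (b₀ c y : Fin b → F) (x' x : Fin a → F) :
    nextForm qf qh g b₀ c y x' x = linPart qf qh g b₀ c x y x' - qh y * quadPart qf qh g b₀ c x x' := rfl

omit hF ha hab in
/-- The linear part kills the slice and the vector. -/
theorem linPart_mem {g : orthGroup Q} {b₀ c : Fin b → F} (hc : qh c = 0) {W₀ : Submodule F (Fin a → F)}
    (hW : ∀ w ∈ W₀, ∃ w', g.1 (vecMulVec w b₀) = vecMulVec w' c) (x : Fin a → F) {y : Fin b → F}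
    (hcy : polar qh c y = 0) : linPart qf qh g b₀ c x y ∈ (W₀ ⊔ F ∙ x).dualAnnihilator := by
  rw [Submodule.mem_dualAnnihilator]
  intro w hw
  obtain ⟨l, hl, w', hw', rfl⟩ := Submodule.mem_sup.1 hw
  obtain ⟨t, rfl⟩ := Submodule.mem_span_singleton.1 hw'
  obtain ⟨l', hl'⟩ := hW l hl
  rw [map_add, map_smul, linPart_apply, linPart_apply, hl', ct_vecMulVec, ct_vecMulVec, polar_self', hc,
    polar_comm _ y c, hcy]
  simp [polar_zero_left, polar_comm _ (ct a qh y (g.1 (vecMulVec x b₀))) (ct a qh c (g.1 (vecMulVec x b₀)))]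

omit hF ha hab in
theorem annihilator_dim {W₀ : Submodule F (Fin a → F)} {x : Fin a → F} (hx : x ∉ W₀) :
    finrank F (W₀ ⊔ F ∙ x).dualAnnihilator + finrank F W₀ + 1 ≤ a := by
  have h := Subspace.finrank_add_finrank_dualAnnihilator_eq (W₀ ⊔ F ∙ x)
  have hlt : W₀ < W₀ ⊔ F ∙ x := lt_of_le_of_ne le_sup_left fun h =>
    hx (h ▸ Submodule.mem_sup_right (Submodule.mem_span_singleton_self x))
  have := Submodule.finrank_lt_finrank_of_lt hlt
  rw [finrank_fin_fun] at h
  omega

/-- A new element with a kernel vector, by a singular parameter. -/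
theorem kernel_small {g : orthGroup Q} {b₀ c : Fin b → F} (hst : State M qh g b₀ c) {W₀ : Submodule F (Fin a → F)}
    (hW : ∀ w ∈ W₀, ∃ w', g.1 (vecMulVec w b₀) = vecMulVec w' c) {x : Fin a → F} (hx : x ∉ W₀)
    (hdim : a + 4 ≤ b + finrank F W₀) :
    Full M qh ∨ ∃ k, State M qh k b₀ b₀ ∧ (∀ w ∈ W₀, k.1 (vecMulVec w b₀) = vecMulVec w b₀) ∧
      ct a qh b₀ (k.1 (vecMulVec x b₀)) = 0 := by
  obtain ⟨y, hy, hqy, hyc⟩ := exists_singular_in (Q := qh) hm.two
    (S := LinearMap.ker (polarBilin qh c) ⊓ LinearMap.ker (linPart qf qh g b₀ c x)) (by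
      have h := finrank_le_inf_ker (LinearMap.ker (polarBilin qh c)) (linPart qf qh g b₀ c x)
        (R := (W₀ ⊔ F ∙ x).dualAnnihilator) fun y hy => linPart_mem hst.qc hW x hy
      have := finrank_kerPolar (Q := qh) c
      have := annihilator_dim hx
      rw [finrank_fin_fun] at *; omega) hst.c0
  obtain ⟨hcy, hLy⟩ := hy
  rw [SetLike.mem_coe, mem_ker_polar] at hcy
  refine (next_state hF ha hab hst hcy hyc).imp_right fun ⟨k, hk, hkX, hform⟩ => ⟨k, hk, fun w hw => ?_, ?_⟩
  · obtain ⟨w', hw'⟩ := hW w hw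
    exact next_fix hF hst.qc hcy hkX hw'
  · refine hm.eq_of_forall fun x' => ?_
    rw [hform, nextForm_eq, hqy, LinearMap.mem_ker.1 hLy, polar_zero_right]
    simp

/-- A new element with a kernel vector, from an isotropic image. -/
theorem kernel_iso {g : orthGroup Q} {b₀ c : Fin b → F} (hst : State M qh g b₀ c) {W₀ : Submodule F (Fin a → F)}
    (hW : ∀ w ∈ W₀, ∃ w', g.1 (vecMulVec w b₀) = vecMulVec w' c) {x : Fin a → F} (hx : x ∉ W₀)
    (hiso : qf (ct a qh c (g.1 (vecMulVec x b₀))) = 0) (hdim : a + 3 ≤ b + finrank F W₀) :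
    Full M qh ∨ ∃ k, State M qh k b₀ b₀ ∧ (∀ w ∈ W₀, k.1 (vecMulVec w b₀) = vecMulVec w b₀) ∧
      ct a qh b₀ (k.1 (vecMulVec x b₀)) = 0 := by
  classical
  suffices H : ∃ y, polar qh c y = 0 ∧ y ∉ F ∙ c ∧
      linPart qf qh g b₀ c x y = qh y • quadPart qf qh g b₀ c x by
    obtain ⟨y, hcy, hyc, hLy⟩ := H
    refine (next_state hF ha hab hst hcy hyc).imp_right fun ⟨k, hk, hkX, hform⟩ => ⟨k, hk, fun w hw => ?_, ?_⟩
    · obtain ⟨w', hw'⟩ := hW w hw
      exact next_fix hF hst.qc hcy hkX hw'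
    · refine hm.eq_of_forall fun x' => ?_
      rw [hform, nextForm_eq, hLy, polar_zero_right]
      simp
  set L := linPart qf qh g b₀ c x
  set γ := quadPart qf qh g b₀ c x
  have hkc := finrank_kerPolar (Q := qh) c
  have hann := annihilator_dim hx
  by_cases hγ : γ = 0
  · obtain ⟨y, hy, hyc⟩ := exists_notMem_line (S := LinearMap.ker (polarBilin qh c) ⊓ LinearMap.ker L) (by
      have h := finrank_le_inf_ker (LinearMap.ker (polarBilin qh c)) L
        (R := (W₀ ⊔ F ∙ x).dualAnnihilator) fun y hy => linPart_mem hst.qc hW x hy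
      rw [finrank_fin_fun] at *; omega) c
    exact ⟨y, hy.1, hyc, by rw [LinearMap.mem_ker.1 hy.2, hγ, smul_zero]⟩
  have hγmem : γ ∈ (W₀ ⊔ F ∙ x).dualAnnihilator := by
    rw [Submodule.mem_dualAnnihilator]
    intro w hw
    obtain ⟨l, hl, w', hw', rfl⟩ := Submodule.mem_sup.1 hw
    obtain ⟨t, rfl⟩ := Submodule.mem_span_singleton.1 hw'
    obtain ⟨l', hl'⟩ := hW l hl
    rw [map_add, map_smul, quadPart_apply, quadPart_apply, hl', ct_vecMulVec, polar_self', hst.qc, polar_self', hiso]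
    simp [polar_zero_left]
  obtain ⟨x₁, hx₁⟩ : ∃ x₁, γ x₁ ≠ 0 := by
    by_contra! hall
    exact hγ (LinearMap.ext hall)
  set l : (Fin b → F) →ₗ[F] F := (γ x₁)⁻¹ • (L.flip x₁) with hl
  set R := (W₀ ⊔ F ∙ x).dualAnnihilator ⊓ LinearMap.ker (Module.Dual.eval F (Fin a → F) x₁) with hR
  have hRdim : finrank F R + 1 ≤ finrank F (W₀ ⊔ F ∙ x).dualAnnihilator := by
    have hlt : R < (W₀ ⊔ F ∙ x).dualAnnihilator := lt_of_le_of_ne inf_le_left fun h => hx₁ (by
      have : γ ∈ R := h ▸ hγmem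
      exact this.2)
    exact Submodule.finrank_lt_finrank_of_lt hlt
  set L' := L - l.smulRight γ
  set S := LinearMap.ker (polarBilin qh c) ⊓ LinearMap.ker L'
  have hS : 4 ≤ finrank F S := by
    show 4 ≤ finrank F ↥(LinearMap.ker (polarBilin qh c) ⊓ LinearMap.ker L')
    have h := finrank_le_inf_ker (LinearMap.ker (polarBilin qh c)) L' (R := R) fun y hy => by
      refine ⟨Submodule.sub_mem _ (linPart_mem hst.qc hW x hy) (Submodule.smul_mem _ _ hγmem), ?_⟩
      show L y x₁ - l y * γ x₁ = 0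
      simp only [hl, LinearMap.smul_apply, LinearMap.flip_apply, smul_eq_mul]
      field_simp
      ring
    rw [finrank_fin_fun] at *; omega
  have hSy : ∀ y ∈ S, polar qh c y = 0 ∧ L y = l y • γ := fun y hy => ⟨hy.1, sub_eq_zero.1 hy.2⟩
  by_cases hz : ∃ z ∈ S, qh z ≠ 0 ∧ l z ≠ 0
  · obtain ⟨z, hzS, hqz, hlz⟩ := hz
    obtain ⟨hcz, hLz⟩ := hSy z hzS
    refine ⟨(l z / qh z) • z, by rw [polar_smul_r', hcz, mul_zero], fun hmem => hqz ?_, ?_⟩
    · obtain ⟨t, ht⟩ := Submodule.mem_span_singleton.1 hmem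
      have h := congrArg qh ht
      rw [quad_smul', quad_smul', hst.qc, mul_zero, eq_comm, mul_eq_zero, mul_self_eq_zero, div_eq_zero_iff] at h
      tauto
    · rw [map_smul, hLz, smul_smul, quad_smul']
      congr 1
      field_simp
  push Not at hz
  by_cases hl0 : ∀ z ∈ S, l z = 0
  · obtain ⟨y, hy, hqy, hyc⟩ := exists_singular_in (Q := qh) hm.two hS hst.c0
    exact ⟨y, (hSy y hy).1, hyc, by rw [(hSy y hy).2, hl0 y hy, hqy]⟩
  push Not at hl0
  obtain ⟨z₁, hz₁, hlz₁⟩ := hl0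
  have hq0 : ∀ z ∈ S, qh z = 0 := by
    intro z hzS
    by_contra hqz
    have hlz := hz z hzS hqz
    have hq1 : qh z₁ = 0 := by
      by_contra h
      exact hlz₁ (hz z₁ hz₁ h)
    have h1 : qh (z + z₁) = 0 := by
      by_contra h
      exact hlz₁ (by simpa [hlz] using hz _ (S.add_mem hzS hz₁) h)
    have h2 : qh (z + -z₁) = 0 := by
      by_contra h
      exact hlz₁ (by simpa [hlz] using hz _ (S.add_mem hzS (S.neg_mem hz₁)) h)
    rw [quad_add', hq1] at h1
    rw [quad_add', QuadraticMap.map_neg, polar_neg_right, hq1] at h2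
    exact hqz (mul_left_cancel₀ hm.two (by linear_combination h1 + h2))
  obtain ⟨y, hy, hyc⟩ := exists_notMem_line (S := S ⊓ LinearMap.ker l)
    (by have := SimMax.finrank_inf_ker S l; omega) c
  exact ⟨y, (hSy y hy.1).1, hyc, by rw [(hSy y hy.1).2, LinearMap.mem_ker.1 hy.2, hq0 y hy.1]⟩

/-- A slice of dimension `i` grows, given an isotropic vector orthogonal to the image when `i = 1`. -/
theorem grow {g : orthGroup Q} {b₀ c : Fin b → F} (hst : State M qh g b₀ c) {W₀ : Submodule F (Fin a → F)}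
    (hW : ∀ w ∈ W₀, ∃ w', g.1 (vecMulVec w b₀) = vecMulVec w' c) (h1 : 1 ≤ finrank F W₀) (hlt : finrank F W₀ < a)
    (hr : finrank F W₀ = 1 → ∃ r, r ≠ 0 ∧ qf r = 0 ∧
      ∀ w ∈ W₀, ∀ w', g.1 (vecMulVec w b₀) = vecMulVec w' c → polar qf r w' = 0) :
    Full M qh ∨ ∃ g b₀ c W₁, State M qh g b₀ c ∧ (∀ w ∈ W₁, ∃ w', g.1 (vecMulVec w b₀) = vecMulVec w' c) ∧
      finrank F W₀ < finrank F (W₁ : Submodule F (Fin a → F)) := by
  classical
  -- a kernel vector outside the slice
  have hkey : ∀ {g : orthGroup Q} {c : Fin b → F}, State M qh g b₀ c →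
      (∀ w ∈ W₀, ∃ w', g.1 (vecMulVec w b₀) = vecMulVec w' c) → ∀ x, x ∉ W₀ →
      ct a qh c (g.1 (vecMulVec x b₀)) = 0 →
      Full M qh ∨ ∃ g b₀ c W₁, State M qh g b₀ c ∧ (∀ w ∈ W₁, ∃ w', g.1 (vecMulVec w b₀) = vecMulVec w' c) ∧
        finrank F W₀ < finrank F (W₁ : Submodule F (Fin a → F)) := by
    intro g c hst hW x hx hx0
    obtain ⟨d, -, hd⟩ := exists_polar_one hm.ndh (W := ⊥)
      (show c ∉ (⊥ : Submodule F (Fin b → F)) by simpa using hst.c0)
    set A := ct a qh d ∘ₗ g.1.toLinearMap ∘ₗ sl2 a b₀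
    have hA : ∀ w ∈ W₀, g.1 (vecMulVec w b₀) = vecMulVec (A w) c := fun w hw => by
      obtain ⟨w', hw'⟩ := hW w hw
      show _ = vecMulVec (ct a qh d (g.1 (vecMulVec w b₀))) c
      rw [hw', ct_vecMulVec, hd, one_smul]
    have hinj : Function.Injective (A.domRestrict W₀) := (injective_iff_map_eq_zero _).2 fun w hw =>
      Subtype.ext (sl2_injective (a := a) hst.b0 (by
        rw [Submodule.coe_zero, map_zero]
        refine g.1.map_eq_zero_iff.1 ((hA w.1 w.2).trans ?_)
        rw [show A w.1 = 0 from hw, zero_vecMulVec]))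
    set W' := W₀.map A
    have hW' : finrank F W' = finrank F W₀ := by
      rw [show W' = LinearMap.range (A.domRestrict W₀) by rw [LinearMap.range_domRestrict],
        LinearMap.finrank_range_of_inj hinj]
    obtain ⟨y, hy, hyc⟩ := exists_notMem_line
      (S := LinearMap.ker (polarBilin qh c) ⊓
        LinearMap.ker (W'.mkQ ∘ₗ (ct a qh).flip (g.1 (vecMulVec x b₀)))) (by
        have h := finrank_le_inf_ker (LinearMap.ker (polarBilin qh c))
          (W'.mkQ ∘ₗ (ct a qh).flip (g.1 (vecMulVec x b₀))) (R := ⊤) fun _ _ => trivial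
        have h2 := Submodule.finrank_quotient_add_finrank W'
        have := finrank_kerPolar (Q := qh) c
        rw [finrank_top] at h
        rw [finrank_fin_fun] at *; omega) c
    obtain ⟨hcy, hyW⟩ := hy
    have hmem : ct a qh y (g.1 (vecMulVec x b₀)) ∈ W' := (Submodule.Quotient.mk_eq_zero W').1 (LinearMap.mem_ker.1 hyW)
    obtain ⟨w₁, hw₁, hw₁'⟩ := hmem
    refine (step hF ha hab hst hW hx0 hcy hyc (w₁ := w₁) (by rw [hA w₁ hw₁, hw₁'])).imp_right
      fun ⟨k, hk, _, hkW⟩ => ⟨k, b₀, b₀, _, hk, hkW, ?_⟩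
    exact Submodule.finrank_lt_finrank_of_lt (lt_of_le_of_ne le_sup_left fun h =>
      hx (h ▸ Submodule.mem_sup_right (Submodule.mem_span_singleton_self x)))
  by_cases hex : ∃ x, x ∉ W₀ ∧ ct a qh c (g.1 (vecMulVec x b₀)) = 0
  · obtain ⟨x, hx, hx0⟩ := hex
    exact hkey hst hW x hx hx0
  push Not at hex
  have fin : Full M qh ∨ ∃ k x, State M qh k b₀ b₀ ∧ x ∉ W₀ ∧
      (∀ w ∈ W₀, k.1 (vecMulVec w b₀) = vecMulVec w b₀) ∧ ct a qh b₀ (k.1 (vecMulVec x b₀)) = 0 := by
    by_cases h2' : 2 ≤ finrank F W₀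
    · obtain ⟨x, hx⟩ : ∃ x, x ∉ W₀ := by
        by_contra! hall
        rw [Submodule.eq_top_iff'.2 hall, finrank_top, finrank_fin_fun] at hlt
        omega
      exact (kernel_small hF ha hab hst hW hx (by omega)).imp_right fun ⟨k, h⟩ => ⟨k, x, h.1, hx, h.2⟩
    have hi : finrank F W₀ = 1 := by omega
    obtain ⟨r, hr0, hqr, hrW⟩ := hr hi
    obtain ⟨w₀, hw₀, hw₀0⟩ := Submodule.exists_mem_ne_zero_of_ne_bot (p := W₀) fun h => by
      rw [h, finrank_bot] at h1; omega
    obtain ⟨w₀', hw₀'⟩ := hW w₀ hw₀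
    have hw₀'0 : w₀' ≠ 0 := fun e => hw₀0 (sl2_injective (a := a) hst.b0 (by
      rw [map_zero]; exact g.1.map_eq_zero_iff.1 (hw₀'.trans (by rw [e, zero_vecMulVec]))))
    set C₀ := ct a qh c ∘ₗ g.1.toLinearMap ∘ₗ sl2 a b₀
    have hker : LinearMap.ker C₀ ≤ W₀ := fun x hx => by
      by_contra hxW
      exact hex x hxW hx
    have hrange : LinearMap.range C₀ = LinearMap.ker (polarBilin qf w₀') := by
      refine Submodule.eq_of_le_of_finrank_le ?_ ?_
      · rintro _ ⟨x, rfl⟩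
        rw [mem_ker_polar]
        show polar qf w₀' (ct a qh c (g.1 (vecMulVec x b₀))) = 0
        rw [← hm.pol_left, ← hw₀', polar_isom, hm.pol, polar_self', hst.qb, mul_zero, mul_zero]
      · have h3 := C₀.finrank_range_add_finrank_ker
        have h4 := Submodule.finrank_mono hker
        have h5 : finrank F (LinearMap.ker (polarBilin qf w₀')) < a := by
          by_contra h
          have htop : LinearMap.ker (polarBilin qf w₀') = ⊤ := Submodule.eq_top_of_finrank_eq (by
            have := Submodule.finrank_le (LinearMap.ker (polarBilin qf w₀'))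
            rw [finrank_fin_fun] at *; omega)
          exact hw₀'0 (hm.ndf.1 _ fun v => by
            have : v ∈ LinearMap.ker (polarBilin qf w₀') := htop ▸ trivial
            exact this)
        rw [finrank_fin_fun] at *; omega
    obtain ⟨x, hx⟩ : r ∈ LinearMap.range C₀ := by
      rw [hrange, mem_ker_polar, polar_comm]
      exact hrW w₀ hw₀ w₀' hw₀'
    have hxW : x ∉ W₀ := fun hmem => by
      obtain ⟨x', hx'⟩ := hW x hmem
      refine hr0 (hx.symm.trans ?_)
      show ct a qh c (g.1 (vecMulVec x b₀)) = 0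
      rw [hx', ct_vecMulVec, polar_self', hst.qc, mul_zero, zero_smul]
    exact (kernel_iso hF ha hab hst hW hxW (by
      rw [show ct a qh c (g.1 (vecMulVec x b₀)) = r from hx]; exact hqr) (by omega)).imp_right
      fun ⟨k, h⟩ => ⟨k, x, h.1, hxW, h.2⟩
  rcases fin with hfull | ⟨k, x, hk, hxW, hkW, hx0⟩
  · exact Or.inl hfull
  · exact hkey hk (fun w hw => ⟨w, hkW w hw⟩) x hxW hx0

/-- From one line of a slice to a whole slice. -/
theorem full_of_line {g : orthGroup Q} {b₀ c : Fin b → F} (hst : State M qh g b₀ c) {x x' r : Fin a → F}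
    (hx : x ≠ 0) (hxx : g.1 (vecMulVec x b₀) = vecMulVec x' c) (hr0 : r ≠ 0) (hqr : qf r = 0)
    (hrx : polar qf r x' = 0) : Full M qh := by
  have main : ∀ i, 2 ≤ i → i ≤ a → Full M qh ∨ ∃ g b₀ c W₁, State M qh g b₀ c ∧
      (∀ w ∈ W₁, ∃ w', g.1 (vecMulVec w b₀) = vecMulVec w' c) ∧ i ≤ finrank F (W₁ : Submodule F (Fin a → F)) := by
    intro i h2
    induction i, h2 using Nat.le_induction with
    | base =>
      intro h2a
      have hW : ∀ w ∈ F ∙ x, ∃ w', g.1 (vecMulVec w b₀) = vecMulVec w' c := fun w hw => by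
        obtain ⟨t, rfl⟩ := Submodule.mem_span_singleton.1 hw
        exact ⟨t • x', by rw [smul_vecMulVec, map_smul, hxx, smul_vecMulVec]⟩
      have hd := finrank_span_singleton (K := F) hx
      refine (grow hF ha hab hst hW hd.ge (by omega) fun _ => ⟨r, hr0, hqr, fun w hw w' hw' => ?_⟩).imp_right
        fun ⟨g, b₀, c, W₁, h1, h2, h3⟩ => ⟨g, b₀, c, W₁, h1, h2, by omega⟩
      obtain ⟨t, rfl⟩ := Submodule.mem_span_singleton.1 hw
      have e : w' = t • x' := sl2_injective (a := a) hst.c0 (by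
        show vecMulVec w' c = vecMulVec (t • x') c
        rw [← hw', smul_vecMulVec, map_smul, hxx, smul_vecMulVec])
      rw [e, polar_smul_r', hrx, mul_zero]
    | succ i hi ih =>
      intro hia
      rcases ih (by omega) with h | ⟨g, b₀, c, W₁, hst, hW, hdim⟩
      · exact Or.inl h
      by_cases hbig : i + 1 ≤ finrank F W₁
      · exact Or.inr ⟨g, b₀, c, W₁, hst, hW, hbig⟩
      exact (grow hF ha hab hst hW (by omega) (by omega) fun h => by omega).imp_right
        fun ⟨g, b₀, c, W₂, h1, h2, h3⟩ => ⟨g, b₀, c, W₂, h1, h2, by omega⟩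
  rcases main a (by omega) le_rfl with h | ⟨g, b₀, c, W₁, hst, hW, hdim⟩
  · exact h
  have htop : W₁ = ⊤ := Submodule.eq_top_of_finrank_eq (by
    have := Submodule.finrank_le W₁
    rw [finrank_fin_fun] at *; omega)
  exact ⟨g, hst.mem, hst.notT, b₀, c, hst.b0, hst.qb, fun u => hW u (htop ▸ Submodule.mem_top)⟩

end Model

end CfsgLib.Classical.TensorMaxO
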