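import Cfsg.Agent.Lib.Classical.TensorMaxO.Basic

/-!
# Unipotent tensor maps of small rank, and conjugated Siegel elements
-/

set_option autoImplicit false
set_option linter.unusedSectionVars false

namespace CfsgLib.Classical.TensorMaxO

open Matrix Module QuadraticMap CfsgLib.Orth CfsgLib.Classical
open CfsgLib.Classical.TensorMax (IsTensor)
open CfsgLib.Classical.TensorMaxU (vecMulVec_row sl2)

variable {F : Type*} [Field F] [Fintype F] {a b : ℕ}

/-- The kernel of `X ↦ N X + (1 + N) X K` is bounded by the kernel of `N`, if `K` is nilpotent. -/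
theorem finrank_ker_le (N : Matrix (Fin a) (Fin a) F) (K : Matrix (Fin b) (Fin b) F) {p : ℕ} (hK : K ^ p = 0)
    (U : Matrix (Fin a) (Fin b) F →ₗ[F] Matrix (Fin a) (Fin b) F) (hU : ∀ X, U X = N * X + (1 + N) * X * K) :
    finrank F (LinearMap.ker U) ≤ b * finrank F (LinearMap.ker N.mulVecLin) := by
  classical
  obtain ⟨π, hπ⟩ := Submodule.exists_isCompl (LinearMap.ker N.mulVecLin)
  set P := Submodule.linearProjOfIsCompl _ _ hπ
  let Φ : LinearMap.ker U →ₗ[F] (Fin b → LinearMap.ker N.mulVecLin) :=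
    { toFun := fun X j => P ((X : Matrix (Fin a) (Fin b) F)ᵀ j)
      map_add' := fun X Y => funext fun j => map_add P _ _
      map_smul' := fun t X => funext fun j => map_smul P t _ }
  have hinj : Function.Injective Φ := by
    refine (injective_iff_map_eq_zero _).2 fun ⟨X, hX⟩ h0 => ?_
    rw [LinearMap.mem_ker] at hX
    refine Subtype.ext (show X = 0 from ?_)
    set P' := LinearMap.toMatrix' ((LinearMap.ker N.mulVecLin).subtype ∘ₗ P)
    have hPX : P' * X = 0 := Matrix.ext fun i j => by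
      show P' i ⬝ᵥ (Xᵀ j) = 0
      have e : P' *ᵥ (Xᵀ j) = 0 := by
        rw [LinearMap.toMatrix'_mulVec]
        show ((P (Xᵀ j) : LinearMap.ker N.mulVecLin) : Fin a → F) = 0
        rw [show P (Xᵀ j) = 0 from congrFun h0 j]; rfl
      exact congrFun e i
    by_contra hX0
    have hex : ∃ n, X * K ^ n = 0 := ⟨p, by rw [hK, Matrix.mul_zero]⟩
    have hn := Nat.find_spec hex
    obtain ⟨j, hj⟩ : ∃ j, Nat.find hex = j + 1 :=
      Nat.exists_eq_succ_of_ne_zero fun e => hX0 (by rw [e, pow_zero, Matrix.mul_one] at hn; exact hn)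
    have hne : X * K ^ j ≠ 0 := Nat.find_min hex (by omega)
    rw [hj, pow_succ, ← Matrix.mul_assoc] at hn
    have hN : N * (X * K ^ j) = 0 := by
      have e : U X * K ^ j = 0 := by rw [hX, Matrix.zero_mul]
      rw [hU, Matrix.add_mul, Matrix.mul_assoc, Matrix.mul_assoc (1 + N), Matrix.mul_assoc (1 + N), Matrix.mul_assoc X,
        ← pow_succ', pow_succ, ← Matrix.mul_assoc X, hn, Matrix.mul_zero, add_zero] at e
      exact e
    refine hne (Matrix.ext fun i l => ?_)
    have hmem : (X * K ^ j)ᵀ l ∈ LinearMap.ker N.mulVecLin := by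
      rw [LinearMap.mem_ker, Matrix.mulVecLin_apply]
      exact funext fun i => congrFun (congrFun hN i) l
    have e : P' *ᵥ ((X * K ^ j)ᵀ l) = (X * K ^ j)ᵀ l := by
      rw [LinearMap.toMatrix'_mulVec]
      show ((P ((X * K ^ j)ᵀ l) : LinearMap.ker N.mulVecLin) : Fin a → F) = _
      rw [show P ((X * K ^ j)ᵀ l) = ⟨_, hmem⟩ from Submodule.linearProjOfIsCompl_apply_left hπ ⟨_, hmem⟩]
    have e2 : (X * K ^ j) i l = (P' * (X * K ^ j)) i l := (congrFun e i).symm
    rw [e2, ← Matrix.mul_assoc, hPX, Matrix.zero_mul]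
  have h := LinearMap.finrank_le_finrank_of_injective hinj
  rwa [Module.finrank_pi_fintype, Finset.sum_const, Finset.card_univ, Fintype.card_fin, smul_eq_mul] at h

/-- A map `X ↦ X K` of rank at most `a · r` has `K` of rank at most `r`. -/
theorem finrank_rowspace_le {K : Matrix (Fin b) (Fin b) F}
    (U : Matrix (Fin a) (Fin b) F →ₗ[F] Matrix (Fin a) (Fin b) F) (hU : ∀ X, U X = X * K) :
    a * finrank F (LinearMap.range K.vecMulLinear) ≤ finrank F (LinearMap.range U) := by
  let Ψ : (Fin a → LinearMap.range K.vecMulLinear) →ₗ[F] Matrix (Fin a) (Fin b) F :=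
    { toFun := fun x => Matrix.of fun i => (x i : Fin b → F)
      map_add' := fun x y => rfl
      map_smul' := fun t x => rfl }
  have hinj : Function.Injective Ψ := fun x y h => funext fun i => Subtype.ext (congrFun h i)
  have hle : LinearMap.range Ψ ≤ LinearMap.range U := by
    rintro _ ⟨x, rfl⟩
    choose v hv using fun i => (x i).2
    exact ⟨Matrix.of v, by rw [hU]; exact funext hv⟩
  have h := (LinearMap.finrank_range_of_inj hinj).symm.trans_le (Submodule.finrank_mono hle)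
  rwa [Module.finrank_pi_fintype, Finset.sum_const, Finset.card_univ, Fintype.card_fin, smul_eq_mul] at h

variable {Q : QuadraticForm F (Matrix (Fin a) (Fin b) F)} {qf : QuadraticForm F (Fin a → F)}
  {qh : QuadraticForm F (Fin b → F)} {M : Subgroup (orthGroup Q)}

/-- Some element of `M` outside the stabiliser maps a singular slice onto a slice. -/
def Full (M : Subgroup (orthGroup Q)) (qh : QuadraticForm F (Fin b → F)) : Prop :=
  ∃ g ∈ M, ¬ IsTensor g.1 ∧ ∃ b₀ c : Fin b → F, b₀ ≠ 0 ∧ qh b₀ = 0 ∧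
    ∀ u, ∃ u', g.1 (vecMulVec u b₀) = vecMulVec u' c

namespace Model

variable (hm : Model Q qf qh)
include hm

/-- A unipotent tensor map of small rank is a row map. -/
theorem tensor_normal (ha : 3 ≤ a) (hb : 0 < b) {k : orthGroup Q} (hk : IsTensor k.1)
    (U : Matrix (Fin a) (Fin b) F →ₗ[F] Matrix (Fin a) (Fin b) F) (hU : ∀ X, k.1 X = X + U X)
    (h3 : ∀ X, U (U (U X)) = 0) (hr : finrank F (LinearMap.range U) < 2 * b) :
    ∃ (K : Matrix (Fin b) (Fin b) F) (p : ℕ), K ^ p = 0 ∧ ∀ X, U X = X * K := by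
  classical
  haveI : Nonempty (Fin a) := ⟨⟨0, by omega⟩⟩
  haveI : Nonempty (Fin b) := ⟨⟨0, hb⟩⟩
  obtain ⟨p, hp⟩ := CharP.exists F
  haveI := hp
  have hpp : p.Prime := (CharP.char_is_prime_or_zero F p).resolve_right (CharP.char_ne_zero_of_finite F p)
  haveI : Fact p.Prime := ⟨hpp⟩
  have hp3 : 3 ≤ p := by
    have h1 := hpp.two_le
    rcases Nat.lt_or_ge p 3 with h | h
    · exfalso
      have e : p = 2 := by omega
      subst e
      exact hm.two (by exact_mod_cast CharP.cast_eq_zero F 2)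
    · exact h
  haveI : CharP (Module.End F (Matrix (Fin a) (Fin b) F)) p :=
    charP_of_injective_algebraMap (algebraMap F _).injective p
  obtain ⟨A, C, hA, hC, hAC⟩ := hk
  -- the power
  have hkU : (k.1 : Module.End F (Matrix (Fin a) (Fin b) F)) = 1 + U := LinearMap.ext fun X => hU X
  have hUp : U ^ p = 0 := by
    refine pow_eq_zero_of_le hp3 (LinearMap.ext fun X => ?_)
    exact h3 X
  have hkp : ∀ n X, (((k.1 : Module.End F (Matrix (Fin a) (Fin b) F))) ^ n) X = A ^ n * X * C ^ n := by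
    intro n
    induction n with
    | zero => intro X; simp
    | succ n ih =>
      intro X
      rw [pow_succ', Module.End.mul_apply, ih, LinearEquiv.coe_coe, hAC, pow_succ', pow_succ]
      simp only [Matrix.mul_assoc]
  have hone : ∀ X : Matrix (Fin a) (Fin b) F, A ^ p * X * C ^ p = X := fun X => by
    rw [← hkp, hkU, add_pow_char_of_commute p (Commute.one_left U), one_pow, hUp, add_zero]; rfl
  -- the scalar
  set w₀ : Fin b → F := Pi.single ⟨0, hb⟩ 1 with hw₀def
  have hw₀ : w₀ ≠ 0 := by simp [hw₀def]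
  have hwC : w₀ ᵥ* C ^ p ≠ 0 := fun e => hw₀ (eq_zero_of_vecMul_eq_zero (by rw [det_pow]; exact pow_ne_zero _ hC) e)
  obtain ⟨d, hd⟩ := TensorMax.exists_dot_one hwC
  set l := w₀ ⬝ᵥ d with hl
  have hAp : A ^ p = l • (1 : Matrix (Fin a) (Fin a) F) := Matrix.ext_iff_mulVec.2 fun u => by
    have h := congrArg (· *ᵥ d) (hone (vecMulVec u w₀))
    simp only [mul_vecMulVec, vecMulVec_mul, vecMulVec_mulVec, op_smul_eq_smul] at h
    rw [dotProduct_comm, hd, one_smul] at h
    rw [h, smul_mulVec, one_mulVec]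
  obtain ⟨μ, hμ⟩ : ∃ μ : F, μ ^ p = l := by
    obtain ⟨μ, hμ⟩ := (Finite.injective_iff_surjective.1 (frobenius_inj F p)) l
    exact ⟨μ, hμ⟩
  have hl0 : l ≠ 0 := fun e => by
    rw [e, zero_smul] at hAp
    exact pow_ne_zero p hA (by rw [← det_pow, hAp, det_zero])
  have hμ0 : μ ≠ 0 := fun e => hl0 (by rw [← hμ, e, zero_pow hpp.ne_zero])
  have hCp : C ^ p = l⁻¹ • (1 : Matrix (Fin b) (Fin b) F) := Matrix.ext fun i j => by
    have h := congrFun (congrFun (hone (vecMulVec (Pi.single ⟨0, by omega⟩ 1) (Pi.single i 1))) ⟨0, by omega⟩) j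
    rw [hAp, Matrix.smul_mul, Matrix.one_mul, Matrix.smul_mul, vecMulVec_mul, single_one_vecMul] at h
    simp only [Matrix.smul_apply, vecMulVec_apply, Pi.single_eq_same, one_mul, smul_eq_mul, Matrix.row] at h
    rw [Matrix.smul_apply, smul_eq_mul, Matrix.one_apply, eq_inv_mul_iff_mul_eq₀ hl0, h, Pi.single_apply]
    exact if_congr eq_comm rfl rfl
  set N := μ⁻¹ • A - 1 with hN
  set K := μ • C - 1 with hK
  have hNp : N ^ p = 0 := by
    rw [hN, sub_pow_char_of_commute p (Commute.one_right _), one_pow, _root_.smul_pow, inv_pow, hμ, hAp, smul_smul,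
      inv_mul_cancel₀ hl0, one_smul, sub_self]
  have hKp : K ^ p = 0 := by
    rw [hK, sub_pow_char_of_commute p (Commute.one_right _), one_pow, _root_.smul_pow, hμ, hCp, smul_smul,
      mul_inv_cancel₀ hl0, one_smul, sub_self]
  have hform : ∀ X, k.1 X = (1 + N) * X * (1 + K) := fun X => by
    rw [hAC, hN, hK, add_sub_cancel, add_sub_cancel, Matrix.smul_mul, Matrix.smul_mul, Matrix.mul_smul, smul_smul,
      inv_mul_cancel₀ hμ0, one_smul]
  have hUX : ∀ X, U X = N * X + (1 + N) * X * K := fun X => by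
    have e : U X = k.1 X - X := by rw [hU]; abel
    rw [e, hform, Matrix.mul_add, Matrix.mul_one, Matrix.add_mul, Matrix.one_mul]
    abel
  -- the rank
  have hrank : finrank F (LinearMap.range N.mulVecLin) ≤ 1 := by
    have h1 := finrank_ker_le N K hKp U hUX
    have h2 := U.finrank_range_add_finrank_ker
    have h3 := N.mulVecLin.finrank_range_add_finrank_ker
    rw [Module.finrank_matrix, Fintype.card_fin, Fintype.card_fin, Module.finrank_self, mul_one] at h2
    rw [finrank_fin_fun] at h3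
    have h5 : a * b = b * finrank F (LinearMap.range N.mulVecLin) + b * finrank F (LinearMap.ker N.mulVecLin) := by
      rw [← Nat.mul_add, h3, Nat.mul_comm]
    by_contra hlt
    have := Nat.mul_le_mul_left b (show 2 ≤ finrank F (LinearMap.range N.mulVecLin) by omega)
    omega
  have hpure : ∀ u w, k.1 (vecMulVec u w) = vecMulVec (u + N *ᵥ u) (w + w ᵥ* K) := fun u w => by
    rw [hform, mul_vecMulVec, vecMulVec_mul, add_mulVec, one_mulVec, vecMul_add, vecMul_one]
  have hiso : ∀ u u' w w', polar qf (u + N *ᵥ u) (u' + N *ᵥ u') * polar qh (w + w ᵥ* K) (w' + w' ᵥ* K) =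
      polar qf u u' * polar qh w w' := fun u u' w w' => by
    rw [← hm.pol, ← hpure, ← hpure, polar_isom, hm.pol]
  obtain ⟨x, hxN, hqx⟩ := exists_anisotropic_in hm.ndf (S := LinearMap.ker N.mulVecLin) (by
    have := N.mulVecLin.finrank_range_add_finrank_ker
    rw [finrank_fin_fun] at *; omega)
  rw [LinearMap.mem_ker, Matrix.mulVecLin_apply] at hxN
  have hxx : polar qf x x ≠ 0 := by rw [polar_self']; exact mul_ne_zero hm.two hqx
  obtain ⟨y₀, -, hy₀⟩ := exists_anisotropic_in hm.ndh (S := ⊤) (by rw [finrank_top, finrank_fin_fun]; omega)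
  have hh : polar qh (y₀ + y₀ ᵥ* K) (y₀ + y₀ ᵥ* K) = polar qh y₀ y₀ := by
    have h := hiso x x y₀ y₀
    rw [hxN, add_zero] at h
    exact mul_left_cancel₀ hxx h
  have hf : ∀ u u', polar qf (u + N *ᵥ u) (u' + N *ᵥ u') = polar qf u u' := fun u u' => by
    have h := hiso u u' y₀ y₀
    rw [hh] at h
    exact mul_right_cancel₀ (by rw [polar_self']; exact mul_ne_zero hm.two hy₀) h
  have hN0 : N = 0 := by
    by_contra hne
    obtain ⟨x₀, hx₀⟩ : ∃ x₀, N *ᵥ x₀ ≠ 0 := by
      by_contra! hall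
      exact hne (Matrix.ext_iff_mulVec.2 fun v => by rw [hall, zero_mulVec])
    set v := N *ᵥ x₀ with hv
    have hspan : LinearMap.range N.mulVecLin = F ∙ v := by
      refine (Submodule.eq_of_le_of_finrank_le ?_ ?_).symm
      · exact (Submodule.span_singleton_le_iff_mem _ _).2 ⟨x₀, rfl⟩
      · rwa [finrank_span_singleton hx₀]
    have hmem : ∀ y, N *ᵥ y ∈ F ∙ v := fun y => hspan ▸ ⟨y, rfl⟩
    have hNv : N *ᵥ v = 0 := by
      obtain ⟨t, ht⟩ := Submodule.mem_span_singleton.1 (hmem v)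
      have hpow : ∀ n, (N ^ n) *ᵥ v = t ^ n • v := fun n => by
        induction n with
        | zero => simp
        | succ n ih => rw [pow_succ', ← mulVec_mulVec, ih, mulVec_smul, ← ht, smul_smul, pow_succ]
      have h := hpow p
      rw [hNp, zero_mulVec, eq_comm, smul_eq_zero] at h
      rw [← ht, pow_eq_zero_iff hpp.ne_zero |>.1 (h.resolve_right hx₀), zero_smul]
    have hperp : ∀ y, N *ᵥ y = 0 → polar qf v y = 0 := fun y hy => by
      have h := hf x₀ y
      rw [hy, add_zero, polar_add_left, ← hv] at h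
      linear_combination h
    have hvv := hperp v hNv
    have hxv : polar qf v x₀ = 0 := by
      have h := hf x₀ x₀
      rw [← hv, polar_add_left, polar_add_right, polar_add_right, hvv, polar_comm _ x₀ v] at h
      exact mul_left_cancel₀ hm.two (by linear_combination h)
    refine hx₀ (hm.ndf.1 v fun y => ?_)
    obtain ⟨t, ht⟩ := Submodule.mem_span_singleton.1 (hmem y)
    have h := hperp (y - t • x₀) (by rw [mulVec_sub, mulVec_smul, ← hv, ht, sub_self])
    rw [polar_sub_right, polar_smul_r', hxv, mul_zero, sub_zero] at h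
    exact h
  exact ⟨K, p, hKp, fun X => by rw [hUX, hN0, Matrix.zero_mul, zero_add, add_zero, Matrix.one_mul]⟩

omit hm in
/-- The translation part of a conjugated Siegel element of the second factor. -/
def conjU (_hm : Model Q qf qh) (g : orthGroup Q) (c y : Fin b → F) : Matrix (Fin a) (Fin b) F →ₗ[F] Matrix (Fin a) (Fin b) F :=
  g.1.symm.toLinearMap ∘ₗ (sl2 a y ∘ₗ ct a qh c + sl2 a c ∘ₗ (-ct a qh y - qh y • ct a qh c)) ∘ₗ g.1.toLinearMap

theorem conjU_apply (g : orthGroup Q) (c y : Fin b → F) (X : Matrix (Fin a) (Fin b) F) :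
    conjU hm g c y X = g.1.symm (vecMulVec (ct a qh c (g.1 X)) y +
      vecMulVec (-ct a qh y (g.1 X) - qh y • ct a qh c (g.1 X)) c) := rfl

theorem conj_apply {g : orthGroup Q} {C : orthGroup qh} {c y : Fin b → F} (hC : IsSiegel C c y)
    (X : Matrix (Fin a) (Fin b) F) : (g⁻¹ * hm.row C * g).1 X = X + conjU hm g c y X := by
  show g.1.symm ((hm.row C).1 (g.1 X)) = _
  rw [hm.row_siegel hC, add_assoc, map_add, g.1.symm_apply_apply]
  rfl

theorem conj_pow {g : orthGroup Q} {c y : Fin b → F} (hc : qh c = 0) (hcy : polar qh c y = 0)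
    (X : Matrix (Fin a) (Fin b) F) :
    conjU hm g c y (conjU hm g c y X) = (-(2 * qh y)) • g.1.symm (vecMulVec (ct a qh c (g.1 X)) c) ∧
      conjU hm g c y (conjU hm g c y (conjU hm g c y X)) = 0 := by
  have h2 : ∀ X, conjU hm g c y (conjU hm g c y X) = (-(2 * qh y)) • g.1.symm (vecMulVec (ct a qh c (g.1 X)) c) := by
    intro X
    rw [conjU_apply, conjU_apply, g.1.apply_symm_apply]
    simp only [map_add, ct_vecMulVec, polar_self', hc, hcy, polar_comm _ y c, mul_zero, zero_smul, add_zero, smul_zero,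
      sub_zero, zero_vecMulVec, zero_add, ← map_smul g.1.symm, ← smul_vecMulVec, neg_smul, neg_vecMulVec]
  refine ⟨h2 X, ?_⟩
  rw [h2, conjU_apply, g.1.apply_symm_apply]
  simp [polar_self', hc, hcy, polar_comm _ y c]

theorem conjU_rank (g : orthGroup Q) (c y : Fin b → F) : finrank F (LinearMap.range (conjU hm g c y)) ≤ 2 * a := by
  have hle : LinearMap.range (conjU hm g c y) ≤
      LinearMap.range (g.1.symm.toLinearMap ∘ₗ (sl2 a y).coprod (sl2 a c)) := by
    rintro _ ⟨X, rfl⟩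
    exact ⟨(ct a qh c (g.1 X), -ct a qh y (g.1 X) - qh y • ct a qh c (g.1 X)), rfl⟩
  refine (Submodule.finrank_mono hle).trans ((LinearMap.finrank_range_le _).trans ?_)
  rw [finrank_prod, finrank_fin_fun]
  omega

variable {hm} (hF : ContainsFactors hm M)
include hF

/-- A conjugated Siegel element is outside the stabiliser, or gives a slice. -/
theorem full_or (ha : 3 ≤ a) (hab : a < b) (hb : 5 ≤ b) {g : orthGroup Q} (hg : g ∈ M) (hgT : ¬ IsTensor g.1)
    {C : orthGroup qh} {c y : Fin b → F} (hC : IsSiegel C c y) (hc0 : c ≠ 0) (hy : y ∉ F ∙ c) :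
    Full M qh ∨ (g⁻¹ * hm.row C * g ∈ M ∧ ¬ IsTensor (g⁻¹ * hm.row C * g).1) := by
  classical
  have hkM : g⁻¹ * hm.row C * g ∈ M := M.mul_mem (M.mul_mem (M.inv_mem hg) (hF.row_siegel hC)) hg
  refine or_iff_not_imp_right.2 fun hT => ?_
  simp only [hkM, true_and, not_not] at hT
  obtain ⟨hc, hcy, -⟩ := id hC
  obtain ⟨K, p, hKp, hK⟩ := tensor_normal hm ha (by omega) hT (conjU hm g c y) (conj_apply hm hC)
    (fun X => (conj_pow hm hc hcy X).2) ((conjU_rank hm g c y).trans_lt (by omega))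
  set I := LinearMap.range K.vecMulLinear with hI
  have hI2 : finrank F I ≤ 2 := by
    have h := (finrank_rowspace_le (conjU hm g c y) hK).trans (conjU_rank hm g c y)
    rw [Nat.mul_comm 2 a] at h
    exact Nat.le_of_mul_le_mul_left h (by omega)
  -- the slice in the image
  obtain ⟨w, hwc, hwy⟩ := exists_polar_one hm.ndh hy
  have hcw : polar qh c w = 0 := by rw [polar_comm]; exact hwc c (Submodule.mem_span_singleton_self c)
  have himage : ∀ z, ∃ X : Matrix (Fin a) (Fin b) F, g.1 (X * K) = vecMulVec z c := fun z => ⟨g.1.symm (vecMulVec (-z) w), by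
    rw [← hK, conjU_apply, g.1.apply_symm_apply, g.1.apply_symm_apply]
    simp [hcw, polar_comm _ y w, hwy]⟩
  have hu1 : (Pi.single ⟨0, by omega⟩ 1 : Fin a → F) ≠ 0 := by simp
  obtain ⟨v, hv⟩ : ∃ v, v ᵥ* K ≠ 0 := by
    by_contra! hall
    obtain ⟨X, hX⟩ := himage (Pi.single ⟨0, by omega⟩ 1)
    rw [show X * K = 0 from funext fun i => hall (X i), map_zero, eq_comm, TensorMax.vecMulVec_eq_zero_iff'] at hX
    exact hX.elim hu1 hc0
  have hex : ∃ n, v ᵥ* K ^ n = 0 := ⟨p, by rw [hKp, vecMul_zero]⟩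
  obtain ⟨j, hj⟩ : ∃ j, Nat.find hex = j + 2 := by
    have h := Nat.find_spec hex
    refine ⟨Nat.find hex - 2, ?_⟩
    by_contra hne
    rcases (show Nat.find hex = 0 ∨ Nat.find hex = 1 by omega) with e | e
    · rw [e, pow_zero, vecMul_one] at h
      exact hv (by rw [h, zero_vecMul])
    · rw [e, pow_one] at h
      exact hv h
  set r := v ᵥ* K ^ (j + 1) with hr
  have hr0 : r ≠ 0 := Nat.find_min hex (by omega)
  have hrK : r ᵥ* K = 0 := by
    rw [hr, vecMul_vecMul, ← pow_succ, show j + 1 + 1 = Nat.find hex by omega]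
    exact Nat.find_spec hex
  obtain ⟨u₀, -, hu₀⟩ := exists_anisotropic_in hm.ndf (S := ⊤) (by rw [finrank_top, finrank_fin_fun]; omega)
  have hisom : ∀ x x', polar qh (x + x ᵥ* K) (x' + x' ᵥ* K) = polar qh x x' := fun x x' => by
    refine mul_left_cancel₀ (show polar qf u₀ u₀ ≠ 0 by rw [polar_self']; exact mul_ne_zero hm.two hu₀) ?_
    rw [← hm.pol, ← hm.pol]
    have e : ∀ x, vecMulVec u₀ (x + x ᵥ* K) = (g⁻¹ * hm.row C * g).1 (vecMulVec u₀ x) := fun x => by
      rw [conj_apply hm hC, hK, vecMulVec_mul, vecMulVec_add]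
    rw [e, e, polar_isom]
  have hrI : ∀ x ∈ I, polar qh r x = 0 := by
    rintro _ ⟨x, rfl⟩
    have h := hisom r x
    rw [hrK, add_zero, polar_add_right] at h
    show polar qh r (x ᵥ* K) = 0
    linear_combination h
  have hrr : qh r = 0 := quad_eq_zero_of_self hm.two (hrI r ⟨v ᵥ* K ^ j, by
    show v ᵥ* K ^ j ᵥ* K = r
    rw [vecMul_vecMul, ← pow_succ]⟩)
  obtain ⟨y', hy', hqy'⟩ := exists_anisotropic_in hm.ndh
    (S := LinearMap.BilinForm.orthogonal (polarBilin qh) I) (by
      rw [LinearMap.BilinForm.finrank_orthogonal hm.ndh, finrank_fin_fun]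
      omega)
  have hy'I : ∀ x ∈ I, polar qh y' x = 0 := fun x hx => by rw [polar_comm]; exact hy' x hx
  obtain ⟨C', hC'⟩ := exists_isSiegel hm.ndh hrr (show polar qh r y' = 0 by
    rw [polar_comm]; exact hy'I r ⟨v ᵥ* K ^ j, by
      show v ᵥ* K ^ j ᵥ* K = r
      rw [vecMul_vecMul, ← pow_succ]⟩)
  set k' := (g⁻¹)⁻¹ * hm.row C' * g⁻¹ with hk'
  have hk'M : k' ∈ M := M.mul_mem (M.mul_mem (M.inv_mem (M.inv_mem hg)) (hF.row_siegel hC')) (M.inv_mem hg)
  have hfix : ∀ z, k'.1 (vecMulVec z c) = vecMulVec z c := fun z => by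
    obtain ⟨X, hX⟩ := himage z
    have e : (g⁻¹).1 (vecMulVec z c) = X * K := by rw [← hX]; exact g.1.symm_apply_apply _
    have h1 : ct a qh r (X * K) = 0 := funext fun i => hrI _ ⟨X i, rfl⟩
    have h2 : ct a qh y' (X * K) = 0 := funext fun i => hy'I _ ⟨X i, rfl⟩
    rw [hk', conj_apply hm hC', conjU_apply, e, h1, h2]
    simp
  by_cases hk'T : IsTensor k'.1
  swap
  · exact ⟨k', hk'M, hk'T, c, c, hc0, hc, fun u => ⟨u, hfix u⟩⟩
  obtain ⟨K', p', hKp', hK'⟩ := tensor_normal hm ha (by omega) hk'T (conjU hm g⁻¹ r y') (conj_apply hm hC')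
    (fun X => (conj_pow hm hrr hC'.2.1 X).2) ((conjU_rank hm g⁻¹ r y').trans_lt (by omega))
  set U₂ := conjU hm g⁻¹ r y' ∘ₗ conjU hm g⁻¹ r y'
  have hL : ∀ X, U₂ X = X * (K' * K') := fun X => by
    show conjU hm g⁻¹ r y' (conjU hm g⁻¹ r y' X) = _
    rw [hK', hK', Matrix.mul_assoc]
  have hI1 : finrank F (LinearMap.range (K' * K').vecMulLinear) ≤ 1 := by
    have hle : LinearMap.range U₂ ≤ LinearMap.range ((g⁻¹).1.symm.toLinearMap ∘ₗ sl2 a r) := by
      rintro _ ⟨X, rfl⟩
      refine ⟨(-(2 * qh y')) • ct a qh r ((g⁻¹).1 X), ?_⟩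
      show (g⁻¹).1.symm (vecMulVec _ r) = conjU hm g⁻¹ r y' (conjU hm g⁻¹ r y' X)
      rw [(conj_pow hm hrr hC'.2.1 X).1, smul_vecMulVec, map_smul]
    have h := (finrank_rowspace_le U₂ hL).trans ((Submodule.finrank_mono hle).trans (LinearMap.finrank_range_le _))
    rw [finrank_fin_fun] at h
    exact Nat.le_of_mul_le_mul_left (by rwa [Nat.mul_one]) (show 0 < a by omega)
  obtain ⟨d, hd⟩ : ∃ d, ∀ x ∈ LinearMap.range (K' * K').vecMulLinear, x ∈ F ∙ d := by
    by_cases h0 : ∃ d ∈ LinearMap.range (K' * K').vecMulLinear, d ≠ 0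
    · obtain ⟨d, hd, hd0⟩ := h0
      refine ⟨d, fun x hx => ?_⟩
      rwa [Submodule.eq_of_le_of_finrank_le ((Submodule.span_singleton_le_iff_mem _ _).2 hd)
        (by rwa [finrank_span_singleton hd0])]
    · push Not at h0
      exact ⟨0, fun x hx => by rw [h0 x hx]; exact zero_mem _⟩
  obtain ⟨p₀, -, hp₀⟩ := exists_partner hm.ndh hrr hr0
  refine ⟨g, hg, hgT, r, d, hr0, hrr, fun z => ?_⟩
  set X := g.1 (vecMulVec z p₀)
  have hgX : (g⁻¹).1 X = vecMulVec z p₀ := g.1.symm_apply_apply _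
  have e : X * (K' * K') = (-(2 * qh y')) • g.1 (vecMulVec z r) := by
    rw [← hL]
    show conjU hm g⁻¹ r y' (conjU hm g⁻¹ r y' X) = _
    rw [(conj_pow hm hrr hC'.2.1 X).1, hgX, ct_vecMulVec, hp₀, one_smul]
    rfl
  choose t ht using fun i => Submodule.mem_span_singleton.1 (hd ((X * (K' * K')) i) ⟨X i, rfl⟩)
  refine ⟨(-(2 * qh y'))⁻¹ • t, ?_⟩
  rw [smul_vecMulVec, eq_inv_smul_iff₀ (neg_ne_zero.2 (mul_ne_zero hm.two hqy')), ← e]
  exact (funext fun i => by rw [vecMulVec_row]; exact ht i).symm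

end Model

end CfsgLib.Classical.TensorMaxO
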