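import Cfsg.Agent.Lib.Perm.Quad.PairSplit
import Cfsg.Agent.Lib.Fusion.Dickson

/-!
# Two square-zero maps with their one-parameter families

Either the group they generate is unipotent, or it has an element acting as `-1` on a piece of the space.
-/

set_option autoImplicit false
set_option linter.unusedSectionVars false

namespace CfsgLib.Classical.TensorMaxO.Pair

open Cfsg CfsgLib.Perm.Quad CfsgLib.Perm.Quad.Ends CfsgLib.Perm.Quad.PairSplit CfsgLib.Perm.Quad.PairAlg
  CfsgLib.Perm.Quad.SL2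

variable {F : Type*} [Field F] [Finite F] {V : Type*} [AddCommGroup V] [Module F V] [FiniteDimensional F V]

/-- The elements `1 + c x` and `1 + c y`. -/
def fams (x y : Module.End F V) : Subgroup (LinearMap.GeneralLinearGroup F V) :=
  Subgroup.closure ({g | ∃ c : F, (g : Module.End F V) = 1 + c • x} ∪
    {g | ∃ c : F, (g : Module.End F V) = 1 + c • y})

/-- Elements of a unipotent group have `p`-power order. -/
theorem isPGroup_of_unipotent [Nontrivial V] (p : ℕ) [Fact p.Prime] [CharP F p]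
    {H : Subgroup (LinearMap.GeneralLinearGroup F V)} (hu : IsUnipotentOn H) : IsPGroup p H := fun g => by
  haveI : CharP (Module.End F V) p :=
    charP_of_injective_algebraMap (algebraMap F (Module.End F V)).injective p
  obtain ⟨n, hn⟩ := Perm.Unipotent.isUnipotentOn_iff.1 hu
  have h := hn (List.replicate n (g : LinearMap.GeneralLinearGroup F V))
    (fun x hx => by rw [List.eq_of_mem_replicate hx]; exact g.2) (List.length_replicate ..)
  rw [List.map_replicate, List.prod_replicate] at h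
  refine ⟨n, Subtype.ext (Units.ext ?_)⟩
  rw [SubgroupClass.coe_pow, Units.val_pow_eq_pow_val, Subgroup.coe_one, Units.val_one, ← sub_eq_zero]
  have key := sub_pow_char_pow_of_commute p n
    (Commute.one_right ((g : LinearMap.GeneralLinearGroup F V) : Module.End F V))
  rw [one_pow] at key
  rw [← key]
  exact pow_eq_zero_of_le (n.lt_pow_self (Fact.out : p.Prime).one_lt).le h

/-- A group generated by `up 1` and the multiples of a unit below has an element `a` with `a² = 1 ≠ a`. -/
theorem exists_neg {R : Type*} [CommRing R] [Nontrivial R] [Algebra F R] [FiniteDimensional F R] (h2 : (2 : F) ≠ 0)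
    {lam : R} (hlam : IsUnit lam) :
    ∃ (a : R) (g : SL R), g ∈ gen F lam ∧ a * a = 1 ∧ a ≠ 1 ∧ g.1 = a • (1 : Matrix (Fin 2) (Fin 2) R) := by
  classical
  have h2R : IsUnit (2 : R) := by
    rw [← map_ofNat (algebraMap F R) 2]
    exact (IsUnit.mk0 _ h2).map _
  haveI : Finite R := Module.finite_of_finite F
  obtain ⟨𝔪, h𝔪⟩ := Ideal.exists_maximal R
  letI := Ideal.Quotient.field 𝔪
  set f := Ideal.Quotient.mk 𝔪
  haveI : Finite (R ⧸ 𝔪) := Finite.of_surjective f Ideal.Quotient.mk_surjective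
  obtain ⟨p, hp⟩ := CharP.exists (R ⧸ 𝔪)
  haveI := hp
  haveI : Fact p.Prime := ⟨(CharP.char_is_prime_or_zero (R ⧸ 𝔪) p).resolve_right
    (CharP.char_ne_zero_of_finite (R ⧸ 𝔪) p)⟩
  have hl : f lam ≠ 0 := (hlam.map f).ne_zero
  set X := (gen F lam).map ((Fusion.Dickson.scale (inv_ne_zero hl)).comp (Matrix.SpecialLinearGroup.map f))
  have hu : Perm.SL2Unipotent.up (f lam) ∈ X := by
    refine ⟨up 1, ?_, ?_⟩
    · simpa using up_mem_gen F lam (1 : F)
    · show Fusion.Dickson.scale (inv_ne_zero hl) (SL2Ring.slMap f (up 1)) = _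
      rw [SL2Ring.map_up, map_one]
      exact (Fusion.Dickson.scale_up (inv_ne_zero hl) _).trans (by rw [one_mul, inv_inv])
  have hd : Perm.SL2Unipotent.low (1 : R ⧸ 𝔪) ∈ X := by
    refine ⟨low lam, ?_, ?_⟩
    · simpa using low_mem_gen F lam (1 : F)
    · show Fusion.Dickson.scale (inv_ne_zero hl) (SL2Ring.slMap f (low lam)) = _
      rw [SL2Ring.map_low]
      exact (Fusion.Dickson.scale_low (inv_ne_zero hl) _).trans (by rw [mul_inv_cancel₀ hl])
  have heven := Fusion.QuadSL2.even_card (p := p) (X := X) hl hu hd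
  obtain ⟨⟨g, hg⟩, hgo⟩ := exists_prime_orderOf_dvd_card' (G := gen F lam) 2
    (heven.two_dvd.trans (Subgroup.card_map_dvd _ _))
  rw [orderOf_eq_prime_iff] at hgo
  have hgg : g * g = 1 := by rw [← pow_two]; exact congrArg Subtype.val hgo.1
  have hinv : g.1 = (g⁻¹).1 := congrArg Subtype.val (inv_eq_of_mul_eq_one_right hgg).symm
  rw [Matrix.SpecialLinearGroup.coe_inv, Matrix.adjugate_fin_two] at hinv
  have e00 : g.1 0 0 = g.1 1 1 := by simpa using congrFun (congrFun hinv 0) 0
  have e01 : g.1 0 1 = 0 := h2R.mul_right_eq_zero.1 (by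
    have e : g.1 0 1 = -g.1 0 1 := by simpa using congrFun (congrFun hinv 0) 1
    linear_combination e)
  have e10 : g.1 1 0 = 0 := h2R.mul_right_eq_zero.1 (by
    have e : g.1 1 0 = -g.1 1 0 := by simpa using congrFun (congrFun hinv 1) 0
    linear_combination e)
  have hd2 := det2 g
  rw [e01, zero_mul, sub_zero, ← e00] at hd2
  refine ⟨g.1 0 0, g, hg, hd2, fun h => hgo.2 (Subtype.ext ?_), ?_⟩
  · show g = 1
    apply ext2 <;> simp [e01, e10, h, ← e00]
  · ext i j
    fin_cases i <;> fin_cases j <;> simp [e01, e10, ← e00]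

/-- Either a unipotent group, or an element acting as `-1` on an idempotent piece. -/
theorem unipotent_or_neg (h2 : (2 : F) ≠ 0) {x y : Module.End F V} (hx : x * x = 0) (hy : y * y = 0) :
    IsUnipotentOn (fams x y) ∨ ∃ e q : Module.End F V, ∃ i ∈ fams x y, e * e = e ∧ e ≠ 0 ∧ Commute e x ∧ Commute e y ∧
      Commute q x ∧ Commute q y ∧ Commute q e ∧ (x * y + y * x) * q * e = e ∧ (i : Module.End F V) = 1 - (e + e) := by
  classical
  by_cases hz : IsNilpotent (x * y + y * x)
  · exact Or.inl (unipotent_of_nilpotent hx hy hz)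
  refine Or.inr ?_
  obtain ⟨P, q, hcomm, hPP, hzq, hqP, n, hn⟩ := exists_fitting (k := F) (x * y + y * x)
  have czx : Commute (x * y + y * x) x := by
    show _ = _
    simp only [add_mul, mul_add, mul_assoc, hx, mul_zero, ← mul_assoc x x, zero_mul, add_zero, zero_add]
  have czy : Commute (x * y + y * x) y := by
    show _ = _
    simp only [add_mul, mul_add, mul_assoc, hy, mul_zero, ← mul_assoc y y, zero_mul, add_zero, zero_add]
  let D : Data F (Module.End F V) :=
    { x := x, y := y, P := P, q := q, hx := hx, hy := hy, hP := hPP,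
      hxP := (hcomm x czx).1, hyP := (hcomm y czy).1, hqx := (hcomm x czx).2, hqy := (hcomm y czy).2,
      hzq := hzq, hqP := hqP }
  have hP0 : P ≠ 0 := fun h => hz ⟨n, by simpa [h] using hn⟩
  haveI := D.finite
  haveI : Nontrivial D.R := ⟨⟨0, 1, fun h => hP0 (by
    have := congrArg D.ι h; rw [D.ι_zero, D.ι_one] at this; exact this.symm)⟩⟩
  haveI : Nontrivial V := by
    by_contra hV
    rw [not_nontrivial_iff_subsingleton] at hV
    exact hP0 (LinearMap.ext fun v => hV.elim _ _)
  obtain ⟨p, hp⟩ := CharP.exists F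
  haveI := hp
  haveI : Fact p.Prime := ⟨(CharP.char_is_prime_or_zero F p).resolve_right (CharP.char_ne_zero_of_finite F p)⟩
  have hp2 : p ≠ 2 := by
    rintro rfl
    exact h2 (by exact_mod_cast CharP.cast_eq_zero F 2)
  obtain ⟨H, hH⟩ : ∃ H, H = fams x y := ⟨_, rfl⟩
  have hHC : H ≤ centUnits P := by
    rw [hH, fams, Subgroup.closure_le]
    rintro g (⟨c, hc⟩ | ⟨c, hc⟩) <;> rw [SetLike.mem_coe, mem_centUnits, hc]
    · exact (Commute.one_right P).add_right (Commute.smul_right D.hxP c)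
    · exact (Commute.one_right P).add_right (Commute.smul_right D.hyP c)
  have hQ : (1 - P) * (1 - P) = 1 - P := by
    simp only [mul_sub, sub_mul, one_mul, mul_one, hPP]; abel
  have hcent : centUnits P = centUnits (1 - P) := by
    ext g
    simp only [mem_centUnits]
    exact ⟨fun h => (Commute.one_left _).sub_left h, fun h => by simpa using (Commute.one_left _).sub_left h⟩
  let π1 := corner (P := P) hPP
  let π0 : centUnits P →* LinearMap.GeneralLinearGroup F V :=
    (corner (P := 1 - P) hQ).comp (Subgroup.inclusion hcent.le)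
  let H' := H.subgroupOf (centUnits P)
  have hgenH : ∀ c : F, ∀ v, v = x ∨ v = y → ∃ g ∈ H, (g : Module.End F V) = 1 + c • v := by
    rintro c v (rfl | rfl) <;> rw [hH, fams]
    · exact ⟨unit1 (c • v) (by rw [smul_mul_smul_comm, hx, smul_zero]),
        Subgroup.subset_closure (Or.inl ⟨c, rfl⟩), rfl⟩
    · exact ⟨unit1 (c • v) (by rw [smul_mul_smul_comm, hy, smul_zero]),
        Subgroup.subset_closure (Or.inr ⟨c, rfl⟩), rfl⟩
  have hι1 : ∀ c : F, D.ι (algebraMap F D.R c) * x = c • (P * x) := fun c => by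
    rw [D.ι_algebraMap, smul_mul_assoc]
  have hι2 : ∀ c : F, D.ι (algebraMap F D.R c * D.lam) * (q * y) = c • (P * y) := fun c => by
    show _ = c • (D.P * y)
    have e : D.P * (D.z * D.P) = D.z * D.P := by
      rw [← mul_assoc, ← D.z_comm_P.eq, mul_assoc, D.hP]
    rw [D.ι_mul, D.ι_algebraMap, D.ι_lam, smul_mul_assoc, smul_mul_assoc, e, mul_assoc D.z,
      ← mul_assoc D.P q y, show D.P * q = q from (D.q_comm_P.eq).symm.trans D.hqP, ← mul_assoc,
      show D.z * q = D.P from hzq]
  have hlift : ∀ s ∈ gen F D.lam, ∃ h ∈ H', π1 h = D.Ψ s := by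
    suffices h : gen F D.lam ≤ (H'.map π1).comap D.Ψ from fun s hs => h hs
    rw [gen, Subgroup.closure_le]
    rintro _ (⟨c, rfl⟩ | ⟨c, rfl⟩)
    · obtain ⟨g, hg, e⟩ := hgenH c x (Or.inl rfl)
      refine ⟨⟨g, hHC hg⟩, hg, Units.ext ?_⟩
      show g.1 * P + (1 - P) = (D.Ψ (up _) : Module.End F V)
      rw [D.Ψ_up, hι1, e, add_mul, one_mul, smul_mul_assoc, ← D.hxP.eq]
      abel
    · obtain ⟨g, hg, e⟩ := hgenH c y (Or.inr rfl)
      refine ⟨⟨g, hHC hg⟩, hg, Units.ext ?_⟩
      show g.1 * P + (1 - P) = (D.Ψ (low _) : Module.End F V)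
      rw [D.Ψ_low, hι2, e, add_mul, one_mul, smul_mul_assoc, ← D.hyP.eq]
      abel
  have hx0 : ((1 - P) * x) * ((1 - P) * x) = 0 := by
    rw [mul_assoc, ← mul_assoc x, ← ((Commute.one_left x).sub_left D.hxP).eq, mul_assoc _ x, hx,
      mul_zero, mul_zero]
  have hy0 : ((1 - P) * y) * ((1 - P) * y) = 0 := by
    rw [mul_assoc, ← mul_assoc y, ← ((Commute.one_left y).sub_left D.hyP).eq, mul_assoc _ y, hy,
      mul_zero, mul_zero]
  have hz0 : IsNilpotent ((1 - P) * x * ((1 - P) * y) + (1 - P) * y * ((1 - P) * x)) := by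
    have e : (1 - P) * x * ((1 - P) * y) + (1 - P) * y * ((1 - P) * x) = (x * y + y * x) * (1 - P) := by
      have k : ∀ v w : Module.End F V, (1 - P) * v = v * (1 - P) → (1 - P) * w = w * (1 - P) →
          (1 - P) * v * ((1 - P) * w) = v * w * (1 - P) := fun v w hv hw => by
        rw [hv, mul_assoc v, ← mul_assoc _ (1 - P) w, hQ, hw, ← mul_assoc]
      have cx : (1 - P) * x = x * (1 - P) := ((Commute.one_left x).sub_left D.hxP).eq
      have cy : (1 - P) * y = y * (1 - P) := ((Commute.one_left y).sub_left D.hyP).eq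
      rw [k x y cx cy, k y x cy cx, ← add_mul]
    rw [e]
    refine ⟨n + 1, ?_⟩
    have hc : Commute (x * y + y * x) (1 - P) := (Commute.one_right _).sub_right D.z_comm_P
    rw [hc.mul_pow, pow_succ _ n, (IsIdempotentElem.pow_succ_eq n (hQ : IsIdempotentElem (1 - P))),
      mul_assoc, hc.eq, ← mul_assoc, hn, zero_mul]
  have hu0 : H'.map π0 ≤ fams ((1 - P) * x) ((1 - P) * y) := by
    rw [Subgroup.map_le_iff_le_comap]
    rintro ⟨g, hgC⟩ hg
    change g ∈ H at hg
    rw [Subgroup.mem_comap]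
    suffices ∀ g ∈ H, ∀ hgC : g ∈ centUnits P, π0 ⟨g, hgC⟩ ∈ fams ((1 - P) * x) ((1 - P) * y) from this g hg hgC
    clear hg hgC g
    intro g hg
    rw [hH, fams] at hg
    induction hg using Subgroup.closure_induction with
    | mem g hg =>
      intro hgC
      refine Subgroup.subset_closure ?_
      rcases hg with ⟨c, hc⟩ | ⟨c, hc⟩
      · refine Or.inl ⟨c, ?_⟩
        show g.1 * (1 - P) + (1 - (1 - P)) = _
        rw [hc, add_mul, one_mul, smul_mul_assoc, ← ((Commute.one_left x).sub_left D.hxP).eq]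
        abel
      · refine Or.inr ⟨c, ?_⟩
        show g.1 * (1 - P) + (1 - (1 - P)) = _
        rw [hc, add_mul, one_mul, smul_mul_assoc, ← ((Commute.one_left y).sub_left D.hyP).eq]
        abel
    | one =>
      intro h
      rw [show (⟨1, h⟩ : centUnits P) = 1 from rfl, map_one]
      exact one_mem _
    | mul g h hg hh ihg ihh =>
      intro hgh
      have a := hHC (hH ▸ hg : g ∈ H)
      have b := hHC (hH ▸ hh : h ∈ H)
      rw [show (⟨g * h, hgh⟩ : centUnits P) = ⟨g, a⟩ * ⟨h, b⟩ from rfl, map_mul]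
      exact mul_mem (ihg a) (ihh b)
    | inv g hg ih =>
      intro hgi
      have a := hHC (hH ▸ hg : g ∈ H)
      rw [show (⟨g⁻¹, hgi⟩ : centUnits P) = (⟨g, a⟩)⁻¹ from rfl, map_inv]
      exact inv_mem (ih a)
  have hpg := isPGroup_of_unipotent p (unipotent_of_nilpotent hx0 hy0 hz0)
  obtain ⟨a, s, hs, ha, ha1, hsa⟩ := exists_neg h2 D.lam_unit
  obtain ⟨h, hh, e1⟩ := hlift s hs
  obtain ⟨m, hm⟩ := hpg ⟨π0 h, hu0 ⟨h, hh, rfl⟩⟩
  have hm0 : π0 (h ^ p ^ m) = 1 := by rw [map_pow]; exact congrArg Subtype.val hm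
  have hm1 : π1 (h ^ p ^ m) = D.Ψ s := by
    have hs2 : s * s = 1 := Subtype.ext (by
      rw [Matrix.SpecialLinearGroup.coe_mul, hsa, Matrix.SpecialLinearGroup.coe_one]
      ext i j
      fin_cases i <;> fin_cases j <;> simp [Matrix.mul_apply, ha])
    obtain ⟨j, hj⟩ := ((Fact.out : p.Prime).odd_of_ne_two hp2).pow (n := m)
    rw [map_pow, e1, ← map_pow, hj, pow_succ, pow_mul, pow_two, hs2, one_pow, one_mul]
  -- the idempotent
  have h2R : (algebraMap F D.R (2 : F)⁻¹) * 2 = 1 := by
    rw [← map_ofNat (algebraMap F D.R) 2, ← map_mul, inv_mul_cancel₀ h2, map_one]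
  set r := algebraMap F D.R (2 : F)⁻¹ * (1 - a) with hr
  have hrr : r * r = r := by
    rw [hr]
    linear_combination (algebraMap F D.R (2 : F)⁻¹) ^ 2 * ha + algebraMap F D.R (2 : F)⁻¹ * (1 - a) * h2R
  have hr2 : r + r = 1 - a := by rw [hr]; linear_combination (1 - a) * h2R
  have hr0 : r ≠ 0 := fun h => ha1 (by linear_combination (-2 : D.R) * h + hr2)
  have hPr : P * D.ι r = D.ι r := by
    show D.P * D.ι r = D.ι r
    rw [← D.ι_one, ← D.ι_mul, one_mul]
  refine ⟨D.ι r, q, (h ^ p ^ m).1, ?_, by rw [← D.ι_mul, hrr], fun h => hr0 (D.ι_injective (h.trans D.ι_zero.symm)),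
    D.ι_comm D.z_comm_x D.hxP r, D.ι_comm D.z_comm_y D.hyP r, D.hqx, D.hqy,
    (D.ι_comm (((D.hqx.mul_right D.hqy).add_right (D.hqy.mul_right D.hqx) : Commute D.q D.z)).symm D.q_comm_P.symm r).symm,
    by rw [hzq, hPr], ?_⟩
  · rw [← hH]
    exact (H'.pow_mem hh (p ^ m) : h ^ p ^ m ∈ H')
  · have e0 : ((h ^ p ^ m).1 : Module.End F V) * (1 - P) + (1 - (1 - P)) = 1 := congrArg Units.val hm0
    have e2 : ((h ^ p ^ m).1 : Module.End F V) * P + (1 - P) = D.φ s.1 + (1 - P) := congrArg Units.val hm1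
    have hφ : D.φ s.1 = D.ι a := by
      rw [hsa]
      simp only [Data.φ, Matrix.smul_apply, Matrix.one_apply_eq, Matrix.one_apply_ne, ne_eq, zero_ne_one, one_ne_zero,
        not_false_eq_true, smul_eq_mul, mul_one, mul_zero, D.ι_zero, zero_mul, add_zero]
      rw [← mul_add, D.e_add_f, ← D.ι_one, ← D.ι_mul, mul_one]
    have e3 : D.ι r + D.ι r = P - D.ι a := by
      rw [← D.ι_add, hr2, sub_eq_add_neg, D.ι_add, D.ι_neg, D.ι_one, ← sub_eq_add_neg]
    rw [mul_sub, mul_one] at e0
    rw [hφ] at e2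
    rw [e3]
    linear_combination (norm := abel) e0 + e2

end CfsgLib.Classical.TensorMaxO.Pair
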