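import Cfsg.Agent.Lib.Classical.TensorMaxO.Normal

/-!
# Totally singular planes of the larger factor
-/

set_option autoImplicit false
set_option linter.unusedSectionVars false

namespace CfsgLib.Classical.TensorMaxO

open Matrix Module QuadraticMap CfsgLib.Orth CfsgLib.Classical

variable {F : Type*} [Field F] [Fintype F] {V : Type*} [AddCommGroup V] [Module F V] [FiniteDimensional F V]
  {Q : QuadraticForm F V}

/-- A totally singular plane meets a given three-space trivially. -/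
theorem exists_plane_avoid (hQ : (polarBilin Q).Nondegenerate) (h2 : (2 : F) ≠ 0) (hn : 5 ≤ finrank F V)
    {X : Submodule F V} (hX : finrank F X = 3) :
    ∃ c y : V, c ≠ 0 ∧ Q c = 0 ∧ Q y = 0 ∧ polar Q c y = 0 ∧ y ∉ F ∙ c ∧
      ∀ s t : F, s • c + t • y ∈ X → s = 0 ∧ t = 0 := by
  obtain ⟨x₀, hx₀X, hx₀⟩ := Submodule.exists_mem_ne_zero_of_ne_bot (p := X) fun h => by
    rw [h, finrank_bot] at hX; omega
  obtain ⟨c₁, hc₁, hc₁X⟩ : ∃ c, Q c = 0 ∧ c ∉ X := by
    by_contra! hall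
    have hz : X.mkQ = 0 := eq_zero_of_singular_top hQ h2 X.mkQ (by omega) fun s hs =>
      (Submodule.Quotient.mk_eq_zero X).2 (hall s hs)
    have hle : (⊤ : Submodule F V) ≤ X := fun v _ =>
      (Submodule.Quotient.mk_eq_zero X).1 (LinearMap.congr_fun hz v)
    have := Submodule.finrank_mono hle
    rw [finrank_top] at this
    omega
  obtain ⟨c, hc, hcX, x, hxX, hcx⟩ : ∃ c, Q c = 0 ∧ c ∉ X ∧ ∃ x ∈ X, polar Q c x ≠ 0 := by
    by_cases h : ∃ x ∈ X, polar Q c₁ x ≠ 0
    · exact ⟨c₁, hc₁, hc₁X, h⟩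
    push Not at h
    obtain ⟨c₂, hc₂, hc₂x⟩ := exists_singular_polar_ne hQ h2 (by omega) hx₀
    by_cases hc₂X : c₂ ∈ X
    · refine ⟨c₁ + c₂, ?_, fun hmem => hc₁X ?_, x₀, hx₀X, ?_⟩
      · rw [quad_add', hc₁, hc₂, h c₂ hc₂X]; ring
      · simpa using X.sub_mem hmem hc₂X
      · rwa [polar_add_left, h x₀ hx₀X, zero_add]
    · exact ⟨c₂, hc₂, hc₂X, x₀, hx₀X, hc₂x⟩
  have hc0 : c ≠ 0 := fun e => hcX (by rw [e]; exact X.zero_mem)
  set X₁ := X ⊓ LinearMap.ker (polarBilin Q c)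
  have hX₁ : finrank F X₁ ≤ 2 := by
    have hlt : X₁ < X := lt_of_le_of_ne inf_le_left fun e => hcx (by
      have : x ∈ X₁ := e ▸ hxX
      exact this.2)
    have := Submodule.finrank_lt_finrank_of_lt hlt
    omega
  set X₂ := X₁ ⊔ F ∙ c
  obtain ⟨y, hcy, hy, hyX⟩ : ∃ y, polar Q c y = 0 ∧ Q y = 0 ∧ y ∉ X₂ := by
    by_contra! hall
    have hle : LinearMap.ker (polarBilin Q c) ≤ X₂ := fun v hv => (Submodule.Quotient.mk_eq_zero X₂).1
      (eq_zero_of_singular_perp hQ h2 X₂.mkQ hn hc0 (fun s h1 h2' => (Submodule.Quotient.mk_eq_zero X₂).2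
        (hall s h1 h2')) hv)
    have h1 := Submodule.finrank_mono hle
    have h2' := finrank_kerPolar (Q := Q) c
    have h3 := Submodule.finrank_add_le_finrank_add_finrank X₁ (F ∙ c)
    rw [finrank_span_singleton hc0] at h3
    have h4 : finrank F X₂ = finrank F ↥(X₁ ⊔ F ∙ c) := rfl
    omega
  refine ⟨c, y, hc0, hc, hy, hcy, fun hmem => hyX (Submodule.mem_sup_right hmem), fun s t hst => ?_⟩
  have h1 : s • c + t • y ∈ X₁ := ⟨hst, by
    show polar Q c (s • c + t • y) = 0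
    rw [polar_add_right, polar_smul_r', polar_smul_r', polar_self', hc, hcy]; ring⟩
  have ht : t = 0 := by
    by_contra ht
    apply hyX
    have h2 : t • y ∈ X₂ := by
      have := X₂.sub_mem (Submodule.mem_sup_left h1)
        (Submodule.mem_sup_right (Submodule.smul_mem _ s (Submodule.mem_span_singleton_self c)))
      simpa using this
    exact (Submodule.smul_mem_iff _ ht).1 h2
  refine ⟨?_, ht⟩
  by_contra hs
  rw [ht, zero_smul, add_zero] at hst
  exact hcX ((Submodule.smul_mem_iff _ hs).1 hst)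

end CfsgLib.Classical.TensorMaxO
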