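import Cfsg.Agent.Lib.Classical.TensorMaxO.Basic

/-!
# Elements of the radical of a slice

`El M c T` says that `M` has an element fixing `u ⊗ c` and mapping `u ⊗ y` to `u ⊗ y + T y u ⊗ c` for `y ⊥ c`.
`Centre M c S` says that `M` has the element `X ↦ X + S q ⊗ c`, with `q` the pairing of `X` with `c`.
-/

set_option autoImplicit false
set_option linter.unusedSectionVars false

namespace CfsgLib.Classical.TensorMaxO

open Matrix Module QuadraticMap CfsgLib.Orth CfsgLib.Classical
open CfsgLib.Classical.TensorMaxU (sl2)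

variable {F : Type*} [Field F] [Fintype F] {a b : ℕ} {Q : QuadraticForm F (Matrix (Fin a) (Fin b) F)}
  {qf : QuadraticForm F (Fin a → F)} {qh : QuadraticForm F (Fin b → F)} {M : Subgroup (orthGroup Q)}
  {c : Fin b → F}

/-- An element of the radical of the slice at `c`. -/
def El (M : Subgroup (orthGroup Q)) (qh : QuadraticForm F (Fin b → F)) (c : Fin b → F)
    (T : (Fin b → F) →ₗ[F] (Fin a → F) →ₗ[F] (Fin a → F)) : Prop :=
  ∃ z ∈ M, (∀ u, z.1 (vecMulVec u c) = vecMulVec u c) ∧
    ∀ u y, polar qh c y = 0 → z.1 (vecMulVec u y) = vecMulVec u y + vecMulVec (T y u) c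

/-- An element of the centre of that radical. -/
def Centre (M : Subgroup (orthGroup Q)) (qh : QuadraticForm F (Fin b → F)) (c : Fin b → F)
    (S : (Fin a → F) →ₗ[F] (Fin a → F)) : Prop :=
  ∃ w ∈ M, ∀ X, w.1 X = X + vecMulVec (S (ct a qh c X)) c

variable {T T₁ : (Fin b → F) →ₗ[F] (Fin a → F) →ₗ[F] (Fin a → F)} {S S₁ : (Fin a → F) →ₗ[F] (Fin a → F)}

theorem El.congr (e : El M qh c T) (h : ∀ y, polar qh c y = 0 → T₁ y = T y) : El M qh c T₁ := by
  obtain ⟨z, hz, hzc, hzy⟩ := e
  exact ⟨z, hz, hzc, fun u y hy => by rw [h y hy, hzy u y hy]⟩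

theorem El.add (e : El M qh c T) (e₁ : El M qh c T₁) : El M qh c (T + T₁) := by
  obtain ⟨z, hz, hzc, hzy⟩ := e
  obtain ⟨z₁, hz₁, hzc₁, hzy₁⟩ := e₁
  refine ⟨z * z₁, M.mul_mem hz hz₁, fun u => by rw [mul_apply', hzc₁, hzc], fun u y hy => ?_⟩
  rw [mul_apply', hzy₁ u y hy, map_add, hzy u y hy, hzc, LinearMap.add_apply, LinearMap.add_apply, add_vecMulVec]
  abel

theorem El.neg (e : El M qh c T) : El M qh c (-T) := by
  obtain ⟨z, hz, hzc, hzy⟩ := e
  refine ⟨z⁻¹, M.inv_mem hz, fun u => z.1.injective ?_, fun u y hy => z.1.injective ?_⟩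
  · rw [Orth.inv_apply, hzc]
  · rw [Orth.inv_apply, map_add, hzy u y hy, hzc, LinearMap.neg_apply, LinearMap.neg_apply, neg_vecMulVec]
    abel

theorem El.sub (e : El M qh c T) (e₁ : El M qh c T₁) : El M qh c (T - T₁) := by
  exact (e.add e₁.neg).congr fun y _ => LinearMap.ext fun u => by simp [sub_eq_add_neg]

theorem Centre.add (hc : qh c = 0) (e : Centre M qh c S) (e₁ : Centre M qh c S₁) : Centre M qh c (S + S₁) := by
  obtain ⟨z, hz, hX⟩ := e
  obtain ⟨z₁, hz₁, hX₁⟩ := e₁
  refine ⟨z * z₁, M.mul_mem hz hz₁, fun X => ?_⟩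
  rw [mul_apply', hX, hX₁, map_add, ct_vecMulVec, polar_self', hc, mul_zero, zero_smul, add_zero,
    LinearMap.add_apply, add_vecMulVec]
  abel

theorem Centre.neg (hc : qh c = 0) (e : Centre M qh c S) : Centre M qh c (-S) := by
  obtain ⟨z, hz, hX⟩ := e
  refine ⟨z⁻¹, M.inv_mem hz, fun X => z.1.injective ?_⟩
  rw [Orth.inv_apply, hX, map_add, ct_vecMulVec, polar_self', hc, mul_zero, zero_smul, add_zero,
    LinearMap.neg_apply, neg_vecMulVec]
  abel

theorem Centre.sub (hc : qh c = 0) (e : Centre M qh c S) (e₁ : Centre M qh c S₁) : Centre M qh c (S - S₁) := by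
  rw [sub_eq_add_neg]
  exact e.add hc (e₁.neg hc)

/-- A Siegel element, an inverse and their effect. -/
theorem siegel_pair {V : Type*} [AddCommGroup V] [Module F V] [FiniteDimensional F V] {q : QuadraticForm F V}
    {g k : orthGroup q} {d u : V} (hg : IsSiegel g d u) (hk : IsSiegel k d (-u)) : g⁻¹ = k := by
  refine inv_eq_of_mul_eq_one_right ?_
  have e := hg.mul hk
  rw [add_neg_cancel] at e
  exact e.unique (isSiegel_one hg.1)

/-- The second difference of the conjugates of an endomorphism by a Siegel element. -/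
theorem second_diff {V : Type*} [AddCommGroup V] [Module F V] {q : QuadraticForm F V} {A A' : orthGroup q} {u z : V}
    (hA : IsSiegel A u z) (hA' : IsSiegel A' u (-z)) (P : V →ₗ[F] V) (x : V) :
    A.1 (P (A'.1 x)) + A'.1 (P (A.1 x)) - (2 : F) • P x = (2 : F) •
      ((-(q z * polar q u (P x))) • u - (q z * polar q u x) • P u + (q z * q z * polar q u x * polar q u (P u)) • u -
        ((polar q u x * polar q u (P z) - polar q z x * polar q u (P u)) • z -
          (polar q u x * polar q z (P z) - polar q z x * polar q z (P u)) • u)) := by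
  simp only [hA.2.2, hA'.2.2, map_add, map_smul, QuadraticMap.map_neg, polar_neg_left, map_neg, polar_add_right,
    polar_smul_r', polar_neg_right]
  module

namespace Model

variable {hm : Model Q qf qh} (hF : ContainsFactors hm M)
include hF

/-- Conjugation by the first factor. -/
theorem el_col {A : orthGroup qf} (hA : A ∈ commutator (orthGroup qf)) (e : El M qh c T)
    {T' : (Fin b → F) →ₗ[F] (Fin a → F) →ₗ[F] (Fin a → F)}
    (h : ∀ y x, polar qh c y = 0 → T' y x = A.1 (T y ((A⁻¹).1 x))) : El M qh c T' := by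
  obtain ⟨z, hz, hzc, hzy⟩ := e
  refine ⟨hm.col A * z * hm.col A⁻¹, M.mul_mem (M.mul_mem (hF.col A hA) hz) (hF.col _ (inv_mem hA)),
    fun u => ?_, fun u y hy => ?_⟩
  · rw [mul_apply', mul_apply', hm.col_pure, hzc, hm.col_pure, Orth.inv_apply]
  · rw [mul_apply', mul_apply', hm.col_pure, hzy _ y hy, map_add, hm.col_pure, hm.col_pure, Orth.inv_apply, h y u hy]

/-- Conjugation by the second factor. -/
theorem el_row {C : orthGroup qh} (hC : C ∈ commutator (orthGroup qh)) {l : F} (hl : l ≠ 0) (hCc : C.1 c = l • c)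
    (e : El M qh c T) {T' : (Fin b → F) →ₗ[F] (Fin a → F) →ₗ[F] (Fin a → F)}
    (h : ∀ y, polar qh c y = 0 → T' y = l • T ((C⁻¹).1 y)) : El M qh c T' := by
  obtain ⟨z, hz, hzc, hzy⟩ := e
  have hCi : (C⁻¹).1 c = l⁻¹ • c := C.1.injective (by
    rw [Orth.inv_apply, map_smul, hCc, smul_smul, inv_mul_cancel₀ hl, one_smul])
  refine ⟨hm.row C * z * hm.row C⁻¹, M.mul_mem (M.mul_mem (hF.row C hC) hz) (hF.row _ (inv_mem hC)),
    fun u => ?_, fun u y hy => ?_⟩
  · rw [mul_apply', mul_apply', hm.row_pure, hCi, vecMulVec_smul, map_smul, hzc, map_smul, hm.row_pure, hCc,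
      vecMulVec_smul, smul_smul, inv_mul_cancel₀ hl, one_smul]
  · have hy' : polar qh c ((C⁻¹).1 y) = 0 := by
      rw [← polar_isom C, Orth.inv_apply, hCc, polar_smul_l', hy, mul_zero]
    rw [mul_apply', mul_apply', hm.row_pure, hzy _ _ hy', map_add, hm.row_pure, hm.row_pure, Orth.inv_apply, hCc,
      h y hy, LinearMap.smul_apply, vecMulVec_smul, smul_vecMulVec]

/-- A Siegel element of the second factor is in the radical. -/
theorem el_siegel {r : Fin b → F} (hcr : polar qh c r = 0) (hc : qh c = 0) :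
    El M qh c ((polarBilin qh (-r)).smulRight (LinearMap.id : (Fin a → F) →ₗ[F] (Fin a → F))) := by
  obtain ⟨C, hC⟩ := exists_isSiegel hm.ndh hc hcr
  refine ⟨hm.row C, hF.row_siegel hC, fun u => ?_, fun u y hy => ?_⟩
  · rw [hm.row_pure, hC.2.2, polar_self', hc, polar_comm _ r c, hcr]
    simp
  · rw [hm.row_pure, hC.2.2, hy, zero_smul, add_zero, mul_zero, sub_zero, LinearMap.smulRight_apply,
      LinearMap.smul_apply, LinearMap.id_apply, QuadraticMap.polarBilin_apply_apply, polar_neg_left, vecMulVec_add,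
      vecMulVec_smul, smul_vecMulVec]

/-- Scaling by squares, hence by all scalars. -/
theorem el_smul (hc0 : c ≠ 0) (hc : qh c = 0) (e : El M qh c T) (t : F) : El M qh c (t • T) := by
  have hsq : ∀ s : F, s ≠ 0 → El M qh c ((s * s) • T) := by
    intro s hs
    obtain ⟨d, hd, hcd⟩ := exists_partner hm.ndh hc hc0
    have hdc : polar qh d c = 1 := by rw [polar_comm]; exact hcd
    set R : F → orthGroup qh := fun r => refl qh (c + r • d)
    have hQ : ∀ r, qh (c + r • d) = r := fun r => by
      rw [quad_add', quad_smul', polar_smul_r', hc, hd, hcd]; ring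
    have hR : ∀ r, r ≠ 0 → (R r).1 c = (-r) • d ∧ (R r).1 d = (-r⁻¹) • c := fun r hr => by
      refine ⟨?_, ?_⟩ <;>
      · rw [refl_apply, hQ]
        simp only [polar_add_left, polar_smul_l', polar_self', hc, hd, hcd, hdc]
        match_scalars <;> field_simp <;> ring
    set C := R (s⁻¹) * R 1
    have hCc : C.1 c = s • c := by
      show (R s⁻¹).1 ((R 1).1 c) = s • c
      rw [(hR 1 one_ne_zero).1, map_smul, (hR s⁻¹ (inv_ne_zero hs)).2, smul_smul]
      congr 1
      field_simp
    have hfix : ∀ y, polar qh c y = 0 → polar qh d y = 0 → C.1 y = y := fun y hy hy' => by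
      have h0 : ∀ r, polar qh (c + r • d) y = 0 := fun r => by
        rw [polar_add_left, polar_smul_l', hy, hy']; ring
      show (R s⁻¹).1 ((R 1).1 y) = y
      rw [refl_fix qh (h0 _), refl_fix qh (h0 _)]
    refine el_row hF (sq_mem_commutator hm.ndh hm.two C) (mul_ne_zero hs hs) (by
      show C.1 (C.1 c) = _
      rw [hCc, map_smul, hCc, smul_smul]) e (fun y hy => ?_)
    obtain ⟨z, -, hzc, hzy⟩ := e
    have hTc : T c = 0 := LinearMap.ext fun u => by
      have h1 := hzy u c (by rw [polar_self', hc, mul_zero])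
      rw [hzc, left_eq_add, TensorMax.vecMulVec_eq_zero_iff'] at h1
      exact h1.resolve_right hc0
    have hy0 : polar qh c (y - polar qh d y • c) = 0 := by
      rw [polar_sub_right, polar_smul_r', hy, polar_self', hc]; ring
    have hy1 : polar qh d (y - polar qh d y • c) = 0 := by
      rw [polar_sub_right, polar_smul_r', hdc, mul_one, sub_self]
    have e1 : (C * C).1 ((y - polar qh d y • c) + (polar qh d y * (s * s)⁻¹) • c) = y := by
      show C.1 (C.1 _) = y
      rw [map_add, map_smul, hfix _ hy0 hy1, hCc, map_add, map_smul, hfix _ hy0 hy1, map_smul, hCc, smul_smul,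
        smul_smul]
      rw [show polar qh d y * (s * s)⁻¹ * s * s = polar qh d y from by field_simp, sub_add_cancel]
    rw [show ((C * C)⁻¹).1 y = (y - polar qh d y • c) + (polar qh d y * (s * s)⁻¹) • c from
      (C * C).1.injective (by rw [Orth.inv_apply, e1]), map_add, map_sub, map_smul, map_smul, hTc]
    simp [LinearMap.smul_apply]
  have hsq' : ∀ s : F, El M qh c ((s * s) • T) := fun s => by
    rcases eq_or_ne s 0 with rfl | hs
    · exact (e.sub e).congr fun y _ => by simp
    · exact hsq s hs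
  refine ((hsq' ((t + 1) / 2)).sub (hsq' ((t - 1) / 2))).congr fun y _ => ?_
  simp only [LinearMap.smul_apply, LinearMap.sub_apply]
  rw [← sub_smul]
  congr 1
  field_simp [hm.two]
  ring

/-- One parameter. -/
theorem el_rank_one (hb : 5 ≤ b) (hc0 : c ≠ 0) (hc : qh c = 0) (e : El M qh c T) {r : Fin b → F} (hr : qh r = 0)
    (hcr : polar qh c r = 0) : El M qh c ((polarBilin qh r).smulRight (T r)) := by
  obtain ⟨γ, hγ, hqγ⟩ := exists_anisotropic_in hm.ndh
    (S := LinearMap.ker (polarBilin qh c) ⊓ LinearMap.ker (polarBilin qh r))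
    (by
      have := finrank_kerPolar (Q := qh) c
      have := finrank_perp_vec (Q := qh) (S := LinearMap.ker (polarBilin qh c)) r
      rw [finrank_fin_fun] at *; omega)
  obtain ⟨hcγ, hrγ⟩ := hγ
  rw [SetLike.mem_coe, mem_ker_polar] at hcγ hrγ
  obtain ⟨C, hC⟩ := exists_isSiegel hm.ndh hr hrγ
  obtain ⟨C', hC'⟩ := exists_isSiegel hm.ndh hr (show polar qh r (-γ) = 0 by rw [polar_neg_right, hrγ, neg_zero])
  have hCc : ∀ {C : orthGroup qh} {γ}, IsSiegel C r γ → polar qh c γ = 0 → C.1 c = (1 : F) • c := fun hC hcγ => by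
    rw [hC.2.2, polar_comm _ r c, hcr, polar_comm _ _ c, hcγ]
    simp
  have h1 := el_row hF (siegel_mem_commutator hm.ndh hm.two hC) one_ne_zero (hCc hC hcγ) e
    (T' := T ∘ₗ C'.1.toLinearMap) fun y _ => by rw [one_smul, siegel_pair hC hC']; rfl
  have h2 := el_row hF (siegel_mem_commutator hm.ndh hm.two hC') one_ne_zero
    (hCc hC' (by rw [polar_neg_right, hcγ, neg_zero])) e
    (T' := T ∘ₗ C.1.toLinearMap) fun y _ => by rw [one_smul, siegel_pair hC' (by rwa [neg_neg])]; rfl
  have h3 := el_smul hF hc0 hc (((h1.sub e).add h2).sub e) (-(2 * qh γ)⁻¹)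
  refine h3.congr fun y _ => ?_
  rw [LinearMap.smul_apply, LinearMap.sub_apply, LinearMap.add_apply, LinearMap.sub_apply, LinearMap.comp_apply,
    LinearMap.comp_apply, LinearEquiv.coe_coe, LinearEquiv.coe_coe, hC.2.2, hC'.2.2, LinearMap.smulRight_apply,
    QuadraticMap.polarBilin_apply_apply]
  simp only [QuadraticMap.map_neg, polar_neg_left, map_add, map_smul, map_neg]
  have h2' : (2 : F) * qh γ ≠ 0 := mul_ne_zero hm.two hqγ
  have h2'' := hm.two
  match_scalars <;> field_simp <;> ring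

/-- The commutator of two elements of rank one is central. -/
theorem centre_of_el {d r r' : Fin b → F} (hd : qh d = 0) (hcd : polar qh c d = 1) (hc : qh c = 0)
    (hcr : polar qh c r = 0) (hcr' : polar qh c r' = 0)
    {P P' P₁ P₁' : (Fin a → F) →ₗ[F] (Fin a → F)} (hP : ∀ u x, polar qf (P' u) x = polar qf u (P x))
    (hP₁ : ∀ u x, polar qf (P₁' u) x = polar qf u (P₁ x))
    (e : El M qh c ((polarBilin qh r).smulRight P)) (e₁ : El M qh c ((polarBilin qh r').smulRight P₁)) :
    Centre M qh c (polar qh r r' • (P₁ ∘ₗ P' - P ∘ₗ P₁')) := by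
  have form : ∀ {z : orthGroup Q} {r : Fin b → F} {P P' : (Fin a → F) →ₗ[F] (Fin a → F)}, polar qh c r = 0 →
      (∀ u x, polar qf (P' u) x = polar qf u (P x)) → (∀ u, z.1 (vecMulVec u c) = vecMulVec u c) →
      (∀ u y, polar qh c y = 0 → z.1 (vecMulVec u y) = vecMulVec u y + vecMulVec (polar qh r y • P u) c) →
      ∀ u, ∃ β : Fin a → F, z.1 (vecMulVec u d) = vecMulVec u d - vecMulVec (P' u) r + vecMulVec β c := by
    intro z r P P' hcr hP hzc hzy u
    set N := z.1 (vecMulVec u d) - vecMulVec u d + vecMulVec (P' u) r with hN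
    have hrow : ∀ i, N i ∈ F ∙ c := fun i => mem_span_of_perp hm.ndh hm.two fun y hy => by
      have h0 : ct a qh y N = 0 := hm.eq_of_forall fun x => by
        have e1 := polar_isom z (vecMulVec x y) (vecMulVec u d)
        rw [hzy x y hy, polar_add_left, hm.pol_left] at e1
        have e2 := polar_isom z (vecMulVec (polar qh r y • P x) c) (vecMulVec u d)
        rw [hzc, hm.pol _ u c d, hcd, mul_one] at e2
        rw [e2, hm.pol, polar_smul_l', polar_comm _ (P x) u, ← hP] at e1
        rw [hN, map_add, map_sub, ct_vecMulVec, ct_vecMulVec, polar_add_right, polar_sub_right, polar_smul_r',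
          polar_smul_r', polar_zero_right, polar_comm _ y r, polar_comm _ x (P' u)]
        linear_combination e1
      exact congrFun h0 i
    choose β hβ using fun i => Submodule.mem_span_singleton.1 (hrow i)
    refine ⟨β, ?_⟩
    rw [show vecMulVec β c = N from funext fun i => by rw [TensorMaxU.vecMulVec_row]; exact hβ i, hN]
    abel
  obtain ⟨z, hz, hzc, hzy⟩ := e
  obtain ⟨z', hz', hzc', hzy'⟩ := e₁
  simp only [LinearMap.smulRight_apply, LinearMap.smul_apply, QuadraticMap.polarBilin_apply_apply] at hzy hzy'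
  refine ⟨z * z' * (z' * z)⁻¹, M.mul_mem (M.mul_mem hz hz') (M.inv_mem (M.mul_mem hz' hz)), ?_⟩
  set w := z * z' * (z' * z)⁻¹ with hw
  have hwE : ∀ X, w.1 (z'.1 (z.1 X)) = z.1 (z'.1 X) := fun X => by
    show (z * z').1 (((z' * z)⁻¹).1 ((z' * z).1 X)) = _
    rw [show ((z' * z)⁻¹).1 ((z' * z).1 X) = X from (z' * z).1.symm_apply_apply X]
    rfl
  have hwc : ∀ u, w.1 (vecMulVec u c) = vecMulVec u c := fun u => by
    have e := hwE (vecMulVec u c)
    rwa [hzc, hzc', hzc] at e
  have hwy : ∀ u y, polar qh c y = 0 → w.1 (vecMulVec u y) = vecMulVec u y := fun u y hy => by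
    have e := hwE (vecMulVec u y)
    rw [hzy u y hy, map_add, hzy' u y hy, hzc', map_add, map_add, hwc, hwc, map_add, hzc, hzy u y hy] at e
    linear_combination (norm := module) e
  have hwd : ∀ u, w.1 (vecMulVec u d) =
      vecMulVec u d + vecMulVec ((polar qh r r' • (P₁ ∘ₗ P' - P ∘ₗ P₁')) u) c := fun u => by
    obtain ⟨β, hβ⟩ := form hcr hP hzc hzy u
    obtain ⟨β', hβ'⟩ := form hcr' hP₁ hzc' hzy' u
    have e := hwE (vecMulVec u d)
    simp only [hβ, hβ', map_add, map_sub, hzc, hzc', hzy _ _ hcr', hzy' _ _ hcr, hwc, hwy _ _ hcr, hwy _ _ hcr'] at e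
    rw [LinearMap.smul_apply, LinearMap.sub_apply, LinearMap.comp_apply, LinearMap.comp_apply, smul_sub, sub_vecMulVec]
    rw [polar_comm _ r' r] at e
    linear_combination (norm := module) e
  refine fun X => LinearMap.congr_fun (ext_pure (φ := w.1.toLinearMap)
    (ψ := LinearMap.id + sl2 a c ∘ₗ (polar qh r r' • (P₁ ∘ₗ P' - P ∘ₗ P₁')) ∘ₗ ct a qh c) fun u y => ?_) X
  rw [show y = (y - polar qh c y • d) + polar qh c y • d by abel, vecMulVec_add, map_add, map_add, vecMulVec_smul,
    map_smul, map_smul, LinearEquiv.coe_coe, hwy _ _ (by rw [polar_sub_right, polar_smul_r', hcd, mul_one, sub_self]),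
    hwd]
  simp only [LinearMap.add_apply, LinearMap.id_apply, LinearMap.comp_apply, ct_vecMulVec, polar_sub_right, polar_smul_r',
    hcd, mul_one, sub_self, zero_smul, map_zero, add_zero, one_smul]
  rfl

theorem centre_col {A : orthGroup qf} (hA : A ∈ commutator (orthGroup qf)) (e : Centre M qh c S) :
    Centre M qh c (A.1.toLinearMap ∘ₗ S ∘ₗ (A⁻¹).1.toLinearMap) := by
  obtain ⟨z, hz, hX⟩ := e
  refine ⟨hm.col A * z * hm.col A⁻¹, M.mul_mem (M.mul_mem (hF.col A hA) hz) (hF.col _ (inv_mem hA)), fun X => ?_⟩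
  have eX : (hm.col A).1 ((hm.col A⁻¹).1 X) = X := by
    rw [← mul_apply', ← map_mul, mul_inv_cancel, map_one]; rfl
  rw [mul_apply', mul_apply', hX, map_add, eX, hm.col_pure, hm.ct_col]
  rfl

end Model

end CfsgLib.Classical.TensorMaxO
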