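import Cfsg.Agent.Lib.Classical.TensorMaxO.Base

/-!
# Negated row reflections in the commutator subgroup
-/

set_option autoImplicit false
set_option linter.unusedSectionVars false

namespace CfsgLib.Classical.TensorMaxO

open Matrix Module QuadraticMap CfsgLib.Orth CfsgLib.Classical
open CfsgLib.Classical.TensorMax (IsTensor)
open CfsgLib.Classical.TensorMaxU (sl2)

variable {F : Type*} [Field F] {a b : ℕ} {Q : QuadraticForm F (Matrix (Fin a) (Fin b) F)}
  {qf : QuadraticForm F (Fin a → F)} {qh : QuadraticForm F (Fin b → F)}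

namespace Model

variable (hm : Model Q qf qh)
include hm

/-- An orthogonal basis of the first factor. -/
theorem exists_orth_basis : ∃ e : Basis (Fin a) F (Fin a → F),
    (∀ i, qf (e i) ≠ 0) ∧ ∀ i j, i ≠ j → polar qf (e i) (e j) = 0 := by
  haveI : Invertible (2 : F) := invertibleOfNonzero hm.two
  obtain ⟨v, hv⟩ := LinearMap.BilinForm.exists_orthogonal_basis (B := polarBilin qf)
    ⟨fun x y => by simpa using polar_comm qf x y⟩
  refine ⟨v.reindex (finCongr (by rw [finrank_fin_fun])), fun i h => ?_, fun i j hij => ?_⟩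
  · rw [Basis.reindex_apply] at h
    exact LinearMap.BilinForm.iIsOrtho.not_isOrtho_basis_self_of_nondegenerate hv hm.ndf _
      (show polarBilin qf (v _) (v _) = 0 by rw [QuadraticMap.polarBilin_apply_apply, polar_self', h, mul_zero])
  · simp only [Basis.reindex_apply]
    exact hv ((Equiv.injective _).ne hij)

/-- The reflections making up a row reflection. -/
theorem prod_refl_apply (e : Basis (Fin a) F (Fin a → F)) (he : ∀ i, qf (e i) ≠ 0)
    (heo : ∀ i j, i ≠ j → polar qf (e i) (e j) = 0) {v : Fin b → F} (hv : qh v ≠ 0) :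
    ∀ (I : List (Fin a)), I.Nodup → ∀ j w,
      ((I.map fun i => refl Q (vecMulVec (e i) v)).prod).1 (vecMulVec (e j) w) =
        vecMulVec (e j) (if j ∈ I then (refl qh v).1 w else w)
  | [], _, j, w => by simp
  | i :: I, hI, j, w => by
    rw [List.nodup_cons] at hI
    rw [List.map_cons, List.prod_cons, mul_apply', prod_refl_apply e he heo hv I hI.2]
    by_cases hij : i = j
    · subst hij
      rw [if_neg hI.1, if_pos List.mem_cons_self, refl_apply, hm.pol, hm.quad_pure, refl_apply, polar_self',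
        vecMulVec_sub, vecMulVec_smul]
      congr 2
      have := he i
      have := hm.two
      field_simp
    · rw [refl_fix Q (by rw [hm.pol, heo i j hij, zero_mul])]
      simp [Ne.symm hij]

/-- A row reflection is a product of reflections. -/
theorem row_refl_eq (e : Basis (Fin a) F (Fin a → F)) (he : ∀ i, qf (e i) ≠ 0)
    (heo : ∀ i j, i ≠ j → polar qf (e i) (e j) = 0) {v : Fin b → F} (hv : qh v ≠ 0) :
    hm.row (refl qh v) = ((List.ofFn fun i => vecMulVec (e i) v).map (refl Q)).prod := by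
  rw [List.map_ofFn, List.ofFn_eq_map]
  refine Subtype.ext (LinearEquiv.toLinearMap_injective (ext_pure fun u w => ?_))
  have key : (hm.row (refl qh v)).1.toLinearMap ∘ₗ ((sl2 a w : (Fin a → F) →ₗ[F] Matrix (Fin a) (Fin b) F)) =
      ((List.finRange a).map (refl Q ∘ fun i => vecMulVec (e i) v)).prod.1.toLinearMap ∘ₗ sl2 a w := e.ext fun j => by
    show (hm.row (refl qh v)).1 (vecMulVec (e j) w) = _
    rw [hm.row_pure]
    exact ((hm.prod_refl_apply e he heo hv _ (List.nodup_finRange a) j w).trans (by simp)).symm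
  exact LinearMap.congr_fun key u

variable [Fintype F]

/-- For odd dimensions one square class of vectors gives negated row reflections. -/
theorem hasRefl {M : Subgroup (orthGroup Q)} (hM : ContainsTensor M) (hao : Odd a) (hbo : Odd b) (hb : 3 ≤ b) :
    HasRefl hm M := by
  classical
  have h2 := hm.two
  have hQ := hm.nondeg
  obtain ⟨e, he, heo⟩ := hm.exists_orth_basis
  let N : orthGroup Q := ⟨LinearEquiv.neg F, fun X => by
    rw [LinearEquiv.neg_apply, QuadraticMap.map_neg]⟩
  have hN : ∀ X, N.1 X = -X := fun X => rfl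
  have hdN : LinearMap.det (N.1 : Matrix (Fin a) (Fin b) F →ₗ[F] Matrix (Fin a) (Fin b) F) = -1 := by
    rw [show (N.1 : Matrix (Fin a) (Fin b) F →ₗ[F] Matrix (Fin a) (Fin b) F) = (-1 : F) • LinearMap.id from
      LinearMap.ext fun X => (neg_one_smul F X).symm, LinearMap.det_smul, LinearMap.det_id, mul_one,
      Module.finrank_matrix, finrank_self, mul_one, Fintype.card_fin, Fintype.card_fin, (hao.mul hbo).neg_one_pow]
  set L : (Fin b → F) → List (Matrix (Fin a) (Fin b) F) := fun v => List.ofFn fun i => vecMulVec (e i) v with hL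
  have hL0 : ∀ {v}, qh v ≠ 0 → ∀ x ∈ L v, Q x ≠ 0 := fun hv x hx => by
    obtain ⟨i, rfl⟩ := List.mem_ofFn.1 hx
    rw [hm.quad_pure]
    exact mul_ne_zero (mul_ne_zero h2 (he i)) hv
  have hrow : ∀ {v}, qh v ≠ 0 → hm.row (refl qh v) = ((L v).map (refl Q)).prod := fun hv => hm.row_refl_eq e he heo hv
  have hdet : ∀ {v}, qh v ≠ 0 → LinearMap.det
      ((N * hm.row (refl qh v)).1 : Matrix (Fin a) (Fin b) F →ₗ[F] Matrix (Fin a) (Fin b) F) = 1 := fun {v} hv => by
    show LinearMap.det ((N.1 : Matrix (Fin a) (Fin b) F →ₗ[F] Matrix (Fin a) (Fin b) F) *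
      ((hm.row (refl qh v)).1 : Matrix (Fin a) (Fin b) F →ₗ[F] Matrix (Fin a) (Fin b) F)) = 1
    rw [map_mul, hdN, hrow hv, det_prod_refl _ (hL0 hv), List.length_ofFn, hao.neg_one_pow]
    ring
  -- two vectors of different square classes
  obtain ⟨s, hs⟩ := FiniteField.exists_nonsquare (F := F) fun h => h2 (by
    have := ringChar.Nat.cast_ringChar (R := F)
    rw [h] at this
    exact_mod_cast this)
  have hs0 : s ≠ 0 := fun h => hs (h ▸ IsSquare.zero)
  obtain ⟨x, hx0, hx⟩ := CfsgLib.Orth.exists_singular hm.ndh (by rw [finrank_fin_fun]; omega)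
  obtain ⟨y, hy, hxy⟩ := exists_partner hm.ndh hx hx0
  have hq : ∀ t : F, qh (x + t • y) = t := fun t => by
    rw [quad_add', quad_smul', polar_smul_r', hx, hy, hxy]; ring
  set v₁ := x + (1 : F) • y
  set v₂ := x + s • y
  have hq₁ : qh v₁ ≠ 0 := by rw [hq]; exact one_ne_zero
  have hq₂ : qh v₂ ≠ 0 := by rw [hq]; exact hs0
  have hnot : hm.row (refl qh v₁) * hm.row (refl qh v₂) ∉ commutator (orthGroup Q) := by
    rw [hrow hq₁, hrow hq₂, ← List.prod_append, ← List.map_append,
      prod_refl_mem_commutator_iff hQ h2 _ fun x hx => (List.mem_append.1 hx).elim (hL0 hq₁ x) (hL0 hq₂ x)]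
    rintro ⟨-, hsq⟩
    simp only [hL, List.map_append, List.map_ofFn, List.prod_append, List.prod_ofFn, Function.comp_apply,
      hm.quad_pure, hq, Finset.prod_mul_distrib, Finset.prod_const, Finset.card_univ, Fintype.card_fin, one_pow,
      v₁, v₂, mul_one] at hsq
    obtain ⟨k, hk⟩ := hao
    set p := (2 : F) ^ a * ∏ i, qf (e i) with hp
    have hp0 : p ≠ 0 := mul_ne_zero (pow_ne_zero _ h2) (Finset.prod_ne_zero_iff.2 fun i _ => he i)
    obtain ⟨r, hr⟩ := hsq
    refine hs ⟨r / (p * s ^ k), ?_⟩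
    field_simp
    rw [hk, pow_succ] at hr
    linear_combination hr
  obtain ⟨κ, hκ, v₀, hv₀, hvκ, hmem⟩ : ∃ κ : F, κ ≠ 0 ∧ ∃ v₀, qh v₀ ≠ 0 ∧ qh v₀ = κ ∧
      N * hm.row (refl qh v₀) ∈ commutator (orthGroup Q) := by
    by_cases h1 : levelSign Q 1 (N * hm.row (refl qh v₁)) = 1
    · exact ⟨_, hq₁, v₁, hq₁, rfl, (mem_commutator_odd hQ h2 _).2 ⟨hdet hq₁, h1⟩⟩
    refine ⟨_, hq₂, v₂, hq₂, rfl, (mem_commutator_odd hQ h2 _).2 ⟨hdet hq₂, ?_⟩⟩
    by_contra h2'
    refine hnot ((mem_commutator_odd hQ h2 _).2 ⟨?_, ?_⟩)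
    · show LinearMap.det (((hm.row (refl qh v₁)).1 : Matrix (Fin a) (Fin b) F →ₗ[F] Matrix (Fin a) (Fin b) F) *
        ((hm.row (refl qh v₂)).1 : Matrix (Fin a) (Fin b) F →ₗ[F] Matrix (Fin a) (Fin b) F)) = 1
      rw [map_mul, hrow hq₁, hrow hq₂, det_prod_refl _ (hL0 hq₁), det_prod_refl _ (hL0 hq₂), List.length_ofFn,
        List.length_ofFn, hao.neg_one_pow]
      ring
    · rw [map_mul] at h1 h2' ⊢
      rcases Int.units_eq_one_or (levelSign Q 1 N) with hn | hn <;> rw [hn] at h1 h2' <;>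
        rcases Int.units_eq_one_or (levelSign Q 1 (hm.row (refl qh v₁))) with e₁ | e₁ <;>
        rcases Int.units_eq_one_or (levelSign Q 1 (hm.row (refl qh v₂))) with e₂ | e₂ <;>
        rw [e₁] at h1 ⊢ <;> rw [e₂] at h2' ⊢ <;> simp_all
  refine ⟨κ, hκ, fun v hv hsq => ?_⟩
  have hc : refl qh v₀ * refl qh v ∈ commutator (orthGroup qh) := by
    rw [CfsgLib.Orth.mem_commutator_iff, map_mul,
      ab_refl_eq hm.ndh (good_of_two_ne h2) hv₀ hv (by rwa [hvκ]), ab_refl_sq]
  have hs' : N * hm.row (refl qh v₀) * hm.row (refl qh v₀ * refl qh v) = N * hm.row (refl qh v) := by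
    rw [map_mul, ← mul_assoc, mul_assoc N, ← map_mul, refl_mul_self, map_one, mul_one]
  have hmem' : N * hm.row (refl qh v) ∈ commutator (orthGroup Q) := hs' ▸ mul_mem hmem (hm.row_mem hc)
  exact ⟨_, hM _ hmem' (isTensor_neg (hm.row_tensor (refl qh v)) fun X => rfl), fun X => rfl⟩

end Model

end CfsgLib.Classical.TensorMaxO
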