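import Cfsg.Agent.Lib.Classical.TensorMaxO.Pair
import Cfsg.Agent.Lib.Classical.TensorMaxO.Planes
import Cfsg.Agent.Lib.Classical.TensorMaxO.Climb

/-!
# An element outside the stabiliser gives a slice, for any `a < b`

If no element outside the stabiliser maps a singular slice to a slice, then no conjugate under such an element of a
root element of the larger factor is a tensor map. So a root element of the factor and such a conjugate never generate
a `p`-group; hence they generate a group with an involution commuting with the first, which is a tensor map, and the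
image of its `-1` space confines the conjugated plane to a four-space that contains an arbitrary singular plane.
-/

set_option autoImplicit false
set_option linter.unusedSectionVars false

namespace CfsgLib.Classical.TensorMaxO

open Matrix Module QuadraticMap CfsgLib.Orth CfsgLib.Classical
open CfsgLib.Classical.TensorMax (IsTensor)
open CfsgLib.Classical.TensorMaxU (sl1 sl2 sl1_injective sl2_injective matrix_eq_sum vecMulVec_row)

variable {F : Type*} [Field F] [Fintype F] {a b : ℕ} {Q : QuadraticForm F (Matrix (Fin a) (Fin b) F)}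
  {qf : QuadraticForm F (Fin a → F)} {qh : QuadraticForm F (Fin b → F)} {M : Subgroup (orthGroup Q)}

/-- The translation part of the root element of a totally singular plane. -/
def rootMap (a : ℕ) (qh : QuadraticForm F (Fin b → F)) (c y : Fin b → F) :
    Module.End F (Matrix (Fin a) (Fin b) F) :=
  sl2 a y ∘ₗ ct a qh c - sl2 a c ∘ₗ ct a qh y

theorem rootMap_apply (c y : Fin b → F) (X : Matrix (Fin a) (Fin b) F) :
    rootMap a qh c y X = vecMulVec (ct a qh c X) y - vecMulVec (ct a qh y X) c := rfl

theorem rootMap_pure (c y w : Fin b → F) (u : Fin a → F) :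
    rootMap a qh c y (vecMulVec u w) = vecMulVec u (polar qh c w • y - polar qh y w • c) := by
  rw [rootMap_apply, ct_vecMulVec, ct_vecMulVec, smul_vecMulVec, smul_vecMulVec, vecMulVec_sub, vecMulVec_smul,
    vecMulVec_smul]

theorem rootMap_sq {c y : Fin b → F} (hc : qh c = 0) (hy : qh y = 0) (hcy : polar qh c y = 0) :
    rootMap a qh c y * rootMap a qh c y = 0 := LinearMap.ext fun X => by
  rw [Module.End.mul_apply, rootMap_apply, rootMap_apply]
  simp [map_sub, polar_self', hc, hy, hcy, polar_comm _ y c]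

/-- The isometries as invertible endomorphisms. -/
def toEndUnits (Q : QuadraticForm F (Matrix (Fin a) (Fin b) F)) :
    orthGroup Q →* LinearMap.GeneralLinearGroup F (Matrix (Fin a) (Fin b) F) :=
  (LinearMap.GeneralLinearGroup.generalLinearEquiv F _).symm.toMonoidHom.comp (orthGroup Q).subtype

theorem toEndUnits_apply (g : orthGroup Q) (X : Matrix (Fin a) (Fin b) F) :
    (toEndUnits Q g : Module.End F (Matrix (Fin a) (Fin b) F)) X = g.1 X := rfl

theorem toEndUnits_injective : Function.Injective (toEndUnits Q) :=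
  (LinearMap.GeneralLinearGroup.generalLinearEquiv F _).symm.injective.comp Subtype.val_injective

/-- Pure tensors on independent left vectors are independent. -/
theorem sum_vecMulVec_eq_zero {κ : Type*} [Fintype κ] {v : κ → Fin a → F} (hv : LinearIndependent F v)
    {w : κ → Fin b → F} (h : ∑ i, vecMulVec (v i) (w i) = 0) : ∀ i, w i = 0 := by
  intro i
  funext l
  refine Fintype.linearIndependent_iff.1 hv (fun j => w j l) ?_ i
  funext r
  have := congrFun (congrFun h r) l
  simpa [Matrix.sum_apply, vecMulVec_apply, mul_comm] using this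

/-- The matrices with rows in a subspace. -/
def rowsIn (a : ℕ) (R : Submodule F (Fin b → F)) : Submodule F (Matrix (Fin a) (Fin b) F) where
  carrier := {X | ∀ i, X i ∈ R}
  zero_mem' := fun _ => R.zero_mem
  add_mem' := fun hX hY i => R.add_mem (hX i) (hY i)
  smul_mem' := fun t _ hX i => R.smul_mem t (hX i)

theorem finrank_rowsIn (R : Submodule F (Fin b → F)) : finrank F (rowsIn a R) ≤ a * finrank F R := by
  let φ : rowsIn a R →ₗ[F] (Fin a → R) :=
    { toFun := fun X i => ⟨X.1 i, X.2 i⟩
      map_add' := fun X Y => rfl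
      map_smul' := fun t X => rfl }
  have hφ : Function.Injective φ := fun X Y h => Subtype.ext (funext fun i => congrArg Subtype.val (congrFun h i))
  have h := LinearMap.finrank_le_finrank_of_injective hφ
  rwa [Module.finrank_pi_fintype, Finset.sum_const, Finset.card_univ, Fintype.card_fin, smul_eq_mul] at h

/-- The `±1` eigenspaces of an involution span. -/
theorem eigen_sum {n : ℕ} (h2 : (2 : F) ≠ 0) {T : Module.End F (Fin n → F)} (hT : ∀ v, T (T v) = v) :
    n ≤ finrank F (LinearMap.ker (T - 1)) + finrank F (LinearMap.ker (T + 1)) := by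
  have htop : LinearMap.ker (T - 1) ⊔ LinearMap.ker (T + 1) = ⊤ := top_unique fun v _ => by
    refine Submodule.mem_sup.2 ⟨(2 : F)⁻¹ • (v + T v), ?_, (2 : F)⁻¹ • (v - T v), ?_, ?_⟩
    · simp [hT, add_comm]
    · simp only [LinearMap.mem_ker, LinearMap.add_apply, Module.End.one_apply, map_smul, map_sub, hT, ← smul_add]
      module
    · rw [← smul_add, show v + T v + (v - T v) = (2 : F) • v by rw [two_smul]; abel, inv_smul_smul₀ h2]
  have h := Submodule.finrank_add_le_finrank_add_finrank (LinearMap.ker (T - 1)) (LinearMap.ker (T + 1))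
  rwa [htop, finrank_top, finrank_fin_fun] at h

namespace Model

variable (hm : Model Q qf qh)
include hm

theorem exists_root {c y : Fin b → F} (hc : qh c = 0) (hy : qh y = 0) (hcy : polar qh c y = 0) (t : F) :
    ∃ C, IsSiegel C c (t • y) ∧
      (toEndUnits Q (hm.row C) : Module.End F (Matrix (Fin a) (Fin b) F)) = 1 + t • rootMap a qh c y := by
  obtain ⟨C, hC⟩ := exists_isSiegel hm.ndh hc (show polar qh c (t • y) = 0 by rw [polar_smul_r', hcy, mul_zero])
  refine ⟨C, hC, LinearMap.ext fun X => ?_⟩
  rw [toEndUnits_apply, hm.row_siegel hC, quad_smul', hy]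
  simp only [mul_zero, zero_smul, sub_zero, map_smul, LinearMap.smul_apply, neg_vecMulVec, smul_vecMulVec,
    vecMulVec_smul, LinearMap.add_apply, Module.End.one_apply, rootMap_apply]
  module

/-- A tensor involution commuting with a root element, and equal to `1 - 2e`, puts the range of `e` into the rows of a
four-space through the plane. -/
theorem range_of_involution (hpar : Odd a ∨ Odd b) (ha : 0 < a) (hb : 5 ≤ b) {i : orthGroup Q} (hiT : IsTensor i.1)
    {e : Module.End F (Matrix (Fin a) (Fin b) F)} (he : e * e = e) (he0 : e ≠ 0)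
    (hie : ∀ X, i.1 X = X - (e X + e X)) {c y : Fin b → F} (hc0 : c ≠ 0) (hc : qh c = 0) (hy : qh y = 0)
    (hcy : polar qh c y = 0) (hyc : y ∉ F ∙ c) (hec : Commute e (rootMap a qh c y))
    (hdim : finrank F (LinearMap.range e) ≤ 2 * finrank F (LinearMap.range (e * rootMap a qh c y))) :
    ∃ W : Submodule F (Fin b → F), finrank F W ≤ 4 ∧ c ∈ W ∧ y ∈ W ∧ LinearMap.range e ≤ rowsIn a W ∧
      4 * a ≤ finrank F (LinearMap.range e) := by
  classical
  obtain ⟨A, C, hAi, hCi, hAC⟩ := TensorMaxU.tensor_pure hiT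
  have h2 := hm.two
  have hee : ∀ X, e (e X) = e X := fun X => LinearMap.congr_fun he X
  have hii : ∀ X, i.1 (i.1 X) = X := fun X => by
    rw [hie (i.1 X), hie X, map_sub, map_add, hee]
    abel
  have hix : ∀ X, i.1 (rootMap a qh c y X) = rootMap a qh c y (i.1 X) := fun X => by
    rw [hie, hie, map_sub, map_add, show e (rootMap a qh c y X) = rootMap a qh c y (e X) from
      LinearMap.congr_fun hec.eq X]
  have hsym : ∀ X Y, polar Q (i.1 X) Y = polar Q X (i.1 Y) := fun X Y => by
    rw [← polar_isom i X (i.1 Y), hii]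
  have hprod : ∀ u u' w w', polar qf (A u) u' * polar qh (C w) w' = polar qf u (A u') * polar qh w (C w') :=
    fun u u' w w' => by
      have h := hsym (vecMulVec u w) (vecMulVec u' w')
      rwa [hAC, hAC, hm.pol, hm.pol] at h
  obtain ⟨u₀, -, hu₀⟩ := exists_anisotropic_in hm.ndf (S := ⊤) (by
    rw [finrank_top, finrank_fin_fun]; omega)
  have hu₀0 : u₀ ≠ 0 := fun h => hu₀ (by rw [h, QuadraticMap.map_zero])
  have hCsym : ∀ w w', polar qh (C w) w' = polar qh w (C w') := by
    by_cases hA : ∃ u, polar qf (A u) u ≠ 0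
    · obtain ⟨u, hu⟩ := hA
      intro w w'
      have h := hprod u u w w'
      rw [polar_comm qf u (A u)] at h
      exact mul_left_cancel₀ hu h
    push Not at hA
    have hAskew : ∀ u v, polar qf u (A v) = -polar qf v (A u) := fun u v => by
      have h := hA (u + v)
      rw [map_add, polar_add_left, polar_add_right, polar_add_right, hA, hA, polar_comm qf (A u) v,
        polar_comm qf (A v) u] at h
      linear_combination h
    rcases hpar with ho | ho
    · obtain ⟨x, hx, hx0⟩ := exists_ker_of_skew hm.ndf h2 ho A hAskew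
      exact absurd (hAi (hx0.trans (map_zero A).symm)) hx
    · obtain ⟨u, v, huv⟩ : ∃ u v, polar qf (A u) v ≠ 0 := by
        by_contra! hall
        refine hu₀0 (hAi ?_)
        rw [map_zero]
        exact hm.ndf.1 _ (hall u₀)
      obtain ⟨w, hw, hw0⟩ := exists_ker_of_skew hm.ndh h2 ho C fun w w' => by
        have h := hprod u v w w'
        rw [hAskew u v, polar_comm qf v (A u), neg_mul, ← mul_neg] at h
        rw [eq_neg_iff_add_eq_zero, polar_comm qh w' (C w), add_comm, ← sub_neg_eq_add, sub_eq_zero]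
        exact mul_left_cancel₀ huv h
      exact absurd (hCi (hw0.trans (map_zero C).symm)) hw
  -- the plane is acted on by a scalar
  obtain ⟨c', hc'1, hc'⟩ := exists_polar_one hm.ndh (show c ∉ F ∙ y from fun hmem => by
    obtain ⟨t, ht⟩ := Submodule.mem_span_singleton.1 hmem
    refine hyc (Submodule.mem_span_singleton.2 ⟨t⁻¹, ?_⟩)
    rw [← ht, inv_smul_smul₀]
    rintro rfl
    exact hc0 (by rw [← ht, zero_smul]))
  obtain ⟨y', hy'1, hy'⟩ := exists_polar_one hm.ndh hyc
  have hyc' : polar qh y c' = 0 := by rw [polar_comm]; exact hc'1 y (Submodule.mem_span_singleton_self y)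
  have hcy' : polar qh c y' = 0 := by rw [polar_comm]; exact hy'1 c (Submodule.mem_span_singleton_self c)
  have hcc' : polar qh c c' = 1 := (polar_comm _ _ _).trans hc'
  have hyy' : polar qh y y' = 1 := (polar_comm _ _ _).trans hy'
  have hCn : ∀ w, C (polar qh c w • y - polar qh y w • c) = polar qh (C c) w • y - polar qh (C y) w • c := fun w => by
    refine sl1_injective (b := b) (u := A u₀) (fun h => hu₀0 (hAi (h.trans (map_zero A).symm))) ?_
    show vecMulVec (A u₀) _ = vecMulVec (A u₀) _
    rw [hCsym c, hCsym y, ← rootMap_pure, ← hAC, ← rootMap_pure, hix, hAC]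
  have e1 := hCn c'
  have e2 := hCn y'
  rw [hcc', hyc', one_smul, zero_smul, sub_zero] at e1
  rw [hyy', hcy', one_smul, zero_smul, zero_sub, map_neg] at e2
  set p := polar qh (C c) c'
  set r := polar qh (C y) c'
  set q := polar qh (C c) y'
  set s := polar qh (C y) y'
  have hr0 : r = 0 := by
    have h : r = -r := by
      have h := congrArg (fun v => polar qh v c') e1
      simp only [polar_sub_left, polar_smul_l', hyc', hcc', mul_zero, mul_one, zero_sub] at h
      exact h
    exact mul_left_cancel₀ h2 (by linear_combination h)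
  have hs : s = p := by
    have h := congrArg (fun v => polar qh v y') e1
    simp only [polar_sub_left, polar_smul_l', hyy', hcy', mul_zero, mul_one, sub_zero] at h
    exact h
  have hCy : C y = p • y := by rw [e1, hr0, zero_smul, sub_zero]
  have hq0 : q = 0 := by
    have h : -q = q := by
      have h := congrArg (fun v => polar qh v y') e2
      simp only [polar_sub_left, polar_neg_left, polar_smul_l', hyy', hcy', mul_zero, mul_one, sub_zero] at h
      exact h
    exact mul_left_cancel₀ h2 (by linear_combination -h)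
  have hCc : C c = p • c := by
    rw [hq0, hs, zero_smul, zero_sub, neg_inj] at e2
    exact e2
  have hp0 : p ≠ 0 := fun h => hc0 (hCi (by rw [hCc, h, zero_smul, map_zero]))
  set A₁ : Module.End F (Fin a → F) := p • A with hA₁
  set C₁ : Module.End F (Fin b → F) := p⁻¹ • C with hC₁
  have hAC₁ : ∀ u w, i.1 (vecMulVec u w) = vecMulVec (A₁ u) (C₁ w) := fun u w => by
    rw [hAC, hA₁, hC₁, LinearMap.smul_apply, LinearMap.smul_apply, smul_vecMulVec, vecMulVec_smul, smul_smul,
      mul_inv_cancel₀ hp0, one_smul]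
  have hC₁c : C₁ c = c := by rw [hC₁, LinearMap.smul_apply, hCc, inv_smul_smul₀ hp0]
  have hC₁y : C₁ y = y := by rw [hC₁, LinearMap.smul_apply, hCy, inv_smul_smul₀ hp0]
  have hAA : ∀ u, A₁ (A₁ u) = u := fun u => sl2_injective (a := a) hc0 (by
    show vecMulVec (A₁ (A₁ u)) c = vecMulVec u c
    rw [← hii (vecMulVec u c), hAC₁, hAC₁, hC₁c, hC₁c])
  have hCC : ∀ w, C₁ (C₁ w) = w := fun w => sl1_injective (b := b) hu₀0 (by
    show vecMulVec u₀ (C₁ (C₁ w)) = vecMulVec u₀ w
    rw [← hii (vecMulVec u₀ w), hAC₁, hAC₁, hAA])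
  set Ap := LinearMap.ker (A₁ - 1)
  set Am := LinearMap.ker (A₁ + 1)
  set Wp := LinearMap.ker (C₁ - 1) with hWp
  set Wm := LinearMap.ker (C₁ + 1)
  have mAp : ∀ {u}, u ∈ Ap → A₁ u = u := fun {u} h => sub_eq_zero.1 h
  have mAm : ∀ {u}, u ∈ Am → A₁ u = -u := fun {u} h => eq_neg_of_add_eq_zero_left h
  have mWp : ∀ {w}, w ∈ Wp → C₁ w = w := fun {w} h => sub_eq_zero.1 h
  have mWm : ∀ {w}, w ∈ Wm → C₁ w = -w := fun {w} h => eq_neg_of_add_eq_zero_left h
  have hefix : ∀ u w, vecMulVec (A₁ u) (C₁ w) = -vecMulVec u w → e (vecMulVec u w) = vecMulVec u w :=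
    fun u w h => by
      refine smul_right_injective _ h2 ?_
      show (2 : F) • e (vecMulVec u w) = (2 : F) • vecMulVec u w
      have h' := hie (vecMulVec u w)
      rw [hAC₁, h] at h'
      rw [two_smul, two_smul]
      linear_combination (norm := abel) h'
  -- lower bound for the rank
  set p₁ := finrank F Am
  set r₁ := finrank F Ap
  set v : Fin p₁ ⊕ Fin r₁ → Fin a → F := Sum.elim (fun j => (finBasis F Am j : Fin a → F))
    (fun j => (finBasis F Ap j : Fin a → F)) with hv
  have hvli : LinearIndependent F v := by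
    refine ((finBasis F Am).linearIndependent.map' Am.subtype (Submodule.ker_subtype _)).sum_type
      ((finBasis F Ap).linearIndependent.map' Ap.subtype (Submodule.ker_subtype _)) ?_
    have hdj : Disjoint Am Ap := by
      rw [Submodule.disjoint_def]
      intro u h1 h2'
      have h := (mAm h1).symm.trans (mAp h2')
      refine (smul_eq_zero.1 (show (2 : F) • u = 0 from ?_)).resolve_left h2
      rw [two_smul]
      linear_combination (norm := abel) -h
    refine hdj.mono (Submodule.span_le.2 ?_) (Submodule.span_le.2 ?_)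
    · rintro _ ⟨j, rfl⟩; exact (finBasis F Am j).2
    · rintro _ ⟨j, rfl⟩; exact (finBasis F Ap j).2
  let Φ : ((Fin p₁ → Wp) × (Fin r₁ → Wm)) →ₗ[F] Matrix (Fin a) (Fin b) F :=
    { toFun := fun fg => ∑ j, vecMulVec (v j) (Sum.elim (fun j => (fg.1 j : Fin b → F)) (fun j => (fg.2 j : Fin b → F)) j)
      map_add' := fun fg fg' => by
        rw [← Finset.sum_add_distrib]
        refine Finset.sum_congr rfl fun j _ => ?_
        rw [← vecMulVec_add]
        congr 1
        rcases j with j | j <;> rfl
      map_smul' := fun t fg => by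
        rw [RingHom.id_apply, Finset.smul_sum]
        refine Finset.sum_congr rfl fun j _ => ?_
        rw [← vecMulVec_smul]
        congr 1
        rcases j with j | j <;> rfl }
  have hΦi : Function.Injective Φ := (injective_iff_map_eq_zero _).2 fun fg h => by
    have := sum_vecMulVec_eq_zero hvli h
    exact Prod.ext (funext fun j => Subtype.ext (this (Sum.inl j))) (funext fun j => Subtype.ext (this (Sum.inr j)))
  have hΦr : LinearMap.range Φ ≤ LinearMap.range e := by
    rintro _ ⟨fg, rfl⟩
    show ∑ j, vecMulVec (v j)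
      (Sum.elim (fun j => (fg.1 j : Fin b → F)) (fun j => (fg.2 j : Fin b → F)) j) ∈ LinearMap.range e
    refine Submodule.sum_mem _ fun j _ => LinearMap.mem_range.2 ⟨_, hefix _ _ ?_⟩
    rcases j with j | j
    · simp [v, mAm (finBasis F Am j).2, mWp (fg.1 j).2, neg_vecMulVec]
    · simp [v, mAp (finBasis F Ap j).2, mWm (fg.2 j).2, vecMulVec_neg]
  have hlow : p₁ * finrank F Wp + r₁ * finrank F Wm ≤ finrank F (LinearMap.range e) := by
    have h := Submodule.finrank_mono hΦr
    rw [LinearMap.finrank_range_of_inj hΦi, finrank_prod, Module.finrank_pi_fintype, Module.finrank_pi_fintype] at h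
    simpa using h
  -- the part of the plane
  have hec' : ∀ (u : Fin a → F) (z : Fin b → F), C₁ z = z →
      e (vecMulVec u z) = vecMulVec ((2 : F)⁻¹ • (u - A₁ u)) z := fun u z hz => by
    have h' := hie (vecMulVec u z)
    rw [hAC₁, hz] at h'
    rw [smul_vecMulVec, sub_vecMulVec, eq_inv_smul_iff₀ h2, two_smul]
    linear_combination (norm := abel) h'
  have hmemAm : ∀ u, (2 : F)⁻¹ • (u - A₁ u) ∈ Am := fun u => by
    show A₁ ((2 : F)⁻¹ • (u - A₁ u)) + (2 : F)⁻¹ • (u - A₁ u) = 0
    rw [map_smul, map_sub, hAA, ← smul_add, sub_add_sub_cancel, sub_self, smul_zero]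
  have hup : finrank F (LinearMap.range (e * rootMap a qh c y)) ≤ 2 * p₁ := by
    have hle : LinearMap.range (e * rootMap a qh c y) ≤
        LinearMap.range ((sl2 a y ∘ₗ Am.subtype).coprod (sl2 a c ∘ₗ Am.subtype)) := by
      rintro _ ⟨X, rfl⟩
      rw [Module.End.mul_apply, rootMap_apply, map_sub, hec' _ _ hC₁y, hec' _ _ hC₁c]
      refine ⟨(⟨_, hmemAm (ct a qh c X)⟩, -⟨_, hmemAm (ct a qh y X)⟩), ?_⟩
      simp [sub_eq_add_neg, neg_vecMulVec]
      rw [← neg_vecMulVec]
      congr 1
      abel
    refine (Submodule.finrank_mono hle).trans ((LinearMap.finrank_range_le _).trans ?_)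
    rw [finrank_prod]
    omega
  have hp1 : 1 ≤ p₁ := by
    by_contra h
    have h0 : finrank F (LinearMap.range e) = 0 := by omega
    exact he0 (LinearMap.range_eq_bot.1 (Submodule.finrank_eq_zero.1 h0))
  -- the negative part of the second factor is small
  have hWm : finrank F Wm + 4 ≤ b := by
    set S := LinearMap.ker ((polarBilin qh c).prod (polarBilin qh y)) with hS
    have hSdim : finrank F S + 2 = b := by
      have h := ((polarBilin qh c).prod (polarBilin qh y)).finrank_range_add_finrank_ker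
      have hr : LinearMap.range ((polarBilin qh c).prod (polarBilin qh y)) = ⊤ := top_unique fun st _ =>
        ⟨st.1 • c' + st.2 • y', by
          simp [hcc', hyy', hcy', hyc', polar_add_right, polar_smul_r']⟩
      rw [hr, finrank_top, finrank_prod, finrank_self, finrank_fin_fun] at h
      rw [hS]
      omega
    have hperp : ∀ z, C₁ z = z → ∀ w ∈ Wm, polar qh z w = 0 := fun z hz w hw => by
      have h := hCsym z w
      have h' : polar qh (C₁ z) w = polar qh z (C₁ w) := by
        rw [hC₁, LinearMap.smul_apply, LinearMap.smul_apply, polar_smul_l', polar_smul_r', h]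
      rw [hz, mWm hw, polar_neg_right] at h'
      exact mul_left_cancel₀ h2 (by linear_combination h')
    set P₂ := (F ∙ c) ⊔ (F ∙ y)
    have hP₂ : 2 ≤ finrank F P₂ := by
      have hlt : (F ∙ c) < P₂ := lt_of_le_of_ne le_sup_left fun h =>
        hyc (h ▸ Submodule.mem_sup_right (Submodule.mem_span_singleton_self y))
      have := Submodule.finrank_lt_finrank_of_lt hlt
      rw [finrank_span_singleton hc0] at this
      omega
    have hP₂S : P₂ ≤ S := sup_le
      ((Submodule.span_singleton_le_iff_mem _ _).2 (by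
        rw [hS, LinearMap.ker_prod]
        exact ⟨by rw [SetLike.mem_coe, mem_ker_polar, polar_self', hc, mul_zero],
          by rw [SetLike.mem_coe, mem_ker_polar, polar_comm, hcy]⟩))
      ((Submodule.span_singleton_le_iff_mem _ _).2 (by
        rw [hS, LinearMap.ker_prod]
        exact ⟨by rw [SetLike.mem_coe, mem_ker_polar, hcy], by rw [SetLike.mem_coe, mem_ker_polar, polar_self', hy,
          mul_zero]⟩))
    have hWS : Wm ≤ S := fun w hw => by
      rw [hS, LinearMap.ker_prod]
      exact ⟨hperp c hC₁c w hw, hperp y hC₁y w hw⟩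
    have hdis : P₂ ⊓ Wm = ⊥ := (Submodule.eq_bot_iff _).2 fun w hw => by
      have h1 : C₁ w = w := by
        refine mWp ((sup_le ?_ ?_ : P₂ ≤ Wp) hw.1)
        · exact (Submodule.span_singleton_le_iff_mem _ _).2 (sub_eq_zero.2 hC₁c)
        · exact (Submodule.span_singleton_le_iff_mem _ _).2 (sub_eq_zero.2 hC₁y)
      have h := h1.symm.trans (mWm hw.2)
      refine (smul_eq_zero.1 (show (2 : F) • w = 0 from ?_)).resolve_left h2
      rw [two_smul]
      linear_combination (norm := abel) h
    have h := Submodule.finrank_sup_add_finrank_inf_eq P₂ Wm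
    rw [hdis, finrank_bot, add_zero] at h
    have := Submodule.finrank_mono (sup_le hP₂S hWS)
    omega
  have hWsum := eigen_sum h2 hCC
  have hAsum := eigen_sum h2 hAA
  have hAdis : r₁ + p₁ ≤ a := by
    have := hvli.fintype_card_le_finrank
    rw [Fintype.card_sum, Fintype.card_fin, Fintype.card_fin, finrank_fin_fun] at this
    omega
  change b ≤ finrank F Wp + finrank F Wm at hWsum
  change a ≤ r₁ + p₁ at hAsum
  have hW4 : 4 ≤ finrank F Wp := by omega
  have hr₁ : r₁ = 0 := by
    by_contra hr
    rcases Nat.eq_zero_or_pos (finrank F Wm) with hq | hq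
    · have : p₁ * 5 ≤ p₁ * finrank F Wp := Nat.mul_le_mul_left _ (by omega)
      omega
    · have h1 : p₁ * 4 ≤ p₁ * finrank F Wp := Nat.mul_le_mul_left _ hW4
      have h3 : 1 ≤ r₁ * finrank F Wm := Nat.mul_pos (Nat.pos_of_ne_zero hr) hq
      omega
  have hpa : p₁ = a := by omega
  have hWle : finrank F Wp ≤ 4 := by
    by_contra hlt
    have : p₁ * 5 ≤ p₁ * finrank F Wp := Nat.mul_le_mul_left _ (by omega)
    omega
  have hA₁neg : ∀ u, A₁ u = -u := fun u =>
    mAm ((Submodule.eq_top_of_finrank_eq (show finrank F Am = finrank F (Fin a → F) by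
      rw [finrank_fin_fun]; exact hpa) : Am = ⊤) ▸ Submodule.mem_top)
  refine ⟨Wp, hWle, sub_eq_zero.2 hC₁c, sub_eq_zero.2 hC₁y, ?_, ?_⟩
  · rintro _ ⟨X, rfl⟩
    have hpure : ∀ u w, e (vecMulVec u w) ∈ rowsIn a Wp := fun u w j => by
      have h' : e (vecMulVec u w) = vecMulVec u ((2 : F)⁻¹ • (w + C₁ w)) := by
        have h' := hie (vecMulVec u w)
        rw [hAC₁, hA₁neg, neg_vecMulVec] at h'
        rw [vecMulVec_smul, vecMulVec_add, eq_inv_smul_iff₀ h2, two_smul]
        linear_combination (norm := abel) h'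
      rw [h', vecMulVec_row]
      refine Wp.smul_mem _ (Wp.smul_mem _ ?_)
      show C₁ (w + C₁ w) - (w + C₁ w) = 0
      rw [map_add, hCC]
      abel
    rw [matrix_eq_sum X, map_sum]
    exact Submodule.sum_mem _ fun j _ => hpure _ _
  · have h1 : p₁ * 4 ≤ p₁ * finrank F Wp := Nat.mul_le_mul_left _ hW4
    omega

variable {hm} (hF : ContainsFactors hm M) (ha : 3 ≤ a) (hab : a < b) (hb : 5 ≤ b) (hpar : Odd a ∨ Odd b)
include hF ha hab hb hpar

/-- An element outside the stabiliser gives a slice. -/
theorem full_of_not_tensor {g : orthGroup Q} (hg : g ∈ M) (hgT : ¬ IsTensor g.1) : Full M qh := by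
  classical
  by_contra hno
  have h2 := hm.two
  have hroot : ∀ {g : orthGroup Q}, g ∈ M → ¬ IsTensor g.1 → ∀ {C : orthGroup qh} {c y : Fin b → F},
      IsSiegel C c y → c ≠ 0 → y ∉ F ∙ c → ¬ IsTensor (g⁻¹ * hm.row C * g).1 :=
    fun {g} hg hgT {C c y} hC hc0 hyc hT =>
    ((full_or hF ha hab hb hg hgT hC hc0 hyc).resolve_left hno).2 hT
  obtain ⟨c, hc0, hc⟩ := CfsgLib.Orth.exists_singular hm.ndh (by rw [finrank_fin_fun]; omega)
  obtain ⟨y, hcy, hy, hyc⟩ := exists_singular_in (Q := qh) h2 (S := LinearMap.ker (polarBilin qh c)) (by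
    have := finrank_kerPolar (Q := qh) c
    rw [finrank_fin_fun] at *; omega) hc0
  rw [mem_ker_polar] at hcy
  -- the rows of the conjugated plane
  set ψ : (Fin a → F) × (Fin a → F) →ₗ[F] Matrix (Fin a) (Fin b) F :=
    g.1.symm.toLinearMap ∘ₗ (sl2 a c).coprod (sl2 a y) with hψ
  set R : Submodule F (Fin b → F) := Submodule.span F {w | ∃ uv j, w = ψ uv j} with hR
  have hψR : LinearMap.range ψ ≤ rowsIn a R := by
    rintro _ ⟨uv, rfl⟩ j
    exact Submodule.subset_span ⟨uv, j, rfl⟩
  have hψi : Function.Injective ψ := by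
    refine g.1.symm.injective.comp ((injective_iff_map_eq_zero _).2 fun uv h => ?_)
    have key : ∀ j, uv.1 j = 0 ∧ uv.2 j = 0 := fun j => by
      have e : uv.1 j • c + uv.2 j • y = 0 := congrFun h j
      by_cases hv : uv.2 j = 0
      · refine ⟨?_, hv⟩
        rw [hv, zero_smul, add_zero] at e
        exact (smul_eq_zero.1 e).resolve_right hc0
      · refine absurd (Submodule.mem_span_singleton.2 ⟨-(uv.2 j)⁻¹ * uv.1 j, ?_⟩) hyc
        rw [mul_smul, eq_neg_of_add_eq_zero_left e, smul_neg, neg_smul, neg_neg, inv_smul_smul₀ hv]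
    exact Prod.ext (funext fun j => (key j).1) (funext fun j => (key j).2)
  have hψdim : finrank F (LinearMap.range ψ) = 2 * a := by
    rw [LinearMap.finrank_range_of_inj hψi, finrank_prod, finrank_fin_fun]; ring
  by_cases hR2 : finrank F R ≤ 2
  · have heq : LinearMap.range ψ = rowsIn a R := Submodule.eq_of_le_of_finrank_le hψR (by
      rw [hψdim]
      exact (finrank_rowsIn R).trans (by rw [mul_comm 2 a]; exact Nat.mul_le_mul_left a hR2))
    obtain ⟨r, hr, hr0⟩ := Submodule.exists_mem_ne_zero_of_ne_bot (p := R) fun h => by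
      have h' := hψdim ▸ (Submodule.finrank_mono hψR).trans (finrank_rowsIn R)
      rw [h, finrank_bot] at h'
      omega
    have hmem : ∀ u, ∃ uv : (Fin a → F) × (Fin a → F), g.1 (vecMulVec u r) =
        vecMulVec uv.1 c + vecMulVec uv.2 y := fun u => by
      obtain ⟨uv, huv⟩ : vecMulVec u r ∈ LinearMap.range ψ := heq ▸ fun j => by
        rw [vecMulVec_row]; exact R.smul_mem _ hr
      exact ⟨uv, by rw [← huv]; exact g.1.apply_symm_apply _⟩
    have hqr : qh r = 0 := by
      obtain ⟨u, -, hu⟩ := exists_anisotropic_in hm.ndf (S := ⊤) (by rw [finrank_top, finrank_fin_fun]; omega)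
      obtain ⟨⟨z, z'⟩, hz⟩ := hmem u
      have h := apply_quad g (vecMulVec u r)
      rw [hz, quad_add', hm.pol, hm.pure_singular _ hc, hm.pure_singular _ hy, hcy, mul_zero, add_zero, add_zero,
        hm.quad_pure] at h
      exact (mul_eq_zero.1 h.symm).resolve_left (mul_ne_zero h2 hu)
    obtain ⟨y', hy', hqy'⟩ := exists_anisotropic_in hm.ndh
      (S := LinearMap.ker (polarBilin qh c) ⊓ LinearMap.ker (polarBilin qh y)) (by
        have := finrank_kerPolar (Q := qh) c
        have := finrank_perp_vec (Q := qh) (S := LinearMap.ker (polarBilin qh c)) y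
        rw [finrank_fin_fun] at *; omega)
    obtain ⟨hcy', hyy'⟩ := hy'
    rw [SetLike.mem_coe, mem_ker_polar] at hcy' hyy'
    obtain ⟨C, hC⟩ := exists_isSiegel hm.ndh hc hcy'
    have hy'c : y' ∉ F ∙ c := fun h => hqy' (by
      obtain ⟨t, rfl⟩ := Submodule.mem_span_singleton.1 h
      rw [quad_smul', hc, mul_zero])
    refine hno ⟨g⁻¹ * hm.row C * g, M.mul_mem (M.mul_mem (M.inv_mem hg) (hF.row_siegel hC)) hg,
      hroot hg hgT hC hc0 hy'c, r, r, hr0, hqr, fun u => ⟨u, ?_⟩⟩
    obtain ⟨⟨z, z'⟩, hz⟩ := hmem u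
    rw [conj_apply hm hC, conjU_apply, hz]
    simp [polar_self', hc, hy, hcy, polar_comm _ y' c, hcy', polar_comm _ y' y, hyy', polar_comm _ y c]
  -- a plane far from the rows
  obtain ⟨f, hf⟩ := exists_linearIndependent_of_le_finrank (R := F) (M := R) (n := 3) (by omega)
  have hf' : LinearIndependent F (R.subtype ∘ f) := hf.map' R.subtype (Submodule.ker_subtype _)
  obtain ⟨b₀, b₁, hb₀0, hb₀, hb₁, hb₀₁, hb₁b₀, havoid⟩ := exists_plane_avoid hm.ndh h2
    (by rw [finrank_fin_fun]; exact hb) (X := Submodule.span F (Set.range (R.subtype ∘ f)))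
    (by rw [finrank_span_eq_card hf', Fintype.card_fin])
  set φ := toEndUnits Q
  set x := rootMap a qh b₀ b₁ with hx
  set yk : Module.End F (Matrix (Fin a) (Fin b) F) :=
    g.1.symm.toLinearMap ∘ₗ rootMap a qh c y ∘ₗ g.1.toLinearMap with hyk
  have hyk2 : yk * yk = 0 := LinearMap.ext fun X => by
    show g.1.symm (rootMap a qh c y (g.1 (g.1.symm (rootMap a qh c y (g.1 X))))) = 0
    rw [g.1.apply_symm_apply, ← Module.End.mul_apply, rootMap_sq hc hy hcy, LinearMap.zero_apply, map_zero]
  have hfam : Pair.fams x yk ≤ M.map φ := by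
    rw [Pair.fams, Subgroup.closure_le]
    rintro γ (⟨t, ht⟩ | ⟨t, ht⟩)
    · obtain ⟨C, hC, hCe⟩ := hm.exists_root hb₀ hb₁ hb₀₁ t
      exact ⟨hm.row C, hF.row_siegel hC, Units.ext (hCe.trans ht.symm)⟩
    · obtain ⟨C, hC, hCe⟩ := hm.exists_root hc hy hcy t
      refine ⟨g⁻¹ * hm.row C * g, M.mul_mem (M.mul_mem (M.inv_mem hg) (hF.row_siegel hC)) hg,
        Units.ext (LinearMap.ext fun X => ?_)⟩
      rw [ht, toEndUnits_apply]
      show g.1.symm ((hm.row C).1 (g.1 X)) = X + t • g.1.symm (rootMap a qh c y (g.1 X))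
      rw [← toEndUnits_apply, hCe, LinearMap.add_apply, Module.End.one_apply, map_add, g.1.symm_apply_apply,
        LinearMap.smul_apply, map_smul]
  obtain ⟨CL, hCL, hCLe⟩ := hm.exists_root hb₀ hb₁ hb₀₁ 1
  rw [one_smul] at hCL hCLe
  rcases Pair.unipotent_or_neg h2 (rootMap_sq hb₀ hb₁ hb₀₁) hyk2 with hu | ⟨e, q, γ, hγ, he, he0, hex, hey, hqx, hqy,
    hqe, heq, hγe⟩
  · -- the group generated is a `p`-group
    obtain ⟨p, hp⟩ := CharP.exists F
    haveI := hp
    haveI : Fact p.Prime := ⟨(CharP.char_is_prime_or_zero F p).resolve_right (CharP.char_ne_zero_of_finite F p)⟩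
    haveI : Nonempty (Fin a) := ⟨⟨0, by omega⟩⟩
    haveI : Nonempty (Fin b) := ⟨⟨0, by omega⟩⟩
    set H₀ := (Pair.fams x yk).comap φ with hH₀
    have hpH : IsPGroup p H₀ := (Pair.isPGroup_of_unipotent p hu).comap_of_injective φ toEndUnits_injective
    have hH₀M : ∀ z ∈ H₀, z ∈ M := fun z hz => by
      obtain ⟨m, hm', hme⟩ := hfam hz
      rwa [← toEndUnits_injective hme]
    let T : Subgroup H₀ :=
      { carrier := {z | IsTensor (z : orthGroup Q).1}
        one_mem' := by simpa using hm.row_tensor 1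
        mul_mem' := fun {z z'} h h' => IsTensor.mul h h'
        inv_mem' := fun {z} h => h.inv }
    obtain ⟨Ck, hCk, hCke⟩ := hm.exists_root hc hy hcy 1
    rw [one_smul] at hCk hCke
    have hk : g⁻¹ * hm.row Ck * g ∈ H₀ := Subgroup.subset_closure (Or.inr ⟨1, LinearMap.ext fun X => by
      rw [one_smul, toEndUnits_apply]
      show g.1.symm ((hm.row Ck).1 (g.1 X)) = X + g.1.symm (rootMap a qh c y (g.1 X))
      rw [← toEndUnits_apply, hCke, LinearMap.add_apply, Module.End.one_apply, map_add, g.1.symm_apply_apply]⟩)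
    have hL : hm.row CL ∈ H₀ := Subgroup.subset_closure (Or.inl ⟨1, by rw [one_smul]; exact hCLe⟩)
    haveI : Finite H₀ := inferInstance
    haveI := hpH.isNilpotent
    have hlt : T < ⊤ := lt_top_iff_ne_top.2 fun h => hroot hg hgT hCk hc0 hyc
      (show (⟨_, hk⟩ : H₀) ∈ T from h ▸ Subgroup.mem_top _)
    obtain ⟨z, hz, hzT⟩ := SetLike.exists_of_lt (normalizerCondition_of_isNilpotent T hlt)
    have hconj := (Subgroup.mem_normalizer_iff''.1 hz ⟨_, hL⟩).1 (hm.row_tensor CL)
    exact hroot (hH₀M _ z.2) hzT hCL hb₀0 hb₁b₀ hconj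
  -- the involution
  obtain ⟨i, hi, rfl⟩ := hfam hγ
  have hie : ∀ X, i.1 X = X - (e X + e X) := fun X => by
    rw [← toEndUnits_apply, hγe]; rfl
  have hiT : IsTensor i.1 := by
    by_contra hnT
    refine hroot hi hnT hCL hb₀0 hb₁b₀ ?_
    have hcomm : hm.row CL * i = i * hm.row CL := toEndUnits_injective (Units.ext (by
      rw [map_mul, map_mul, Units.val_mul, Units.val_mul, hCLe, hγe]
      exact (((Commute.one_left _).add_left
        ((Commute.one_right x).sub_right (hex.symm.add_right hex.symm)))).eq))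
    rw [mul_assoc, hcomm, inv_mul_cancel_left]
    exact hm.row_tensor CL
  have hxle : finrank F (LinearMap.range (e * x)) ≤ 2 * a := by
    have hle : LinearMap.range (e * x) ≤ (LinearMap.range ((sl2 a b₀).coprod (sl2 a b₁))) := by
      rw [hex.eq]
      rintro _ ⟨X, rfl⟩
      exact ⟨(-ct a qh b₁ (e X), ct a qh b₀ (e X)), by
        show _ = rootMap a qh b₀ b₁ (e X)
        rw [rootMap_apply]
        simp [sub_eq_add_neg, add_comm, neg_vecMulVec]⟩
    refine (Submodule.finrank_mono hle).trans ((LinearMap.finrank_range_le _).trans ?_)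
    rw [finrank_prod, finrank_fin_fun]; omega
  have heyx : e * yk = yk * (e * x) * (q * (e * yk)) := by
    have h1 : x * yk * q * e * yk = 0 := by
      simp only [mul_assoc]
      rw [← mul_assoc yk q, ← hqy.eq, mul_assoc q yk, ← mul_assoc yk e, ← hey.eq, mul_assoc e, hyk2]
      simp
    have h2 : q * (e * yk) = e * (q * (e * yk)) := by
      conv_lhs => rw [← he, mul_assoc, ← mul_assoc q e, hqe.eq, mul_assoc]
    calc e * yk = (x * yk + yk * x) * q * e * yk := by rw [heq]
      _ = x * yk * q * e * yk + yk * x * q * e * yk := by noncomm_ring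
      _ = yk * (x * (q * (e * yk))) := by rw [h1, zero_add]; noncomm_ring
      _ = yk * (x * (e * (q * (e * yk)))) := by rw [← h2]
      _ = yk * (e * x) * (q * (e * yk)) := by rw [hex.eq]; noncomm_ring
  have hey' : finrank F (LinearMap.range (e * yk)) ≤ finrank F (LinearMap.range (e * x)) := by
    rw [heyx]
    refine (Submodule.finrank_mono ?_).trans (Submodule.finrank_map_le yk (LinearMap.range (e * x)))
    rintro _ ⟨X, rfl⟩
    exact Submodule.mem_map_of_mem (LinearMap.mem_range_self (e * x) _)
  have hsum : finrank F (LinearMap.range e) ≤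
      finrank F (LinearMap.range (e * x)) + finrank F (LinearMap.range (e * yk)) := by
    refine (Submodule.finrank_mono ?_).trans (Submodule.finrank_add_le_finrank_add_finrank _ _)
    rintro _ ⟨X, rfl⟩
    have h : e X = (e * x) (yk (q (e X))) + (e * yk) (x (q (e X))) := by
      conv_lhs => rw [← he, Module.End.mul_apply]
      nth_rewrite 2 [← heq]
      simp only [Module.End.mul_apply, LinearMap.add_apply, map_add]
      rfl
    rw [h]
    exact Submodule.add_mem_sup (LinearMap.mem_range_self _ _) (LinearMap.mem_range_self _ _)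
  obtain ⟨W, hW, hb₀W, hb₁W, heW, he4⟩ := hm.range_of_involution hpar (by omega) hb hiT he he0 hie hb₀0 hb₀ hb₁ hb₀₁
    hb₁b₀ hex (by rw [← hx]; omega)
  have hykle : LinearMap.range yk ≤ LinearMap.range ψ := by
    rintro _ ⟨X, rfl⟩
    exact ⟨(-ct a qh y (g.1 X), ct a qh c (g.1 X)), by
      show g.1.symm _ = g.1.symm (rootMap a qh c y (g.1 X))
      rw [rootMap_apply]
      simp [sub_eq_add_neg, add_comm, neg_vecMulVec]⟩
  have hψe : LinearMap.range ψ ≤ LinearMap.range e := by
    have h1 : LinearMap.range (e * yk) ≤ LinearMap.range ψ := by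
      rw [hey.eq]
      exact (LinearMap.range_comp_le_range e yk).trans hykle
    rw [← Submodule.eq_of_le_of_finrank_le h1 (by omega)]
    exact LinearMap.range_comp_le_range yk e
  have hRW : R ≤ W := Submodule.span_le.2 fun w ⟨uv, j, hw⟩ => hw ▸ heW (hψe ⟨uv, rfl⟩) j
  have hXW : Submodule.span F (Set.range (R.subtype ∘ f)) ≤ W :=
    Submodule.span_le.2 fun w ⟨j, hj⟩ => hj ▸ hRW (f j).2
  set P₂ := (F ∙ b₀) ⊔ (F ∙ b₁)
  have hP₂ : 2 ≤ finrank F P₂ := by
    have hlt : (F ∙ b₀) < P₂ := lt_of_le_of_ne le_sup_left fun h =>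
      hb₁b₀ (h ▸ Submodule.mem_sup_right (Submodule.mem_span_singleton_self b₁))
    have := Submodule.finrank_lt_finrank_of_lt hlt
    rw [finrank_span_singleton hb₀0] at this
    omega
  have hdis : P₂ ⊓ Submodule.span F (Set.range (R.subtype ∘ f)) = ⊥ := (Submodule.eq_bot_iff _).2 fun w hw => by
    obtain ⟨_, h1, _, h2', rfl⟩ := Submodule.mem_sup.1 hw.1
    obtain ⟨s, rfl⟩ := Submodule.mem_span_singleton.1 h1
    obtain ⟨t, rfl⟩ := Submodule.mem_span_singleton.1 h2'
    obtain ⟨rfl, rfl⟩ := havoid s t hw.2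
    simp
  have h5 := Submodule.finrank_sup_add_finrank_inf_eq P₂ (Submodule.span F (Set.range (R.subtype ∘ f)))
  rw [hdis, finrank_bot, add_zero, finrank_span_eq_card hf', Fintype.card_fin] at h5
  have h6 := Submodule.finrank_mono (sup_le (sup_le ((Submodule.span_singleton_le_iff_mem _ _).2 hb₀W)
    ((Submodule.span_singleton_le_iff_mem _ _).2 hb₁W)) hXW : P₂ ⊔ _ ≤ W)
  omega

end Model

end CfsgLib.Classical.TensorMaxO
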