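import Cfsg.Agent.Lib.Classical.TensorMaxO.Rad
import Cfsg.Agent.Lib.Classical.TensorMaxS.Rad
import Cfsg.Agent.Lib.Classical.OrthMaxND

/-!
# A Siegel element with pure parameters from a radical element
-/

set_option autoImplicit false
set_option linter.unusedSectionVars false

namespace CfsgLib.Classical.TensorMaxO

open Matrix Module QuadraticMap CfsgLib.Orth CfsgLib.Classical

variable {F : Type*} [Field F] [Fintype F] {a b : ℕ} {Q : QuadraticForm F (Matrix (Fin a) (Fin b) F)}
  {qf : QuadraticForm F (Fin a → F)} {qh : QuadraticForm F (Fin b → F)} {M : Subgroup (orthGroup Q)}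
  {c : Fin b → F}

/-- The element to find. -/
def Start (M : Subgroup (orthGroup Q)) (qf : QuadraticForm F (Fin a → F)) (qh : QuadraticForm F (Fin b → F)) : Prop :=
  ∃ (u u' : Fin a → F) (c : Fin b → F), u ≠ 0 ∧ qf u = 0 ∧ polar qf u u' = 0 ∧ qf u' ≠ 0 ∧ c ≠ 0 ∧ qh c = 0 ∧
    SiegelIn M (vecMulVec u c) (vecMulVec u' c)

/-- In dimension four the form has no totally singular plane. -/
def NoPlane (qf : QuadraticForm F (Fin a → F)) : Prop :=
  a = 4 → ∀ u v, u ≠ 0 → qf u = 0 → qf v = 0 → polar qf u v = 0 → v ∈ F ∙ u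

namespace Model

variable {hm : Model Q qf qh} (hF : ContainsFactors hm M)
include hF

/-- A non-trivial central element gives a Siegel element. -/
theorem start_of_centre (ha : 3 ≤ a) (hplane : NoPlane qf) (hc0 : c ≠ 0) (hc : qh c = 0) {S : (Fin a → F) →ₗ[F] (Fin a → F)}
    (e : Centre M qh c S) (hS : S ≠ 0) : Start M qf qh := by
  obtain ⟨d, hd, hcd⟩ := exists_partner hm.ndh hc hc0
  have hdc : polar qh d c = 1 := by rw [polar_comm]; exact hcd
  have hskew : ∀ u, polar qf u (S u) = 0 := by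
    obtain ⟨z, -, hX⟩ := e
    intro u
    have h := apply_quad z (vecMulVec u d)
    rw [hX, ct_vecMulVec, hcd, one_smul, quad_add', hm.pure_singular _ hc, hm.pol, hdc, hm.pure_singular _ hd] at h
    linear_combination h
  have hskew' : ∀ u x, polar qf u (S x) = -polar qf (S u) x := fun u x => by
    have h := hskew (u + x)
    rw [map_add, polar_add_left, polar_add_right, polar_add_right, hskew, hskew, polar_comm _ x (S u)] at h
    linear_combination h
  obtain ⟨u₀, hu₀, hw⟩ : ∃ u₀, qf u₀ = 0 ∧ S u₀ ∉ F ∙ u₀ := by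
    by_contra! hall
    obtain ⟨l, hl⟩ := scalar_of_eigen hm.ndf hm.two (by rw [finrank_fin_fun]; exact ha) S hall
    obtain ⟨y, -, hy⟩ := exists_anisotropic_in hm.ndf (S := ⊤) (by rw [finrank_top, finrank_fin_fun]; omega)
    have h := hskew y
    rw [hl, LinearMap.smul_apply, LinearMap.id_apply, polar_smul_r', polar_self'] at h
    exact hS (by rw [hl, (mul_eq_zero.1 h).resolve_right (mul_ne_zero hm.two hy), zero_smul])
  have hu0' : u₀ ≠ 0 := fun e' => hw (by rw [e', map_zero]; exact zero_mem _)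
  set w := S u₀ with hwdef
  suffices H : ∀ z, polar qf u₀ z = 0 →
      SiegelIn M (vecMulVec u₀ c) (vecMulVec ((-2 : F) • (qf z • w - polar qf z w • z)) c) by
    by_cases hqw : qf w = 0
    swap
    · refine ⟨u₀, (-2 : F) • (qf w • w - polar qf w w • w), c, hu0', hu₀, ?_, ?_, hc0, hc, H w (hskew u₀)⟩
      · simp only [polar_smul_r', polar_sub_right, show polar qf u₀ w = 0 from hskew u₀]; ring
      · rw [quad_smul', polar_self', show qf w • w - (2 * qf w) • w = (-qf w) • w by module, quad_smul']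
        exact mul_ne_zero (mul_ne_zero (neg_ne_zero.2 hm.two) (neg_ne_zero.2 hm.two))
          (mul_ne_zero (mul_ne_zero (neg_ne_zero.2 hqw) (neg_ne_zero.2 hqw)) hqw)
    have huw : polar qf u₀ w = 0 := hskew u₀
    have ha5 : 5 ≤ a := by
      by_contra hlt
      have hspan : ∀ x ∈ (F ∙ u₀) ⊔ (F ∙ w), qf x = 0 := by
        intro x hx
        obtain ⟨_, h1, _, h2, rfl⟩ := Submodule.mem_sup.1 hx
        obtain ⟨s, rfl⟩ := Submodule.mem_span_singleton.1 h1
        obtain ⟨t, rfl⟩ := Submodule.mem_span_singleton.1 h2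
        rw [quad_add', quad_smul', quad_smul', polar_smul_l', polar_smul_r', hu₀, hqw, huw]; ring
      have h1 := singular_finrank_le hm.ndf _ hspan
      have hlt' : (F ∙ u₀) < (F ∙ u₀) ⊔ (F ∙ w) := lt_of_le_of_ne le_sup_left fun h =>
        hw (h ▸ Submodule.mem_sup_right (Submodule.mem_span_singleton_self w))
      have h2 := Submodule.finrank_lt_finrank_of_lt hlt'
      rw [finrank_span_singleton hu0'] at h2
      rw [finrank_fin_fun] at h1
      exact hw (hplane (by omega) u₀ w hu0' hu₀ hqw huw)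
    obtain ⟨z, hz, hqz⟩ := exists_anisotropic_in hm.ndf
      (S := LinearMap.ker (polarBilin qf u₀) ⊓ LinearMap.ker (polarBilin qf w)) (by
        have := finrank_kerPolar (Q := qf) u₀
        have := finrank_perp_vec (Q := qf) (S := LinearMap.ker (polarBilin qf u₀)) w
        rw [finrank_fin_fun] at *; omega)
    obtain ⟨huz, hwz⟩ := hz
    rw [SetLike.mem_coe, mem_ker_polar] at huz hwz
    have hS := H z huz
    rw [polar_comm _ z w, hwz, zero_smul, sub_zero, smul_smul] at hS
    set v := ((-2 : F) * qf z) • w with hvdef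
    obtain ⟨e₂, he₂, hue₂, hwe₂⟩ := exists_partner_perp hm.ndf hqw huw hw
    obtain ⟨γ, hγ, hqγ⟩ := exists_anisotropic_in hm.ndf
      (S := LinearMap.ker (polarBilin qf u₀) ⊓ LinearMap.ker (polarBilin qf e₂)) (by
        have := finrank_kerPolar (Q := qf) u₀
        have := finrank_perp_vec (Q := qf) (S := LinearMap.ker (polarBilin qf u₀)) e₂
        rw [finrank_fin_fun] at *; omega)
    obtain ⟨huγ, he₂γ⟩ := hγ
    rw [SetLike.mem_coe, mem_ker_polar] at huγ he₂γ
    obtain ⟨A, hA⟩ := exists_isSiegel hm.ndf he₂ he₂γ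
    have hAu : A.1 u₀ = u₀ := by
      rw [hA.2.2, polar_comm _ e₂ u₀, hue₂, polar_comm _ γ u₀, huγ]; simp
    have h1 := SiegelIn.conj hS (hF.col_siegel hA)
    rw [hm.col_pure, hm.col_pure, hAu] at h1
    have huv : polar qf u₀ v = 0 := by rw [hvdef, polar_smul_r', huw, mul_zero]
    have huAv : polar qf u₀ (A.1 v) = 0 := by rw [← hAu, polar_isom, huv]
    have h2 := SiegelIn.add hm.nondeg (hm.pure_singular u₀ hc) (by rw [hm.pol, huv, zero_mul])
      (by rw [hm.pol, huAv, zero_mul]) hS h1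
    rw [← add_vecMulVec] at h2
    refine ⟨u₀, v + A.1 v, c, hu0', hu₀, by rw [polar_add_right, huv, huAv, add_zero], ?_, hc0, hc, h2⟩
    rw [quad_add', apply_quad, hA.2.2]
    simp only [hvdef, quad_smul', polar_add_right, polar_smul_r', polar_smul_l', polar_self', hqw,
      polar_comm _ e₂ w, hwe₂, polar_comm _ γ w]
    intro h
    exact mul_ne_zero (mul_ne_zero (mul_ne_zero (neg_ne_zero.2 hm.two) hqz) (mul_ne_zero (neg_ne_zero.2 hm.two) hqz))
      hqγ (by linear_combination -h)
  intro z huz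
  obtain ⟨A, hA⟩ := exists_isSiegel hm.ndf hu₀ huz
  obtain ⟨A', hA'⟩ := exists_isSiegel hm.ndf hu₀ (show polar qf u₀ (-z) = 0 by rw [polar_neg_right, huz, neg_zero])
  have e1 := centre_col hF (siegel_mem_commutator hm.ndf hm.two hA) e
  have e2 := centre_col hF (siegel_mem_commutator hm.ndf hm.two hA') e
  rw [siegel_pair hA hA'] at e1
  rw [siegel_pair hA' (by rwa [neg_neg])] at e2
  obtain ⟨k, hk, hX⟩ := (((e1.add hc e2).sub hc e).sub hc e)
  intro g hg
  rwa [show g = k from Subtype.ext (LinearEquiv.ext fun X => by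
    rw [hX, hg.2.2, hm.pure_singular _ hc, zero_mul, sub_zero, hm.pol_left, hm.pol_left]
    simp only [LinearMap.sub_apply, LinearMap.add_apply, LinearMap.comp_apply, LinearEquiv.coe_coe]
    rw [sub_sub, ← two_smul F, second_diff hA hA']
    simp only [hskew' u₀, hskew z, hskew' z u₀, ← hwdef, polar_sub_left, polar_smul_l', polar_comm _ (S z) u₀,
      show polar qf u₀ w = 0 from hskew u₀, polar_comm _ w z, add_vecMulVec, sub_vecMulVec, smul_vecMulVec]
    module)]

/-- A non-scalar parameter gives a Siegel element. -/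
theorem start_of_el (ha : 3 ≤ a) (hplane : NoPlane qf) (hb : 5 ≤ b) (hq : (∃ s : F, s ≠ 0 ∧ s * s ≠ 1) ∨ 4 ≤ a) (hc0 : c ≠ 0)
    (hc : qh c = 0) {T : (Fin b → F) →ₗ[F] (Fin a → F) →ₗ[F] (Fin a → F)} (e : El M qh c T)
    (hns : ∃ y, polar qh c y = 0 ∧ ¬ ∃ s : F, T y = s • LinearMap.id) : Start M qf qh := by
  obtain ⟨r, hcr, hr, hns⟩ : ∃ r, polar qh c r = 0 ∧ qh r = 0 ∧ ¬ ∃ s : F, T r = s • LinearMap.id := by
    by_contra! hall
    obtain ⟨y, hy, hy'⟩ := hns
    set J : Submodule F ((Fin a → F) →ₗ[F] (Fin a → F)) := F ∙ LinearMap.id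
    have h := eq_zero_of_singular_perp hm.ndh hm.two (J.mkQ ∘ₗ T) (by rw [finrank_fin_fun]; exact hb) hc0
      (fun s hs hs' => by
        obtain ⟨l, hl⟩ := hall s hs hs'
        rw [LinearMap.comp_apply, Submodule.mkQ_apply, Submodule.Quotient.mk_eq_zero, hl]
        exact J.smul_mem _ (Submodule.mem_span_singleton_self _)) hy
    rw [LinearMap.comp_apply, Submodule.mkQ_apply, Submodule.Quotient.mk_eq_zero] at h
    obtain ⟨l, hl⟩ := Submodule.mem_span_singleton.1 h
    exact hy' ⟨l, hl.symm⟩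
  have hrc : r ∉ F ∙ c := fun hmem => by
    obtain ⟨t, rfl⟩ := Submodule.mem_span_singleton.1 hmem
    obtain ⟨z, -, hzc, hzy⟩ := e
    refine hns ⟨0, LinearMap.ext fun u => ?_⟩
    have h := hzy u c (by rw [polar_self', hc, mul_zero])
    rw [hzc, left_eq_add, TensorMax.vecMulVec_eq_zero_iff'] at h
    rw [map_smul, zero_smul, LinearMap.smul_apply, h.resolve_right hc0]
    simp
  set P := T r
  have eP := el_rank_one hF hb hc0 hc e hr hcr
  obtain ⟨d, hd, hcd⟩ := exists_partner hm.ndh hc hc0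
  obtain ⟨e₂, he₂, hce₂, hre₂⟩ := exists_partner_perp hm.ndh hr hcr hrc
  set P' := TensorMaxS.adj hm.ndf P
  have hP : ∀ u x, polar qf (P' u) x = polar qf u (P x) := fun u x => TensorMaxS.adj_left hm.ndf P u x
  by_cases hsym : P' = P
  swap
  · have e₁ := el_siegel hF (r := -e₂) (by rw [polar_neg_right, hce₂, neg_zero]) hc
    rw [neg_neg] at e₁
    have ec := centre_of_el hF hd hcd hc hcr hce₂ (P₁' := LinearMap.id) hP (fun u x => rfl) eP e₁
    refine start_of_centre hF ha hplane hc0 hc ec fun h0 => hsym ?_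
    rw [hre₂, one_smul, LinearMap.id_comp, LinearMap.comp_id, sub_eq_zero] at h0
    exact h0
  obtain ⟨u₀, hu₀, hτ⟩ : ∃ u₀, qf u₀ = 0 ∧ polar qf u₀ (P u₀) ≠ 0 := by
    by_contra! hall
    exact hns (scalar_of_singular_form hm.ndf hm.two (by rwa [finrank_fin_fun]) (by rw [finrank_fin_fun]; exact ha) P
      (fun x y => by rw [← hP, hsym]) hall)
  set τ := polar qf u₀ (P u₀)
  -- second differences
  have hD : ∀ z, polar qf u₀ z = 0 → ∃ D : (Fin a → F) →ₗ[F] (Fin a → F), El M qh c ((polarBilin qh r).smulRight D) ∧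
      ∀ x, D x = (2 : F) • ((-(qf z * polar qf u₀ (P x))) • u₀ - (qf z * polar qf u₀ x) • P u₀ +
        (qf z * qf z * polar qf u₀ x * polar qf u₀ (P u₀)) • u₀ -
          ((polar qf u₀ x * polar qf u₀ (P z) - polar qf z x * polar qf u₀ (P u₀)) • z -
            (polar qf u₀ x * polar qf z (P z) - polar qf z x * polar qf z (P u₀)) • u₀)) := by
    intro z huz
    obtain ⟨A, hA⟩ := exists_isSiegel hm.ndf hu₀ huz
    obtain ⟨A', hA'⟩ := exists_isSiegel hm.ndf hu₀ (show polar qf u₀ (-z) = 0 by rw [polar_neg_right, huz, neg_zero])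
    have e1 := el_col hF (siegel_mem_commutator hm.ndf hm.two hA) eP
      (T' := (polarBilin qh r).smulRight (A.1.toLinearMap ∘ₗ P ∘ₗ A'.1.toLinearMap)) fun y x _ => by
        rw [siegel_pair hA hA']; simp [P]
    have e2 := el_col hF (siegel_mem_commutator hm.ndf hm.two hA') eP
      (T' := (polarBilin qh r).smulRight (A'.1.toLinearMap ∘ₗ P ∘ₗ A.1.toLinearMap)) fun y x _ => by
        rw [siegel_pair hA' (by rwa [neg_neg])]; simp [P]
    refine ⟨A.1.toLinearMap ∘ₗ P ∘ₗ A'.1.toLinearMap + A'.1.toLinearMap ∘ₗ P ∘ₗ A.1.toLinearMap - (2 : F) • P,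
      ((e1.add e2).sub (el_smul hF hc0 hc eP 2)).congr fun y _ => LinearMap.ext fun x => by simp; module,
      fun x => ?_⟩
    rw [← second_diff hA hA']
    rfl
  set Q₁ : (Fin a → F) →ₗ[F] (Fin a → F) := (polarBilin qf u₀).smulRight u₀ with hQ₁
  obtain ⟨k, hk, eQ⟩ : ∃ k : F, k ≠ 0 ∧ El M qh c ((polarBilin qh r).smulRight (k • Q₁)) := by
    rcases hq with ⟨s, hs0, hs1⟩ | hq4
    · obtain ⟨z, huz, hqz⟩ := exists_anisotropic_in hm.ndf (S := LinearMap.ker (polarBilin qf u₀))
        (by have := finrank_kerPolar (Q := qf) u₀; rw [finrank_fin_fun] at *; omega)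
      rw [mem_ker_polar] at huz
      obtain ⟨D, eD, hDx⟩ := hD z huz
      obtain ⟨D', eD', hD'x⟩ := hD (s • z) (by rw [polar_smul_r', huz, mul_zero])
      refine ⟨2 * (s * s) * (s * s - 1) * (qf z * qf z) * τ, ?_,
        (eD'.sub (el_smul hF hc0 hc eD (s * s))).congr fun y _ => LinearMap.ext fun x => ?_⟩
      · exact mul_ne_zero (mul_ne_zero (mul_ne_zero (mul_ne_zero hm.two (mul_ne_zero hs0 hs0)) (sub_ne_zero.2 hs1))
          (mul_ne_zero hqz hqz)) hτ
      simp only [hQ₁, LinearMap.sub_apply, LinearMap.smul_apply, LinearMap.smulRight_apply,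
        QuadraticMap.polarBilin_apply_apply, hDx, hD'x, quad_smul', polar_smul_l', polar_smul_r', map_smul]
      module
    · obtain ⟨z₁, z₂, h1, h2, h12, hq1, hq2⟩ := exists_anisotropic_two hm.ndf hm.two (by rwa [finrank_fin_fun]) hu₀
      obtain ⟨D₁, eD₁, hD₁⟩ := hD z₁ h1
      obtain ⟨D₂, eD₂, hD₂⟩ := hD z₂ h2
      obtain ⟨D₃, eD₃, hD₃⟩ := hD (z₁ + z₂) (by rw [polar_add_right, h1, h2, add_zero])
      obtain ⟨D₄, eD₄, hD₄⟩ := hD (z₁ + -z₂) (by rw [polar_add_right, polar_neg_right, h1, h2]; simp)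
      refine ⟨2 * (2 * 2) * (qf z₁ * qf z₂) * τ, ?_,
        ((((eD₃.add eD₄).sub eD₁).sub eD₁).sub (el_smul hF hc0 hc eD₂ 2)).congr fun y _ => LinearMap.ext fun x => ?_⟩
      · exact mul_ne_zero (mul_ne_zero (mul_ne_zero hm.two (mul_ne_zero hm.two hm.two)) (mul_ne_zero hq1 hq2)) hτ
      simp only [hQ₁, LinearMap.sub_apply, LinearMap.add_apply, LinearMap.smul_apply, LinearMap.smulRight_apply,
        QuadraticMap.polarBilin_apply_apply, hD₁, hD₂, hD₃, hD₄, quad_add', QuadraticMap.map_neg, polar_neg_right,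
        polar_neg_left, polar_add_left, polar_add_right, h12, map_add, map_neg]
      module
  -- move the first parameter
  obtain ⟨γ, hγ, hqγ⟩ := exists_anisotropic_in hm.ndh
    (S := LinearMap.ker (polarBilin qh c) ⊓ LinearMap.ker (polarBilin qh e₂))
    (by
      have := finrank_kerPolar (Q := qh) c
      have := finrank_perp_vec (Q := qh) (S := LinearMap.ker (polarBilin qh c)) e₂
      rw [finrank_fin_fun] at *; omega)
  obtain ⟨hcγ, he₂γ⟩ := hγ
  rw [SetLike.mem_coe, mem_ker_polar] at hcγ he₂γ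
  obtain ⟨C, hC⟩ := exists_isSiegel hm.ndh he₂ he₂γ
  have hCc : C.1 c = (1 : F) • c := by
    rw [hC.2.2, polar_comm _ e₂ c, hce₂, polar_comm _ _ c, hcγ]; simp
  have eC := el_row hF (siegel_mem_commutator hm.ndh hm.two hC) one_ne_zero hCc eQ
    (T' := (polarBilin qh (C.1 r)).smulRight (k • Q₁)) fun y _ => by
      rw [one_smul, LinearMap.smulRight_apply, LinearMap.smulRight_apply, QuadraticMap.polarBilin_apply_apply,
        QuadraticMap.polarBilin_apply_apply, ← polar_isom C r, Orth.inv_apply]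
  have hQsym : ∀ u x, polar qf ((k • Q₁) u) x = polar qf u ((k • Q₁) x) := fun u x => by
    simp only [hQ₁, LinearMap.smul_apply, LinearMap.smulRight_apply, QuadraticMap.polarBilin_apply_apply,
      polar_smul_l', polar_smul_r', polar_comm _ u u₀]
    ring
  have ec := centre_of_el hF hd hcd hc hcr (show polar qh c (C.1 r) = 0 by
    rw [show c = C.1 c by rw [hCc, one_smul], polar_isom, hcr]) hP hQsym eP eC
  refine start_of_centre hF ha hplane hc0 hc ec fun h0 => ?_
  have hne : polar qh r (C.1 r) ≠ 0 := by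
    rw [hC.2.2, polar_add_right, polar_add_right, polar_smul_r', polar_smul_r', polar_self', hr,
      polar_comm _ e₂ r, hre₂, polar_comm _ γ r]
    intro h
    apply hqγ
    linear_combination -h
  have h1 := LinearMap.congr_fun h0 u₀
  simp only [hsym, hQ₁, LinearMap.smul_apply, LinearMap.sub_apply, LinearMap.comp_apply, LinearMap.smulRight_apply,
    QuadraticMap.polarBilin_apply_apply, LinearMap.zero_apply, polar_self', hu₀, mul_zero, zero_smul, smul_zero,
    map_zero, sub_zero, smul_eq_zero] at h1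
  rcases h1 with h1 | h1 | h1 | h1
  · exact hne h1
  · exact hk h1
  · exact hτ h1
  · exact hτ (by simp [τ, h1, polar_zero_left])

end Model

end CfsgLib.Classical.TensorMaxO
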